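import Mathlib.RingTheory.Nakayama
import Mathlib.RingTheory.Finiteness.Basic
import Mathlib.RingTheory.Ideal.Quotient.Basic
import Mathlib.LinearAlgebra.FreeModule.PID
import Mathlib.LinearAlgebra.FreeModule.StrongRankCondition
import Mathlib.LinearAlgebra.Dimension.Free
import Groth.Agent.AbVar.K525.Count

/-!
# Chains of orders

Maximal subrings of orders have a maximal ideal which is an ideal of the bigger ring; a descent principle from a ring
to a subring of finite index.
-/

set_option autoImplicit false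

namespace K590.Chain

/-- A maximal subring `S` of a ring `T` finite over `ℤ` has a maximal ideal stable under multiplication by `T`. -/
theorem exists_max {S T : Type*} [CommRing S] [CommRing T] [Module.Finite ℤ T] (ι : S →+* T)
    (hns : ¬ Function.Surjective ι)
    (hmax : ∀ U : Subring T, ι.range ≤ U → U ≤ ι.range ∨ U = ⊤) :
    ∃ m : Ideal S, m.IsMaximal ∧ ∀ r : T, ∀ a ∈ m, ∃ a' ∈ m, ι a' = r * ι a := by
  let _ : Algebra S T := ι.toAlgebra
  have hsm : ∀ (s : S) (t : T), s • t = ι s * t := fun _ _ => rfl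
  have hfin : Module.Finite S T := by
    have : IsScalarTower ℤ S T := inferInstance
    exact Module.Finite.of_restrictScalars_finite ℤ S T
  let N : Submodule S T := LinearMap.range (Algebra.linearMap S T)
  have hN : ∀ t : T, t ∈ N ↔ ∃ s, ι s = t := fun t => Iff.rfl
  -- the conductor
  let c : Ideal S :=
    { carrier := {s | ∀ t : T, ι s * t ∈ N}
      zero_mem' := fun t => by rw [map_zero, zero_mul]; exact N.zero_mem
      add_mem' := fun {a b} ha hb t => by rw [map_add, add_mul]; exact N.add_mem (ha t) (hb t)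
      smul_mem' := fun r a ha t => by
        show ι (r * a) * t ∈ N
        rw [map_mul, mul_assoc]
        exact N.smul_mem r (ha t) }
  have hc : c ≠ ⊤ := by
    intro h
    have h1 : (1 : S) ∈ c := by rw [h]; trivial
    apply hns
    intro t
    have := h1 t
    rwa [map_one, one_mul] at this
  obtain ⟨m, hm, hcm⟩ := Ideal.exists_le_maximal c hc
  refine ⟨m, hm, ?_⟩
  -- the ideal `m T`
  let mT : Ideal T := m.map ι
  let U : Subring T :=
    { carrier := {t | ∃ s : S, ∃ x ∈ mT, t = ι s + x}
      zero_mem' := ⟨0, 0, mT.zero_mem, by rw [map_zero, add_zero]⟩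
      one_mem' := ⟨1, 0, mT.zero_mem, by rw [map_one, add_zero]⟩
      add_mem' := by
        rintro _ _ ⟨s, x, hx, rfl⟩ ⟨s', x', hx', rfl⟩
        exact ⟨s + s', x + x', mT.add_mem hx hx', by rw [map_add]; ring⟩
      mul_mem' := by
        rintro _ _ ⟨s, x, hx, rfl⟩ ⟨s', x', hx', rfl⟩
        refine ⟨s * s', ι s * x' + ι s' * x + x * x', ?_, by rw [map_mul]; ring⟩
        exact mT.add_mem (mT.add_mem (mT.mul_mem_left _ hx') (mT.mul_mem_left _ hx)) (mT.mul_mem_left _ hx')
      neg_mem' := by
        rintro _ ⟨s, x, hx, rfl⟩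
        exact ⟨-s, -x, mT.neg_mem hx, by rw [map_neg]; ring⟩ }
  have hU : ∀ t, t ∈ U ↔ ∃ s : S, ∃ x ∈ mT, t = ι s + x := fun _ => Iff.rfl
  have hUtop : U ≠ ⊤ := by
    intro htop
    have h1 : (⊤ : Submodule S (T ⧸ N)) ≤ m • (⊤ : Submodule S (T ⧸ N)) := by
      rintro y -
      obtain ⟨t, rfl⟩ := N.mkQ_surjective y
      have h2 : t ∈ U := by rw [htop]; trivial
      obtain ⟨s, x, hx, rfl⟩ := (hU t).1 h2
      have h3 : N.mkQ (ι s) = 0 := by
        rw [Submodule.mkQ_apply, Submodule.Quotient.mk_eq_zero]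
        exact ⟨s, rfl⟩
      rw [map_add, h3, zero_add]
      refine Submodule.span_induction (p := fun x _ => N.mkQ x ∈ m • (⊤ : Submodule S (T ⧸ N))) ?_ ?_ ?_ ?_ hx
      · rintro _ ⟨a, ha, rfl⟩
        have h4 : ι a = a • (1 : T) := by rw [hsm, mul_one]
        rw [h4, map_smul]
        exact Submodule.smul_mem_smul ha trivial
      · rw [map_zero]; exact Submodule.zero_mem _
      · intro u v _ _ hu hv
        rw [map_add]; exact Submodule.add_mem _ hu hv
      · intro b u hu _
        -- multiplication by `b` needs care: use generators again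
        have h5 : ∀ u ∈ mT, ∀ b : T, N.mkQ (b * u) ∈ m • (⊤ : Submodule S (T ⧸ N)) := by
          intro u hu
          refine Submodule.span_induction (p := fun u _ => ∀ b : T, N.mkQ (b * u) ∈ m • (⊤ : Submodule S (T ⧸ N)))
            ?_ ?_ ?_ ?_ hu
          · rintro _ ⟨a, ha, rfl⟩ b
            have h4 : b * ι a = a • b := by rw [hsm, mul_comm]
            rw [h4, map_smul]
            exact Submodule.smul_mem_smul ha trivial
          · intro b; rw [mul_zero, map_zero]; exact Submodule.zero_mem _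
          · intro u v _ _ hu hv b
            rw [mul_add, map_add]; exact Submodule.add_mem _ (hu b) (hv b)
          · intro c u _ hu b
            rw [smul_eq_mul, ← mul_assoc]
            exact hu (b * c)
        exact h5 u hu b
    obtain ⟨r, hr1, hr2⟩ := Submodule.exists_sub_one_mem_and_smul_eq_zero_of_fg_of_le_smul m ⊤
      (Module.Finite.fg_top (R := S) (M := T ⧸ N)) h1
    have h2 : r ∈ c := by
      intro t
      have h3 := hr2 (N.mkQ t) trivial
      rw [← map_smul, Submodule.mkQ_apply, Submodule.Quotient.mk_eq_zero] at h3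
      exact h3
    have h3 : (1 : S) ∈ m := by
      have h4 : (1 : S) = r - (r - 1) := by ring
      rw [h4]
      exact m.sub_mem (hcm h2) hr1
    exact hm.ne_top ((Ideal.eq_top_iff_one m).2 h3)
  have hUle : U ≤ ι.range := by
    rcases hmax U (by
      rintro _ ⟨s, rfl⟩
      exact ⟨s, 0, mT.zero_mem, by rw [add_zero]⟩) with h | h
    · exact h
    · exact absurd h hUtop
  have hmTr : ∀ x ∈ mT, ∃ s, ι s = x := by
    intro x hx
    obtain ⟨s, hs⟩ := hUle ((hU x).2 ⟨0, x, hx, by rw [map_zero, zero_add]⟩)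
    exact ⟨s, hs⟩
  -- the contraction of `m T`
  have hcomap : mT.comap ι = m := by
    symm
    refine hm.eq_of_le ?_ Ideal.le_comap_map
    intro htop
    have h1 : (1 : T) ∈ mT := by
      have : (1 : S) ∈ mT.comap ι := by rw [htop]; trivial
      rw [Ideal.mem_comap, map_one] at this
      exact this
    apply hns
    intro t
    exact hmTr t (by rw [← mul_one t]; exact mT.mul_mem_left t h1)
  intro r a ha
  have h1 : r * ι a ∈ mT := mT.mul_mem_left r (Ideal.mem_map_of_mem ι ha)
  obtain ⟨a', ha'⟩ := hmTr _ h1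
  refine ⟨a', ?_, ha'⟩
  rw [← hcomap, Ideal.mem_comap, ha']
  exact h1

/-- Subrings containing a subring of finite index form a finite set. -/
theorem finite_above {O : Type*} [CommRing O] [Module.Finite ℤ O] [Module.Free ℤ O] (R0 : Subring O) {n : ℕ} (hn : n ≠ 0)
    (h0 : ∀ x : O, (n : O) * x ∈ R0) : Finite {T : Subring O // R0 ≤ T} := by
  have hfin := K525.Count.finite_ideal O n hn
  let f : {T : Subring O // R0 ≤ T} → Set (O ⧸ Ideal.span {(n : O)}) := fun T =>
    Ideal.Quotient.mk (Ideal.span {(n : O)}) '' (T.1 : Set O)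
  have key : ∀ T T' : {T : Subring O // R0 ≤ T}, f T = f T' → T.1 ≤ T'.1 := by
    intro T T' h x hx
    have h1 : Ideal.Quotient.mk (Ideal.span {(n : O)}) x ∈ f T' := by rw [← h]; exact ⟨x, hx, rfl⟩
    obtain ⟨y, hy, hyx⟩ := h1
    rw [Ideal.Quotient.eq, Ideal.mem_span_singleton'] at hyx
    obtain ⟨z, hz⟩ := hyx
    have h2 : x = y - (n : O) * z := by rw [mul_comm, hz]; ring
    rw [h2]
    exact T'.1.sub_mem hy (T'.2 (h0 z))
  refine Finite.of_injective f fun T T' h => Subtype.ext (le_antisymm (key T T' h) (key T' T h.symm))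

/-- A descent principle. -/
theorem descend {O : Type*} [CommRing O] [Module.Finite ℤ O] [Module.Free ℤ O] (R0 : Subring O) {n : ℕ} (hn : n ≠ 0)
    (h0 : ∀ x : O, (n : O) * x ∈ R0) (P : Subring O → Prop) (htop : P ⊤)
    (hstep : ∀ S T : Subring O, R0 ≤ S → S < T → (∀ U : Subring O, S ≤ U → U ≤ T → U = S ∨ U = T) → P T → P S) :
    P R0 := by
  have hfin := finite_above R0 hn h0
  let A : Set {T : Subring O // R0 ≤ T} := {T | P T.1}
  obtain ⟨T0, hT0, hmin⟩ := (Set.toFinite A).exists_minimal ⟨⟨⊤, le_top⟩, htop⟩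
  by_cases hT : R0 = T0.1
  · rw [hT]; exact hT0
  · exfalso
    have hlt : R0 < T0.1 := lt_of_le_of_ne T0.2 hT
    let A' : Set {T : Subring O // R0 ≤ T} := {T | T.1 < T0.1}
    obtain ⟨S, hS, hSmax⟩ := (Set.toFinite A').exists_maximal ⟨⟨R0, le_rfl⟩, hlt⟩
    have hPS : P S.1 := by
      refine hstep S.1 T0.1 S.2 hS ?_ hT0
      intro U hSU hUT
      rcases eq_or_lt_of_le hUT with h | h
      · exact Or.inr h
      · left
        have h1 := hSmax (y := ⟨U, S.2.trans hSU⟩) h hSU
        exact le_antisymm h1 hSU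
    have h1 := hmin (y := S) hPS hS.le
    exact not_le_of_gt hS h1

end K590.Chain
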