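import Groth.Agent.AbVar.K590.Sub
import Groth.Agent.AbVar.K523.SubGal
import Groth.Agent.Hopf.K503.EtaleCount
import Mathlib.FieldTheory.Finite.GaloisField
import Mathlib.FieldTheory.IsAlgClosed.AlgebraicClosure
import Mathlib.RingTheory.Unramified.Basic

/-!
# Geometric points of finite group schemes on which the Frobenius is bijective

`hcard`: a finite group scheme over a finite field with bijective Frobenius has as many geometric points as its order;
`hreal`: subgroups of the group of geometric points stable under the Frobenius come from subgroup schemes.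
-/

set_option autoImplicit false

universe u v w

open CategoryTheory MonoidalCategory CartesianMonoidalCategory MonObj GrpObj AlgebraicGeometry Limits

namespace K590.EtT

section Alg

variable {k : Type u} [Field k]

theorem formallyUnramified {C : Type v} [CommRing C] [Algebra k C] (q : ℕ) (hq : (q : k) = 0)
    (hs : ∀ c : C, ∃ b : C, b ^ q = c) : Algebra.FormallyUnramified k C := by
  rw [Algebra.formallyUnramified_iff]
  refine subsingleton_of_forall_eq 0 fun x => ?_
  have hx : x ∈ Submodule.span C (Set.range (KaehlerDifferential.D k C)) := by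
    rw [KaehlerDifferential.span_range_derivation]; trivial
  induction hx using Submodule.span_induction with
  | mem x hx =>
    obtain ⟨c, rfl⟩ := hx
    obtain ⟨b, rfl⟩ := hs c
    have hq' : (q : C) = 0 := by
      rw [← map_natCast (algebraMap k C), hq, map_zero]
    rw [Derivation.leibniz_pow, ← Nat.cast_smul_eq_nsmul C, hq', zero_smul]
  | zero => rfl
  | add x y _ _ hx hy => rw [hx, hy, add_zero]
  | smul a x _ hx => rw [hx, smul_zero]

/-- Automorphisms act on points of finite algebras as powers of the Frobenius. -/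
theorem exists_pow_frob [Finite k] {Ω : Type w} [Field Ω] [Algebra k Ω] [Algebra.IsAlgebraic k Ω]
    {C : Type v} [CommRing C] [Algebra k C] [Module.Finite k C] (φ : C →ₐ[k] Ω) (σ : Ω ≃ₐ[k] Ω) :
    ∃ n : ℕ, ∀ c : C, σ (φ c) = φ c ^ (Nat.card k ^ n) := by
  have := Fintype.ofFinite k
  have hC : Finite C := Module.finite_of_finite k
  let E := IntermediateField.adjoin k (Set.range φ)
  have hr : (Set.range φ).Finite := Set.finite_range φ
  have hE : FiniteDimensional k E := by
    have := hr.to_subtype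
    exact IntermediateField.finiteDimensional_adjoin fun x _ => (Algebra.IsAlgebraic.isAlgebraic (R := k) x).isIntegral
  have hEf : Finite E := Module.finite_of_finite k
  obtain ⟨n, hn⟩ := (FiniteField.bijective_frobeniusAlgEquivOfAlgebraic_pow k E).2 (σ.restrictNormal E)
  refine ⟨n, fun c => ?_⟩
  have hc : φ c ∈ E := IntermediateField.subset_adjoin _ _ ⟨c, rfl⟩
  have h1 := AlgEquiv.restrictNormal_commutes σ E ⟨φ c, hc⟩
  rw [← hn] at h1
  have h2 : algebraMap E Ω ⟨φ c, hc⟩ = φ c := rfl
  rw [h2] at h1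
  rw [← h1, AlgEquiv.coe_pow, FiniteField.coe_frobeniusAlgEquivOfAlgebraic_iterate, Nat.card_eq_fintype_card, map_pow, h2]

end Alg

section Geom

open K525.AlgC K525.OrdC K525.AbsOrd K525.AVC K525.AbsD K525.Pts Groth.Agent.Books.AffBridge
open Groth.Agent.Sga3.H830.CommGrpProd Groth.Agent.Sga3.H830.CommAux
open K590.Mdl K590.Hyper K590.Sub

variable {k : Type u} [Field k]

/-- The geometric points. -/
noncomputable abbrev W (k : Type u) [Field k] : PtFun (Alg k) := ptFun (SpecOver k (AlgebraicClosure k))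

variable [Finite k]

theorem isIso_frC_of_mono (hord : IsOrd (ord (k := k))) {T : Alg k} (hT : Mono (frC T)) (hTo : ord T ≠ 0) {X : Alg k}
    (i : X ⟶ T) [Mono i] : IsIso (frC X) := by
  have h1 : Mono (frC X ≫ i) := by
    rw [frC_comm]; exact mono_comp _ _
  have h2 : Mono (frC X) := mono_of_mono (frC X) i
  exact hord.isIso_of_mono (frC X) (hord.ne_zero_of_mono i hTo) le_rfl

theorem unram {X : Alg k} (M : HM X) [IsIso (frC X)] : Algebra.FormallyUnramified k M.C := by
  have := Fintype.ofFinite k
  refine formallyUnramified (Nat.card k) ?_ fun c => ?_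
  · rw [Nat.card_eq_fintype_card]; exact Nat.cast_card_eq_zero k
  · obtain ⟨b, hb⟩ := HM.pull_surjective M M (frC X) c
    rw [M.pull_frC] at hb
    exact ⟨b, hb⟩

/-- The number of geometric points. -/
theorem hcard (hord : IsOrd (ord (k := k))) {T : Alg k} (hT : Mono (frC T)) (hTo : ord T ≠ 0) {X : Alg k} (i : X ⟶ T)
    (hi : Mono i) : Finite ((W k).obj X) ∧ Nat.card ((W k).obj X) = ord X := by
  have hX := isIso_frC_of_mono hord hT hTo i
  obtain ⟨M⟩ := exists_hm X (hord.ne_zero_of_mono i hTo)
  have := unram M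
  have h2 := K503.EtaleCount.card_algHom_eq_of_etale (k := k) (A := M.C) (AlgebraicClosure k)
  have e : (M.C →ₐ[k] AlgebraicClosure k) ≃ (W k).obj X := (HM.toPt M (AlgebraicClosure k)).trans Additive.ofMul
  have h3 : Nat.card ((W k).obj X) = ord X := by rw [← Nat.card_congr e, h2, M.ord_eq]
  refine ⟨?_, h3⟩
  apply Nat.finite_of_card_ne_zero
  rw [h3]
  exact hord.ne_zero_of_mono i hTo

omit [Finite k] in
theorem specAut_eq (σ : AlgebraicClosure k ≃ₐ[k] AlgebraicClosure k) :
    SGA7.specAut σ = specMap k (σ : AlgebraicClosure k →ₐ[k] AlgebraicClosure k) := rfl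

/-- Twists of a point by powers of the Frobenius. -/
noncomputable def tw {T : Alg k} (M : HM T) (φ : M.C →ₐ[k] AlgebraicClosure k) : ℕ → (M.C →ₐ[k] AlgebraicClosure k)
  | 0 => φ
  | n + 1 => (tw M φ n).comp (M.pull M (frC T) : M.C →ₐ[k] M.C)

theorem tw_apply {T : Alg k} (M : HM T) (φ : M.C →ₐ[k] AlgebraicClosure k) (n : ℕ) (c : M.C) :
    tw M φ n c = φ (c ^ (Nat.card k ^ n)) := by
  induction n generalizing c with
  | zero => rw [pow_zero, pow_one]; rfl
  | succ n ih =>
    show tw M φ n (M.pull M (frC T) c) = _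
    rw [M.pull_frC, ih, ← pow_mul, ← pow_succ']

theorem tw_mem {T : Alg k} (M : HM T) (U : AddSubgroup ((W k).obj T)) (hU : ∀ u ∈ U, (W k).map (frC T) u ∈ U)
    (φ : M.C →ₐ[k] AlgebraicClosure k) (hφ : Additive.ofMul (HM.toPt M (AlgebraicClosure k) φ) ∈ U) (n : ℕ) :
    Additive.ofMul (HM.toPt M (AlgebraicClosure k) (tw M φ n)) ∈ U := by
  induction n with
  | zero => exact hφ
  | succ n ih =>
    have h1 := hU _ ih
    have h2 : HM.toPt M (AlgebraicClosure k) (tw M φ n) ≫ und (frC T) = HM.toPt M (AlgebraicClosure k) (tw M φ (n + 1)) :=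
      HM.toPt_comp M M (frC T) (tw M φ n)
    rw [← h2]
    exact h1

/-- **Realization of subgroups stable under the Frobenius.** -/
theorem hreal (hord : IsOrd (ord (k := k))) {T : Alg k} (hT : Mono (frC T)) (hTo : ord T ≠ 0)
    (U : AddSubgroup ((W k).obj T)) (hU : ∀ u ∈ U, (W k).map (frC T) u ∈ U) :
    ∃ (K : Alg k) (i : K ⟶ T), Mono i ∧ U ≤ ((W k).map i).range ∧ ord K ≤ Nat.card U := by
  obtain ⟨M⟩ := exists_hm T hTo
  have hfin : IsFinite T.obj.X.hom := (ord_ne_zero_iff T).1 hTo
  -- stability under automorphisms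
  have hgal : ∀ (σ : AlgebraicClosure k ≃ₐ[k] AlgebraicClosure k) (x : SpecOver k (AlgebraicClosure k) ⟶ T.obj.X),
      Additive.ofMul x ∈ U → Additive.ofMul (SGA7.galAct σ x) ∈ U := by
    intro σ x hx
    obtain ⟨φ, rfl⟩ := (HM.toPt M (AlgebraicClosure k)).surjective x
    obtain ⟨n, hn⟩ := exists_pow_frob φ σ
    have h1 : SGA7.galAct σ (HM.toPt M (AlgebraicClosure k) φ) = HM.toPt M (AlgebraicClosure k) (tw M φ n) := by
      have e1 : (σ : AlgebraicClosure k →ₐ[k] AlgebraicClosure k).comp φ = tw M φ n := by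
        apply AlgHom.ext
        intro c
        rw [tw_apply, map_pow]
        exact hn c
      rw [← e1, HM.toPt_apply, HM.toPt_apply, specMap_comp, Category.assoc]
      rfl
    rw [h1]
    exact tw_mem M U hU φ hx n
  obtain ⟨N, _, n, hn, ho, hc, hN⟩ := K523.SubGal.exists_sub (Ω := AlgebraicClosure k) T.obj.X (AddSubgroup.toSubgroup' U)
    (fun σ x hx => hgal σ x hx)
  have hm : Mono n := by
    have : Mono ((Over.forget _).map n) := inferInstanceAs (Mono n.left)
    exact (Over.forget _).mono_of_mono_map this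
  have hcomm : IsCommMonObj N := isCommMonObj_of_mono n
  have hNfin : IsFinite N.hom := by
    have : IsFinite (n.left ≫ T.obj.X.hom) := inferInstance
    rwa [Over.w] at this
  let K : Alg k := ⟨CommGrp.mk N, (inferInstance : LocallyOfFiniteType N.hom), (inferInstance : QuasiCompact N.hom)⟩
  let i : K ⟶ T := mkHomP (G := K) (H := T) n hn
  have hmi : Mono (und i) := hm
  have hi : Mono i := mono_of_und i
  have hN' : ∀ x : SpecOver k (AlgebraicClosure k) ⟶ T.obj.X, Additive.ofMul x ∈ U ↔
      ∃ y : SpecOver k (AlgebraicClosure k) ⟶ N, y ≫ n = x := hN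
  obtain ⟨h1, h2⟩ := hcard hord hT hTo i hi
  obtain ⟨h3, h4⟩ := hcard hord hT hTo (𝟙 T) inferInstance
  refine ⟨K, i, hi, ?_, ?_⟩
  · intro x hx
    obtain ⟨y, hy⟩ := (hN' x.toMul).1 hx
    exact ⟨Additive.ofMul y, congrArg Additive.ofMul hy⟩
  · rw [← h2]
    refine Nat.card_le_card_of_injective (fun y : (W k).obj K => (⟨(W k).map i y, (hN' (y.toMul ≫ n)).2 ⟨y.toMul, rfl⟩⟩ : U)) ?_
    intro a b hab
    exact (W k).inj i hi (Subtype.ext_iff.1 hab)

end Geom

end K590.EtT
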