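import Groth.Agent.AbVar.K590.Step

/-!
# Extending the ring of endomorphisms up to isogeny

If `S ⊆ O` has finite index and `S` acts on `A`, then `O` acts on a quotient of `A` by a finite subobject.
-/

set_option autoImplicit false

universe w v u

open CategoryTheory Limits ZeroObject K525.AbsOrd K525.AbsD

namespace K590.Ext

open K590.OrdGI K590.OrdFrob K590.Step

variable {C : Type u} [Category.{v} C] [Abelian C]

theorem exists_ext {ord : C → ℕ} (h : IsOrd ord) {A : C} {S O : Type w} [CommRing S] [CommRing O] [Module.Finite ℤ S]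
    (ι : S →+* O) (hι : Function.Injective ι) {n : ℕ} (hn : n ≠ 0) (hno : ∀ x : O, ∃ s : S, ι s = n * x)
    (ρ : S →+* End A) {r : ℕ} (hA : Div ord A r) :
    ∃ (B : C) (q : A ⟶ B) (ρ' : O →+* End B), Epi q ∧ (∀ s, act ρ s ≫ q = q ≫ act ρ' (ι s)) ∧ Div ord B r ∧
      ∃ N : ℕ, N ≠ 0 ∧ ∀ {Z : C} (x : Z ⟶ A), x ≫ q = 0 → N • x = 0 := by
  have := noeth S
  choose σ hσ using hno
  let I : Ideal S :=
    { carrier := {s | ∃ x : O, ι s = n * x}
      zero_mem' := ⟨0, by rw [map_zero, mul_zero]⟩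
      add_mem' := by
        rintro a b ⟨x, hx⟩ ⟨y, hy⟩
        exact ⟨x + y, by rw [map_add, hx, hy, mul_add]⟩
      smul_mem' := by
        rintro c a ⟨x, hx⟩
        exact ⟨ι c * x, by rw [smul_eq_mul, map_mul, hx]; ring⟩ }
  have hI : ∀ x, σ x ∈ I := fun x => ⟨x, hσ x⟩
  have hnI : (n : S) ∈ I := ⟨1, by rw [map_natCast, mul_one]⟩
  obtain ⟨K, κ, hκ⟩ := exists_isKer ρ I (IsNoetherian.noetherian I)
  have := hκ.mono
  have hKne : ord K ≠ 0 := ord_ne_zero h (hA.ne hn) hnI hκ
  let q := cokernel.π κ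
  have hq : (ShortComplex.mk κ q (cokernel.condition κ)).Exact := ShortComplex.exact_cokernel κ
  have hex : ∀ {Z : C} (x : Z ⟶ A), x ≫ q = 0 → ∃ y : Z ⟶ K, y ≫ κ = x := fun x hx => ⟨hq.lift x hx, hq.lift_f x hx⟩
  have hB : Div ord (cokernel κ) r := div_quot h κ q (cokernel.condition κ) hex hKne hA
  obtain ⟨f, hf⟩ := exists_action (ι := RingHom.id S) (ρ := ρ) κ q (cokernel.condition κ) hex (fun s => by
    obtain ⟨t, ht⟩ := hκ.exists_act s
    exact ⟨t, ht.symm⟩)
  have hf' : ∀ s, act ρ s ≫ q = q ≫ act f s := hf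
  have hBn := hB.epi n hn
  -- divisibility
  have hdiv : ∀ x : O, kernel.ι (n • 𝟙 (cokernel κ)) ≫ act f (σ x) = 0 := by
    intro x
    let l := pullback.fst q (kernel.ι (n • 𝟙 (cokernel κ)))
    let s := pullback.snd q (kernel.ι (n • 𝟙 (cokernel κ)))
    have hs : Epi s := inferInstanceAs (Epi (pullback.snd q (kernel.ι (n • 𝟙 (cokernel κ)))))
    have hls : l ≫ q = s ≫ kernel.ι (n • 𝟙 (cokernel κ)) := pullback.condition
    rw [← cancel_epi s, comp_zero, ← Category.assoc, ← hls, Category.assoc, ← hf']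
    have hnq : (n • 𝟙 A) ≫ q = q ≫ (n • 𝟙 (cokernel κ)) := by rw [smul_id_comp, comp_smul_id]
    obtain ⟨y, hy⟩ := hex (l ≫ (n • 𝟙 A)) (by
      rw [Category.assoc, hnq, ← Category.assoc, hls, Category.assoc, kernel.condition, comp_zero])
    obtain ⟨z, hz⟩ := hκ.lift (l ≫ act ρ (σ x)) (by
      rintro t ⟨x', hx'⟩
      have h1 : t * σ x = σ (x' * x) * (n : S) := by
        apply hι
        rw [map_mul, map_mul, hx', hσ, hσ, map_natCast]
        ring
      rw [Category.assoc, ← act_mul, h1, act_mul, act_natCast, ← Category.assoc, ← hy, Category.assoc,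
        hκ.zero _ (hI _), comp_zero])
    rw [← Category.assoc, ← hz, Category.assoc, cokernel.condition, comp_zero]
  have hexk := ShortComplex.exact_kernel (n • 𝟙 (cokernel κ))
  let e : O → (cokernel κ ⟶ cokernel κ) := fun x => hexk.desc _ (hdiv x)
  have he : ∀ x, (n • 𝟙 (cokernel κ)) ≫ e x = act f (σ x) := fun x => hexk.g_desc _ (hdiv x)
  have hcomm : ∀ g : cokernel κ ⟶ cokernel κ, g ≫ (n • 𝟙 (cokernel κ)) = (n • 𝟙 (cokernel κ)) ≫ g := fun g => by
    rw [smul_id_comp, comp_smul_id]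
  let ρ' : O →+* End (cokernel κ) :=
    { toFun := fun x => e x
      map_one' := by
        show e 1 = 𝟙 _
        have h1 : σ 1 = (n : S) := hι (by rw [hσ, mul_one, map_natCast])
        rw [← cancel_epi (n • 𝟙 (cokernel κ)), he, h1, act_natCast, Category.comp_id]
      map_mul' := by
        intro x y
        show e (x * y) = e y ≫ e x
        have h1 : σ x * σ y = (n : S) * σ (x * y) := hι (by
          rw [map_mul, map_mul, hσ, hσ, hσ, map_natCast]; ring)
        rw [← cancel_epi (n • 𝟙 (cokernel κ)), ← cancel_epi (n • 𝟙 (cokernel κ)), he, ← act_natCast f, ← act_mul',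
          ← h1, act_mul, act_natCast, ← he, ← he, Category.assoc, ← Category.assoc (e y), hcomm, Category.assoc]
      map_zero' := by
        show e 0 = 0
        have h1 : σ 0 = (0 : S) := hι (by rw [hσ, mul_zero, map_zero])
        rw [← cancel_epi (n • 𝟙 (cokernel κ)), he, h1, act_zero, comp_zero]
      map_add' := by
        intro x y
        show e (x + y) = e x + e y
        have h1 : σ (x + y) = σ x + σ y := hι (by rw [map_add, hσ, hσ, hσ, mul_add])
        rw [← cancel_epi (n • 𝟙 (cokernel κ)), he, h1, act_add, Preadditive.comp_add, he, he] }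
  have hρ' : ∀ x, act ρ' x = e x := fun _ => rfl
  refine ⟨cokernel κ, q, ρ', inferInstance, ?_, hB, ord K, hKne, ?_⟩
  swap
  · intro Z x hx
    obtain ⟨y, rfl⟩ := hex x hx
    have h2 : ord K • (y ≫ κ) = y ≫ (ord K • 𝟙 K) ≫ κ := by
      rw [smul_id_comp, Preadditive.comp_nsmul]
    rw [h2, h.nsmul, zero_comp, comp_zero]
  intro s
  have h1 : σ (ι s) = (n : S) * s := hι (by rw [hσ, map_mul, map_natCast])
  have h2 : e (ι s) = act f s := by
    rw [← cancel_epi (n • 𝟙 (cokernel κ)), he, h1, act_mul', act_natCast]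
  rw [hρ', h2, hf']

end K590.Ext
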