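import Groth.Agent.AbVar.K590.LieT
import Groth.Agent.AbVar.K590.EtT
import Groth.Agent.AbVar.K590.Chain
import Groth.Agent.AbVar.K590.Ext

/-!
# Descent of the order acting on an abelian variety over the field with `p` elements

`step`: if the order `T` acts well on an abelian variety `B` with `F` acting as the Frobenius, then a maximal suborder `S`
containing `F` and `V = p / F` acts well on a quotient of `B`; `main`: the same for every suborder of finite index.
-/

set_option autoImplicit false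

universe w u

open CategoryTheory Limits AlgebraicGeometry

namespace K590.Desc

open K525.AlgC K525.OrdC K525.AbsOrd K525.AVC K525.AbsD K590.OrdGI K590.OrdFrob K590.Step K590.Hyper

section Ring

theorem finite_sub {O : Type*} [CommRing O] [Module.Finite ℤ O] (T : Subring O) : Module.Finite ℤ T := by
  have hinj : Function.Injective (T.subtype.toAddMonoidHom.toIntLinearMap) := Subtype.val_injective
  exact Module.Finite.of_injective _ hinj

theorem free_sub {O : Type*} [CommRing O] [Module.Finite ℤ O] [Module.Free ℤ O] (T : Subring O) : Module.Free ℤ T := by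
  have := finite_sub T
  have hinj : Function.Injective (T.subtype.toAddMonoidHom.toIntLinearMap) := Subtype.val_injective
  have htf : Module.IsTorsionFree ℤ T := hinj.moduleIsTorsionFree _ (fun n x => map_zsmul T.subtype n x)
  exact Module.free_of_finite_type_torsion_free'

theorem finrank_sub {O : Type*} [CommRing O] [Module.Finite ℤ O] [Module.Free ℤ O] (T : Subring O) {n : ℕ} (hn : n ≠ 0)
    (h0 : ∀ x : O, (n : O) * x ∈ T) : Module.finrank ℤ T = Module.finrank ℤ O := by
  have := finite_sub T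
  have := free_sub T
  have hinj : Function.Injective (T.subtype.toAddMonoidHom.toIntLinearMap) := Subtype.val_injective
  refine le_antisymm (LinearMap.finrank_le_finrank_of_injective hinj) ?_
  let f : O →ₗ[ℤ] T :=
    { toFun := fun x => ⟨(n : O) * x, h0 x⟩
      map_add' := fun x y => Subtype.ext (mul_add _ _ _)
      map_smul' := fun m x => Subtype.ext (by
        show (n : O) * (m • x) = m • ((n : O) * x)
        rw [mul_smul_comm]) }
  refine LinearMap.finrank_le_finrank_of_injective (f := f) ?_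
  intro x y hxy
  have h1 : (n : O) * x = (n : O) * y := Subtype.ext_iff.1 hxy
  rw [← nsmul_eq_mul, ← nsmul_eq_mul, ← natCast_zsmul, ← natCast_zsmul] at h1
  exact smul_right_injective O (Int.natCast_ne_zero.2 hn) h1

/-- Maximal ideals of orders contain a prime number. -/
theorem exists_prime {S : Type*} [CommRing S] [Module.Finite ℤ S] (m : Ideal S) (hm : m.IsMaximal) :
    ∃ ℓ : ℕ, ℓ.Prime ∧ (ℓ : S) ∈ m := by
  have hint : Algebra.IsIntegral ℤ S := Algebra.IsIntegral.of_finite ℤ S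
  have h1 : (m.comap (algebraMap ℤ S)).IsMaximal := Ideal.isMaximal_comap_of_isIntegral_of_isMaximal m
  have h2 : m.comap (algebraMap ℤ S) ≠ ⊥ := Ring.ne_bot_of_isMaximal_of_not_isField h1 Int.not_isField
  obtain ⟨a, ha, ha0⟩ := Submodule.exists_mem_ne_zero_of_ne_bot h2
  have h3 : ((a.natAbs : ℕ) : S) ∈ m := by
    have h4 : ((a.natAbs : ℕ) : S) = algebraMap ℤ S (a.natAbs : ℤ) := by simp
    rw [h4]
    have : (a.natAbs : ℤ) ∈ m.comap (algebraMap ℤ S) := by
      rcases Int.natAbs_eq a with h | h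
      · rw [← h]; exact ha
      · have : (a.natAbs : ℤ) = -a := by omega
        rw [this]; exact neg_mem ha
    exact this
  have key : ∀ n : ℕ, n ≠ 0 → (n : S) ∈ m → ∃ ℓ : ℕ, ℓ.Prime ∧ (ℓ : S) ∈ m := by
    intro n
    induction n using Nat.strong_induction_on with
    | _ n ih =>
      intro hn hnm
      by_cases h1 : n = 1
      · exfalso
        rw [h1, Nat.cast_one] at hnm
        exact hm.ne_top ((Ideal.eq_top_iff_one m).2 hnm)
      · have hp := Nat.minFac_prime h1
        obtain ⟨c, hc⟩ := Nat.minFac_dvd n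
        have hc0 : c ≠ 0 := by rintro rfl; exact hn (by rw [hc, mul_zero])
        have hlt : c < n := by
          rw [hc]
          exact lt_mul_of_one_lt_left (Nat.pos_of_ne_zero hc0) hp.one_lt
        have h2 : (n.minFac : S) * (c : S) ∈ m := by rw [← Nat.cast_mul, ← hc]; exact hnm
        rcases hm.isPrime.mem_or_mem h2 with h | h
        · exact ⟨_, hp, h⟩
        · exact ih c hlt hc0 h
  exact key _ (Int.natAbs_ne_zero.2 ha0) h3

end Ring

variable {k : Type u} [Field k] [Finite k]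

/-- The statement to be descended. -/
def P (k : Type u) [Field k] [Finite k] {O : Type w} [CommRing O] (F : O) (T : Subring O) : Prop :=
  ∃ (B : Alg k) (ρ : T →+* End B), IsAV B ∧ (∀ hF : F ∈ T, act ρ ⟨F, hF⟩ = frC B) ∧
    Div (ord (k := k)) B (Module.finrank ℤ O) ∧ Good (ord (k := k)) ρ

variable {p : ℕ} [hp : Fact p.Prime] (hk : Nat.card k = p) {O : Type w} [CommRing O] [Module.Finite ℤ O] [Module.Free ℤ O]
  {F V : O} (hFV : F * V = p)

include hk hFV in
/-- **The descent step.** -/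
theorem step {n : ℕ} (hn : n ≠ 0) (S T : Subring O) (hS0 : ∀ x : O, (n : O) * x ∈ S) (hFS : F ∈ S) (hVS : V ∈ S)
    (hST : S < T) (hmax : ∀ U : Subring O, S ≤ U → U ≤ T → U = S ∨ U = T) (hT : P k F T) : P k F S := by
  obtain ⟨B, ρ, hB, hρF, hdiv, hG⟩ := hT
  have hord := K525.ModC.isOrd (k := k) p hk
  have := finite_sub S
  have := free_sub S
  have := finite_sub T
  have := free_sub T
  have hrS := finrank_sub S hn hS0
  have hrT := finrank_sub T hn (fun x => hST.le (hS0 x))
  have hFT : F ∈ T := hST.le hFS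
  have hVT : V ∈ T := hST.le hVS
  let ι : S →+* T := Subring.inclusion hST.le
  have hι : ∀ s : S, ((ι s : T) : O) = (s : O) := fun _ => rfl
  obtain ⟨m, hm, hmT⟩ := K590.Chain.exists_max ι (by
    intro hs
    refine not_le_of_gt hST ?_
    intro x hx
    obtain ⟨s, hs'⟩ := hs ⟨x, hx⟩
    have : (s : O) = x := congrArg Subtype.val hs'
    rw [← this]; exact s.2) (by
    intro U hU
    rcases hmax (U.map T.subtype) (by
      intro x hx
      exact ⟨ι ⟨x, hx⟩, hU ⟨⟨x, hx⟩, rfl⟩, rfl⟩) (by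
      rintro _ ⟨y, _, rfl⟩
      exact y.2) with h | h
    · left
      intro y hy
      have h1 : (y : O) ∈ U.map T.subtype := ⟨y, hy, rfl⟩
      rw [h] at h1
      exact ⟨⟨y, h1⟩, rfl⟩
    · right
      rw [eq_top_iff]
      rintro y -
      have h1 : (y : O) ∈ U.map T.subtype := by rw [h]; exact y.2
      obtain ⟨z, hz, hzy⟩ := h1
      have : z = y := Subtype.ext hzy
      rw [← this]; exact hz)
  obtain ⟨ℓ, hℓ, hℓm⟩ := exists_prime m hm
  have : Fact ℓ.Prime := ⟨hℓ⟩
  let m' : Ideal T :=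
    { carrier := {x | ∃ a ∈ m, ι a = x}
      zero_mem' := ⟨0, m.zero_mem, map_zero ι⟩
      add_mem' := by
        rintro _ _ ⟨a, ha, rfl⟩ ⟨b, hb, rfl⟩
        exact ⟨a + b, m.add_mem ha hb, map_add ι a b⟩
      smul_mem' := by
        rintro r _ ⟨a, ha, rfl⟩
        exact hmT r a ha }
  have hm' : ∀ x : T, x ∈ m' ↔ ∃ a ∈ m, ι a = x := fun _ => Iff.rfl
  have hfinS : Finite (S ⧸ m) := by
    have h3 : Ideal.span {(ℓ : S)} ≤ m := (Ideal.span_singleton_le_iff_mem _).2 hℓm
    have := K525.Count.finite_ideal S ℓ hℓ.ne_zero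
    exact Finite.of_surjective _ (Ideal.Quotient.factor_surjective h3)
  have hnT := noeth T
  obtain ⟨X, τ, hX⟩ := exists_isKer ρ m' (IsNoetherian.noetherian m')
  have hτ := hX.mono
  have hXne : ord X ≠ 0 := by
    refine ord_ne_zero hord (hdiv.ne hℓ.ne_zero) (?_ : (ℓ : T) ∈ m') hX
    exact ⟨ℓ, hℓm, map_natCast ι ℓ⟩
  have hactF : act ρ (ι ⟨F, hFS⟩) = frC B := hρF hFT
  have hcomm : frC X ≫ τ = τ ≫ frC B := frC_comm τ
  -- the hyperplane
  obtain ⟨K, κ, a, hκm, haτ, hKne, hst, hsize, hno⟩ : ∃ (K : Alg k) (k' : K ⟶ B) (a : K ⟶ X), Mono k' ∧ a ≫ τ = k' ∧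
      ord K ≠ 0 ∧ (∀ s : S, ∃ s' : K ⟶ K, k' ≫ act ρ (ι s) = s' ≫ k') ∧ ord X ≤ ord K * Nat.card (S ⧸ m) ∧
      (∀ {Z : Alg k} (x : Z ⟶ B), (∀ r : T, ∃ y : Z ⟶ K, x ≫ act ρ r = y ≫ k') → x = 0) := by
    by_cases hFm : (⟨F, hFS⟩ : S) ∈ m
    · -- the Frobenius vanishes on `X`
      have hFX : frC X = 0 := by
        rw [← cancel_mono τ, hcomm, ← hactF, hX.zero _ ⟨_, hFm, rfl⟩, zero_comp]
      have hV1 : frC B ≫ act ρ (ι ⟨V, hVS⟩) = p • 𝟙 B := by
        rw [← hactF, ← act_mul', ← map_mul, ← act_natCast ρ]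
        congr 1
        exact Subtype.ext hFV
      have hV2 : act ρ (ι ⟨V, hVS⟩) ≫ frC B = p • 𝟙 B := by
        rw [← hV1, frC_comm]
      refine exists_hyper (K590.LieT.W k) hord hG hℓm hm' hfinS hX
        (fun i hi => K590.LieT.hcard hk hord hFX hXne i hi) ?_
      intro U hU
      obtain ⟨VT, hVT'⟩ := hX.exists_act (ι ⟨V, hVS⟩)
      exact K590.LieT.hreal hk hord hB hV1 hV2 hXne τ hFX VT hVT' U (fun u hu => hU ⟨V, hVS⟩ VT hVT' u hu)
    · -- the Frobenius is injective on `X`
      have hFX : Mono (frC X) := by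
        obtain ⟨c, hc⟩ : ∃ c : S, 1 - c * ⟨F, hFS⟩ ∈ m := by
          have h1 : m ⊔ Ideal.span {(⟨F, hFS⟩ : S)} = ⊤ := by
            refine hm.1.2 _ (lt_of_le_of_ne le_sup_left fun h => hFm ?_)
            rw [h]
            exact Submodule.mem_sup_right (Ideal.mem_span_singleton_self _)
          obtain ⟨y, hy, z, hz, hyz⟩ := Submodule.mem_sup.1 (h1 ▸ Submodule.mem_top : (1 : S) ∈ m ⊔ Ideal.span {(⟨F, hFS⟩ : S)})
          obtain ⟨c, rfl⟩ := Ideal.mem_span_singleton'.1 hz
          exact ⟨c, by rw [← hyz, add_sub_cancel_right]; exact hy⟩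
        have h2 : τ ≫ act ρ (ι (c * ⟨F, hFS⟩)) = τ := by
          have h3 : τ ≫ act ρ (ι (1 - c * ⟨F, hFS⟩)) = 0 := hX.zero _ ⟨_, hc, rfl⟩
          rw [map_sub, act_sub, map_one, act_one, Preadditive.comp_sub, Category.comp_id, sub_eq_zero] at h3
          exact h3.symm
        have h4 : frC X ≫ (τ ≫ act ρ (ι c)) = τ := by
          rw [← Category.assoc, hcomm, ← hactF, Category.assoc, ← act_mul, ← map_mul]
          exact h2
        have h5 : Mono (frC X ≫ (τ ≫ act ρ (ι c))) := by rw [h4]; exact hτ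
        exact mono_of_mono (frC X) (τ ≫ act ρ (ι c))
      refine exists_hyper (K590.EtT.W k) hord hG hℓm hm' hfinS hX
        (fun i hi => K590.EtT.hcard hord hFX hXne i hi) ?_
      intro U hU
      exact K590.EtT.hreal hord hFX hXne U (fun u hu => hU ⟨F, hFS⟩ (frC X) (by rw [hactF]; exact hcomm) u hu)
  -- the quotient
  let q := cokernel.π κ
  have hkq : κ ≫ q = 0 := cokernel.condition κ
  have hex : ∀ {Z : Alg k} (x : Z ⟶ B), x ≫ q = 0 → ∃ y : Z ⟶ K, y ≫ κ = x := by
    intro Z x hx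
    have hexi := ShortComplex.exact_cokernel κ
    exact ⟨hexi.lift x hx, hexi.lift_f x hx⟩
  obtain ⟨ρ', hρ'⟩ := exists_action (ι := ι) (ρ := ρ) κ q hkq hex hst
  obtain ⟨hQ1, hQ2⟩ := good_quot hord κ q hkq hex (hrS.trans hrT.symm) (by rw [hrT]; exact hdiv) hG hm hm' hX haτ hsize hKne
    hno ρ' hρ'
  refine ⟨cokernel κ, ρ', isAV_of_epi q hB, ?_, by rw [← hrS]; exact hQ1, hQ2⟩
  intro hF
  rw [← cancel_epi q, ← hρ', ← frC_comm]
  show act ρ (ι ⟨F, hFS⟩) ≫ q = _
  rw [hactF]

include hk hFV in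
/-- **Descent to suborders of finite index containing `F` and `V`.** -/
theorem main {n : ℕ} (hn : n ≠ 0) (R0 : Subring O) (h0 : ∀ x : O, (n : O) * x ∈ R0) (hF : F ∈ R0) (hV : V ∈ R0)
    (htop : P k F (⊤ : Subring O)) : P k F R0 :=
  K590.Chain.descend R0 hn h0 (P k F) htop fun S T hRS hST hmax hT =>
    step hk hFV hn S T (fun x => hRS (h0 x)) (hRS hF) (hRS hV) hST hmax hT

end K590.Desc
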