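import Groth.Agent.AbVar.K590.Base

/-!
# The base case: the maximal order
-/

set_option autoImplicit false

universe w v u

open CategoryTheory Limits Polynomial AlgebraicGeometry

namespace K590.Base2

open K525.AlgC K525.OrdC K525.AbsOrd K525.AVC K525.AbsD K590.OrdGI K590.OrdFrob K590.Step K590.Sum K590.Base

variable {k : Type u} [Field k] [Finite k] {p : ℕ} [hp : Fact p.Prime] (hk : Nat.card k = p)
  {J : Type} [Fintype J] {D : J → Type} [∀ j, CommRing (D j)] [∀ j, IsDedekindDomain (D j)] [∀ j, CharZero (D j)]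
  [∀ j, Module.Finite ℤ (D j)] [∀ j, Module.Free ℤ (D j)] (w : ∀ j, D j)

/-- Endomorphism rings of abelian varieties are finite over `ℤ`. -/
theorem exists_monic {X : Alg k} (hX : IsAV X) (g : X ⟶ X) :
    ∃ f : ℤ[X], f.Monic ∧ eval₂ (Int.castRingHom (End X)) (g : End X) f = 0 := by
  have i1 := hX.1
  have i2 := hX.2
  obtain ⟨-, hfin⟩ := K522.FFThm.free_finite X.obj.X X.obj.X
  let e : (X ⟶ X) ≃+ EndAV.Hom X.obj.X X.obj.X := K525.Conv.homE X.obj.X X.obj.X
  have hfin' : Module.Finite ℤ (X ⟶ X) := Module.Finite.equiv e.symm.toIntLinearEquiv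
  let _ : Algebra ℤ (End X) := Ring.toIntAlgebra _
  have hfin2 : Module.Finite ℤ (End X) := hfin'
  obtain ⟨f, hf, hf2⟩ := IsIntegral.of_finite ℤ (B := End X) g
  exact ⟨f, hf, hf2⟩

include hk in
/-- **The base case.** -/
theorem base (hrk : ∀ j, Module.finrank ℤ (D j) = (minpoly ℤ (w j)).natDegree)
    (hinj : ∀ i j, minpoly ℤ (w i) = minpoly ℤ (w j) → i = j)
    (B : J → Alg k) (hB : ∀ j, IsAV (B j)) (hd : ∀ j, Div (ord (k := k)) (B j) (minpoly ℤ (w j)).natDegree)
    (h0 : ∀ j, evF (B j) (minpoly ℤ (w j)) = 0) : K590.Desc.P k (w : ∀ j, D j) (⊤ : Subring (∀ j, D j)) := by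
  classical
  have hord := K525.ModC.isOrd (k := k) p hk
  have hint : ∀ j, IsIntegral ℤ (w j) := fun j => Algebra.IsIntegral.isIntegral (w j)
  have hB0 : ∀ j, 𝟙 (B j) ≠ 0 := by
    intro j h
    have h1 : IsZero (B j) := (IsZero.iff_id_eq_zero _).2 h
    have h2 := (hd j).card 2 two_ne_zero
    have h3 : ord (kernel (2 • 𝟙 (B j))) = 1 := hord.zero _ (IsZero.of_mono (kernel.ι _) h1)
    rw [h3] at h2
    have h4 : (minpoly ℤ (w j)).natDegree ≠ 0 := (minpoly.natDegree_pos (hint j)).ne'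
    exact absurd h2 (Nat.one_lt_two_pow h4).ne
  obtain ⟨A, i, q, hA, hdA, hiq, htot⟩ := exists_sum hord B _ hB hd Finset.univ
  let P := ∏ j, minpoly ℤ (w j)
  have hPm : P.Monic := monic_prod_of_monic _ _ fun j _ => minpoly.monic (hint j)
  have hPdeg : P.natDegree = ∑ j, (minpoly ℤ (w j)).natDegree :=
    natDegree_prod_of_monic _ _ fun j _ => minpoly.monic (hint j)
  have hPA : evF A P = 0 := by
    have h1 : (evF A P : A ⟶ A) = ∑ j, q j ≫ (evF (B j) P : B j ⟶ B j) ≫ i j := by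
      rw [← Category.id_comp (evF A P : A ⟶ A), ← htot, Preadditive.sum_comp]
      refine Finset.sum_congr rfl fun j _ => ?_
      rw [Category.assoc, evF_comm]
    have h2 : ∀ j, evF (B j) P = 0 := by
      intro j
      obtain ⟨c, hc⟩ := Finset.dvd_prod_of_mem (fun j => minpoly ℤ (w j)) (Finset.mem_univ j)
      show evF (B j) (∏ j, minpoly ℤ (w j)) = 0
      rw [hc, map_mul, h0, zero_mul]
    refine h1.trans (Finset.sum_eq_zero fun j _ => ?_)
    rw [h2 j]
    show q j ≫ (0 : B j ⟶ B j) ≫ i j = 0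
    rw [Limits.zero_comp, Limits.comp_zero]
  have hann : ∀ G : ℤ[X], evF A G = 0 → P ∣ G := by
    intro G hG
    refine prod_dvd hint hinj G fun j => ?_
    refine dvd_of_evF (hint j) (fun n hn => epi_smul (hB j) hn) (hB0 j) (h0 j) G ?_
    have h1 := evF_comm (i j) G
    rw [hG] at h1
    have h2 : (evF (B j) G : B j ⟶ B j) = (evF (B j) G : B j ⟶ B j) ≫ i j ≫ q j := by
      rw [hiq j (Finset.mem_univ j), Category.comp_id]
    refine h2.trans ?_
    rw [← Category.assoc, h1]
    show (i j ≫ (0 : A ⟶ A)) ≫ q j = 0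
    rw [Limits.comp_zero, Limits.zero_comp]
  have hannO : ∀ G : ℤ[X], aeval w G = 0 → P ∣ G := by
    intro G hG
    refine prod_dvd hint hinj G fun j => ?_
    have h3 := Polynomial.aeval_algHom_apply (Pi.evalAlgHom ℤ D j) w G
    rw [hG, map_zero] at h3
    exact h3
  have hPO : aeval w P = 0 := by
    funext j
    have h3 := Polynomial.aeval_algHom_apply (Pi.evalAlgHom ℤ D j) w P
    have h4 : aeval (w j) P = 0 := by
      obtain ⟨c, hc⟩ := Finset.dvd_prod_of_mem (fun j => minpoly ℤ (w j)) (Finset.mem_univ j)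
      show aeval (w j) (∏ j, minpoly ℤ (w j)) = 0
      rw [hc, map_mul, minpoly.aeval, zero_mul]
    exact h3.symm.trans h4
  -- the order `ℤ[F]`
  have hfS : Module.Finite ℤ (ℤ[X] ⧸ Ideal.span {P}) := hPm.finite_quotient
  have hfrS : Module.Free ℤ (ℤ[X] ⧸ Ideal.span {P}) := hPm.free_quotient
  have hrS : Module.finrank ℤ (ℤ[X] ⧸ Ideal.span {P}) = P.natDegree := finrank_quotient_span_eq_natDegree' hPm
  have hrO : Module.finrank ℤ (∀ j, D j) = P.natDegree := by
    rw [Module.finrank_pi_fintype, hPdeg]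
    exact Finset.sum_congr rfl fun j _ => hrk j
  let ι : (ℤ[X] ⧸ Ideal.span {P}) →+* (∀ j, D j) := Ideal.Quotient.lift _ (aeval w).toRingHom (by
    intro G hG
    obtain ⟨c, rfl⟩ := Ideal.mem_span_singleton.1 hG
    show aeval w (P * c) = 0
    rw [map_mul, hPO, zero_mul])
  have hι : ∀ G, ι (Ideal.Quotient.mk _ G) = aeval w G := fun _ => rfl
  have hιinj : Function.Injective ι := by
    rw [injective_iff_map_eq_zero]
    intro s hs
    obtain ⟨G, rfl⟩ := Ideal.Quotient.mk_surjective s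
    rw [Ideal.Quotient.eq_zero_iff_mem, Ideal.mem_span_singleton]
    exact hannO G hs
  let ρS : (ℤ[X] ⧸ Ideal.span {P}) →+* End A := Ideal.Quotient.lift _ (evF A) (by
    intro G hG
    obtain ⟨c, rfl⟩ := Ideal.mem_span_singleton.1 hG
    rw [map_mul, hPA, zero_mul])
  have hρS : ∀ G, act ρS (Ideal.Quotient.mk _ G) = evF A G := fun _ => rfl
  have hρSinj : ∀ s, act ρS s = 0 → s = 0 := by
    intro s hs
    obtain ⟨G, rfl⟩ := Ideal.Quotient.mk_surjective s
    rw [Ideal.Quotient.eq_zero_iff_mem, Ideal.mem_span_singleton]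
    exact hann G hs
  obtain ⟨n, hn, hno⟩ := K590.MaxOrd.exists_nsmul_mem ι.toAddMonoidHom hιinj (hrS.trans hrO.symm)
  obtain ⟨B', q', ρ', hq', hρ', hdB', N, hN, hker⟩ := K590.Ext.exists_ext hord ι hιinj hn
    (fun x => by
      obtain ⟨s, hs⟩ := hno x
      exact ⟨s, by rw [← nsmul_eq_mul]; exact hs⟩) ρS hdA
  have hB'av : IsAV B' := isAV_of_epi q' hA
  rw [← hPdeg] at hdB'
  -- the action is faithful
  have hinj' : Function.Injective ρ' := by
    rw [injective_iff_map_eq_zero]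
    intro x hx
    obtain ⟨s, hs⟩ := hno x
    have hs' : ι s = (n : ∀ j, D j) * x := by rw [← nsmul_eq_mul]; exact hs
    have h1 : act ρ' (ι s) = 0 := by
      show ρ' (ι s) = 0
      rw [hs', map_mul, hx, mul_zero]
    have h2 : act ρS s ≫ q' = 0 := by rw [hρ', h1, Limits.comp_zero]
    have h3 := hker _ h2
    have h4 : act ρS ((N : ℤ[X] ⧸ Ideal.span {P}) * s) = 0 := by
      rw [act_mul, act_natCast, Preadditive.comp_nsmul, Category.comp_id]
      exact h3
    have h5 := hρSinj _ h4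
    rw [← nsmul_eq_mul, ← natCast_zsmul] at h5
    have h6 : s = 0 := (smul_eq_zero.1 h5).resolve_left (Int.natCast_ne_zero.2 hN)
    rw [h6, map_zero, ← nsmul_eq_mul, ← natCast_zsmul] at hs'
    exact (smul_eq_zero.1 hs'.symm).resolve_left (Int.natCast_ne_zero.2 hn)
  have hdB'' : Div (ord (k := k)) B' (Module.finrank ℤ (∀ j, D j)) := by rw [hrO]; exact hdB'
  -- goodness
  have hG : Good (ord (k := k)) ρ' := by
    refine good_of_frob hord hdB'' ?_ ?_
    · intro m hm r hr
      obtain ⟨g, hg⟩ := exists_divide (hdB'.epi m hm) (act ρ' r) hr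
      obtain ⟨f, hf, hf2⟩ := exists_monic hB'av g
      refine K590.MaxOrd.ic hm r f hf ?_
      apply hinj'
      rw [map_zero]
      have h1 : ((m : ℤ) • (g : End B') : End B') = ρ' r := by
        rw [natCast_zsmul]; exact hg
      have h2 := eval_scaleRoots (E := End B') g (ρ' r) (m : ℤ) f h1 hf2
      have h3 := Polynomial.hom_eval₂ (f.scaleRoots (m : ℤ)) (algebraMap ℤ (∀ j, D j)) ρ' r
      rw [Polynomial.aeval_def, h3]
      refine Eq.trans ?_ h2
      congr 1
      exact RingHom.ext_int _ _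
    · intro m hm I I' hI' hle h
      exact K590.MaxOrd.frob hm I I' hI' hle h
  refine ⟨B', ρ'.comp (Subring.topEquiv : (⊤ : Subring (∀ j, D j)) ≃+* _), hB'av, ?_, hdB'', ?_⟩
  · intro hF
    show act ρ' w = frC B'
    have h1 : ι (Ideal.Quotient.mk _ Polynomial.X) = w := by rw [hι, aeval_X]
    rw [← cancel_epi q', ← h1, ← hρ', hρS, evF_X, frC_comm]
  · exact good_equiv (Subring.topEquiv : (⊤ : Subring (∀ j, D j)) ≃+* _) hG

end K590.Base2
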