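import Groth.Agent.AbVar.K590.Base2
import Groth.Agent.AbVar.K940.LatComm

/-!
# Orders as endomorphism rings of abelian varieties over the prime field
-/

set_option autoImplicit false

universe w v u

open CategoryTheory Limits Polynomial AlgebraicGeometry

namespace K590.Fin1

open K525.AlgC K525.OrdC K525.AbsOrd K525.AVC K525.AbsD K590.OrdGI K590.OrdFrob K590.Step K590.Sum K590.Base K590.Base2

section Inj

variable {C : Type u} [Category.{v} C] [Abelian C] {ord : C → ℕ} {A : C} {R : Type w} [CommRing R] {ρ : R →+* End A}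

/-- Good actions are faithful. -/
theorem good_injective [Module.Finite ℤ R] [Module.Free ℤ R] (hG : Good ord ρ) : Function.Injective ρ := by
  rw [injective_iff_map_eq_zero]
  intro y hy
  have hy' : act ρ y = 0 := hy
  by_contra hne
  let b := Module.finBasis ℤ R
  have h1 : ∃ i, b.repr y i ≠ 0 := by
    by_contra hall
    push Not at hall
    exact hne (b.repr.map_eq_zero_iff.1 (Finsupp.ext hall))
  obtain ⟨i, hi⟩ := h1
  let n := (b.repr y i).natAbs + 1
  obtain ⟨z, hz⟩ := hG.dvd (n := n) (Nat.succ_ne_zero _) (by rw [hy', Limits.comp_zero] : _ ≫ act ρ y = 0)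
  have h2 : b.repr y i = n * b.repr z i := by
    have : y = (n : ℤ) • z := by rw [hz, zsmul_eq_mul, Int.cast_natCast]
    rw [this, map_smul, Finsupp.smul_apply, smul_eq_mul]
  have h3 : (n : ℤ) ∣ b.repr y i := ⟨_, h2⟩
  have h4 := Int.natAbs_dvd_natAbs.2 h3
  have h5 := Nat.le_of_dvd (Int.natAbs_pos.2 hi) h4
  simp only [n, Int.natAbs_natCast] at h5
  omega

end Inj

theorem squarefree_prod {J : Type} [Fintype J] {D : J → Type} [∀ j, CommRing (D j)] [∀ j, IsDomain (D j)]
    [∀ j, CharZero (D j)] {w : ∀ j, D j} (hint : ∀ j, IsIntegral ℤ (w j))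
    (hinj : ∀ i j, minpoly ℤ (w i) = minpoly ℤ (w j) → i = j) :
    Squarefree ((∏ i, minpoly ℤ (w i)).map (Int.castRingHom ℚ)) := by
  have hirr : ∀ i, Irreducible ((minpoly ℤ (w i)).map (Int.castRingHom ℚ)) := fun i =>
    (Polynomial.IsPrimitive.Int.irreducible_iff_irreducible_map_cast (minpoly.monic (hint i)).isPrimitive).1
      (minpoly.irreducible (hint i))
  rw [Polynomial.map_prod]
  refine Finset.squarefree_prod_of_pairwise_isCoprime ?_ fun i _ => (hirr i).squarefree
  intro i _ j _ hij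
  have h1 : ¬ ((minpoly ℤ (w i)).map (Int.castRingHom ℚ)) ∣ ((minpoly ℤ (w j)).map (Int.castRingHom ℚ)) := by
    intro h
    have h2 := (hirr i).associated_of_dvd (hirr j) h
    have h3 := Polynomial.eq_of_monic_of_associated ((minpoly.monic (hint i)).map _) ((minpoly.monic (hint j)).map _) h2
    exact hij (hinj i j (Polynomial.map_injective _ (RingHom.injective_int _) h3))
  exact ((EuclideanDomain.dvd_or_coprime _ _ (hirr i)).resolve_left h1).isRelPrime

variable {k : Type u} [Field k] [Finite k] {p : ℕ} [hp : Fact p.Prime] (hk : Nat.card k = p)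
  {J : Type} [Fintype J] {D : J → Type} [∀ j, CommRing (D j)] [∀ j, IsDedekindDomain (D j)] [∀ j, CharZero (D j)]
  [∀ j, Module.Finite ℤ (D j)] [∀ j, Module.Free ℤ (D j)] (w V : ∀ j, D j) (hFV : w * V = p)

include hk hFV in
/-- **Orders are endomorphism rings.** -/
theorem exists_end (hrk : ∀ j, Module.finrank ℤ (D j) = (minpoly ℤ (w j)).natDegree)
    (hinj : ∀ i j, minpoly ℤ (w i) = minpoly ℤ (w j) → i = j)
    (B : J → Alg k) (hB : ∀ j, IsAV (B j)) (hd : ∀ j, Div (ord (k := k)) (B j) (minpoly ℤ (w j)).natDegree)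
    (h0 : ∀ j, evF (B j) (minpoly ℤ (w j)) = 0) (R0 : Subring (∀ j, D j)) (hF : w ∈ R0) (hV : V ∈ R0)
    (hr : Module.finrank ℤ R0 = Module.finrank ℤ (∀ j, D j)) :
    ∃ (A : Alg k) (ρ : R0 →+* End A), IsAV A ∧ act ρ ⟨w, hF⟩ = frC A ∧ Function.Bijective ρ := by
  classical
  have hord := K525.ModC.isOrd (k := k) p hk
  have hint : ∀ j, IsIntegral ℤ (w j) := fun j => Algebra.IsIntegral.isIntegral (w j)
  have := K590.Desc.finite_sub R0
  have := K590.Desc.free_sub R0
  obtain ⟨n, hn, hno⟩ := K590.MaxOrd.exists_nsmul_mem R0.subtype.toAddMonoidHom Subtype.val_injective hr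
  obtain ⟨A, ρ, hA, hρ, hdiv, hG⟩ := K590.Desc.main hk hFV hn R0 (fun x => by
    obtain ⟨s, hs⟩ := hno x
    rw [← nsmul_eq_mul, ← hs]
    exact s.2) hF hV (base hk w hrk hinj B hB hd h0)
  refine ⟨A, ρ, hA, hρ hF, ?_⟩
  have hρinj := good_injective hG
  let P := ∏ j, minpoly ℤ (w j)
  have hPm : P.Monic := monic_prod_of_monic _ _ fun j _ => minpoly.monic (hint j)
  have hrO : Module.finrank ℤ (∀ j, D j) = P.natDegree := by
    rw [Module.finrank_pi_fintype, natDegree_prod_of_monic _ _ fun j _ => minpoly.monic (hint j)]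
    exact Finset.sum_congr rfl fun j _ => hrk j
  have hann : ∀ G : ℤ[X], aeval w G = 0 ↔ P ∣ G := by
    intro G
    constructor
    · intro hG
      refine prod_dvd hint hinj G fun j => ?_
      have h3 := Polynomial.aeval_algHom_apply (Pi.evalAlgHom ℤ D j) w G
      rw [hG, map_zero] at h3
      exact h3
    · rintro ⟨c, rfl⟩
      rw [map_mul]
      have : aeval w P = 0 := by
        funext j
        have h3 := Polynomial.aeval_algHom_apply (Pi.evalAlgHom ℤ D j) w P
        have h4 : aeval (w j) P = 0 := by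
          obtain ⟨c, hc⟩ := Finset.dvd_prod_of_mem (fun j => minpoly ℤ (w j)) (Finset.mem_univ j)
          show aeval (w j) (∏ j, minpoly ℤ (w j)) = 0
          rw [hc, map_mul, minpoly.aeval, zero_mul]
        exact h3.symm.trans h4
      rw [this, zero_mul]
  -- polynomials in the Frobenius
  let F0 : R0 := ⟨w, hF⟩
  have hF0 : ∀ G : ℤ[X], ((aeval F0 G : R0) : ∀ j, D j) = aeval w G := by
    intro G
    have h3 := Polynomial.hom_eval₂ G (algebraMap ℤ R0) R0.subtype F0
    rw [Polynomial.aeval_def, Polynomial.aeval_def]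
    exact h3.trans (by congr 1)
  have hρG : ∀ G : ℤ[X], act ρ (aeval F0 G) = aeval (End.of (frC A)) G := by
    intro G
    have h1 := K940.LatComm.map_aeval ρ F0 G
    have h3 : ρ F0 = End.of (frC A) := hρ hF
    show ρ (aeval F0 G) = _
    rw [h1, h3]
    exact (K940.LatComm.map_aeval (RingHom.id (End A)) (End.of (frC A)) G).symm
  refine hG.bijective hdiv.epi ?_
  intro f
  obtain ⟨m, hm, Q, hQ⟩ := K940.LatComm.main hk hA P hPm (squarefree_prod hint hinj)
    (fun m hm => by rw [hdiv.card m hm, hrO]) (fun Q => by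
      rw [← hρG, ← hann, ← hF0]
      constructor
      · intro h
        have h1 : aeval F0 Q = 0 := hρinj (h.trans (map_zero ρ).symm)
        rw [h1]; rfl
      · intro h
        have h1 : aeval F0 Q = 0 := Subtype.ext h
        rw [h1, act_zero]) f
  exact ⟨m, aeval F0 Q, hm, by rw [hρG]; exact hQ⟩

end K590.Fin1
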