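import Groth.Agent.Hopf.K503.PrimMap
import Groth.Agent.ComodSub.K892.Anti
import Mathlib.RingTheory.HopfAlgebra.Quotient
import Mathlib.LinearAlgebra.TensorProduct.RightExactness
import Mathlib.RingTheory.Coalgebra.Quotient

/-!
# Quotients of Hopf algebras by spaces of point derivations

`U`: a space of point derivations (tangent vectors at the origin) of a finite-dimensional commutative and cocommutative
Hopf algebra `C` of characteristic `p`, stable under the `p`-th power in the dual algebra. The elements of `C` killed by the
subalgebra generated by `U` form a Hopf ideal `J` and `dim C/J ≤ p ^ dim U`.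
-/

set_option autoImplicit false

universe u v w

open TensorProduct WithConv

namespace K590.HtOne

open K503.PrimMap

/-! ### the dimension of a subalgebra generated by `p`-closed subspaces -/

section Dim

variable {k D : Type*} [Field k] [CommRing D] [Algebra k D]

theorem monomials_mem (p : ℕ) (hp : 1 < p) {n : ℕ} (b : Fin n → D)
    (hb : ∀ i, (b i) ^ p ∈ Submodule.span k (Set.range b)) (M : Submodule k D)
    (hM : ∀ e : Fin n → Fin p, ∏ i, b i ^ (e i : ℕ) ∈ M) (s : Fin n → ℕ) : ∏ i, b i ^ s i ∈ M := by
  classical
  suffices H : ∀ (d : ℕ) (s : Fin n → ℕ), ∑ i, s i = d → ∏ i, b i ^ s i ∈ M from H _ s rfl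
  intro d
  induction d using Nat.strong_induction_on with
  | _ d ih =>
    intro s hs
    by_cases hall : ∀ i, s i < p
    · exact hM fun i => ⟨s i, hall i⟩
    · push Not at hall
      obtain ⟨i, hi⟩ := hall
      -- split off `b i ^ p`
      let s' : Fin n → ℕ := fun j => if j = i then s j - p else s j
      have h1 : ∏ j, b j ^ s j = (∏ j, b j ^ s' j) * b i ^ p := by
        rw [← Finset.mul_prod_erase Finset.univ (fun j => b j ^ s j) (Finset.mem_univ i),
          ← Finset.mul_prod_erase Finset.univ (fun j => b j ^ s' j) (Finset.mem_univ i)]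
        have h2 : ∏ j ∈ Finset.univ.erase i, b j ^ s' j = ∏ j ∈ Finset.univ.erase i, b j ^ s j := by
          refine Finset.prod_congr rfl fun j hj => ?_
          have : j ≠ i := Finset.ne_of_mem_erase hj
          simp only [s', if_neg this]
        have h3 : s' i = s i - p := by simp only [s', if_true]
        rw [h2, h3]
        have h4 : b i ^ s i = b i ^ (s i - p) * b i ^ p := by rw [← pow_add, Nat.sub_add_cancel hi]
        rw [h4]; ring
      have hs' : ∑ j, s' j + p = d := by
        rw [← hs, ← Finset.add_sum_erase Finset.univ s' (Finset.mem_univ i),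
          ← Finset.add_sum_erase Finset.univ s (Finset.mem_univ i)]
        have h2 : ∑ j ∈ Finset.univ.erase i, s' j = ∑ j ∈ Finset.univ.erase i, s j := by
          refine Finset.sum_congr rfl fun j hj => ?_
          have : j ≠ i := Finset.ne_of_mem_erase hj
          simp only [s', if_neg this]
        have h3 : s' i = s i - p := by simp only [s', if_true]
        rw [h2, h3]
        omega
      rw [h1]
      have h5 : ∀ z ∈ Submodule.span k (Set.range b), (∏ j, b j ^ s' j) * z ∈ M := by
        intro z hz
        induction hz using Submodule.span_induction with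
        | mem z hz =>
          obtain ⟨l, rfl⟩ := hz
          have h6 : (∏ j, b j ^ s' j) * b l = ∏ j, b j ^ (fun j => if j = l then s' j + 1 else s' j) j := by
            rw [← Finset.mul_prod_erase Finset.univ (fun j => b j ^ s' j) (Finset.mem_univ l),
              ← Finset.mul_prod_erase Finset.univ (fun j => b j ^ (fun j => if j = l then s' j + 1 else s' j) j)
                (Finset.mem_univ l)]
            have h2 : ∏ j ∈ Finset.univ.erase l, b j ^ (fun j => if j = l then s' j + 1 else s' j) j =
                ∏ j ∈ Finset.univ.erase l, b j ^ s' j := by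
              refine Finset.prod_congr rfl fun j hj => ?_
              have : j ≠ l := Finset.ne_of_mem_erase hj
              simp only [if_neg this]
            rw [h2]
            simp only [if_true]
            ring
          rw [h6]
          refine ih (∑ j, (fun j => if j = l then s' j + 1 else s' j) j) ?_ _ rfl
          have h7 : ∑ j, (fun j => if j = l then s' j + 1 else s' j) j = ∑ j, s' j + 1 := by
            rw [← Finset.add_sum_erase Finset.univ s' (Finset.mem_univ l),
              ← Finset.add_sum_erase Finset.univ (fun j => if j = l then s' j + 1 else s' j) (Finset.mem_univ l)]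
            have h2 : ∑ j ∈ Finset.univ.erase l, (fun j => if j = l then s' j + 1 else s' j) j =
                ∑ j ∈ Finset.univ.erase l, s' j := by
              refine Finset.sum_congr rfl fun j hj => ?_
              have : j ≠ l := Finset.ne_of_mem_erase hj
              simp only [if_neg this]
            rw [h2]
            simp only [if_true]
            ring
          rw [h7]
          omega
        | zero => rw [mul_zero]; exact M.zero_mem
        | add x y _ _ hx hy => rw [mul_add]; exact M.add_mem hx hy
        | smul c x _ hx => rw [mul_smul_comm]; exact M.smul_mem c hx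
      exact h5 _ (hb i)

/-- The subalgebra generated by a `p`-closed subspace of dimension `n` has dimension at most `p ^ n`. -/
theorem finrank_adjoin_le (p : ℕ) (hp : 1 < p) (U : Submodule k D) [Module.Finite k U] (hU : ∀ u ∈ U, u ^ p ∈ U) :
    Module.Finite k (Algebra.adjoin k (U : Set D)) ∧
      Module.finrank k (Algebra.adjoin k (U : Set D)) ≤ p ^ Module.finrank k U := by
  classical
  let b := Module.finBasis k U
  let b' : Fin (Module.finrank k U) → D := fun i => b i
  have hspan : Submodule.span k (Set.range b') = U := by
    have h1 : Set.range b' = U.subtype '' (Set.range b) := by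
      rw [← Set.range_comp]; rfl
    rw [h1, Submodule.span_image, b.span_eq, Submodule.map_top, Submodule.range_subtype]
  let v : (Fin (Module.finrank k U) → Fin p) → D := fun e => ∏ i, b' i ^ (e i : ℕ)
  let M : Submodule k D := Submodule.span k (Set.range v)
  have hfin : Module.Finite k M := Module.Finite.span_of_finite k (Set.finite_range v)
  have hM : ∀ e : Fin (Module.finrank k U) → Fin p, ∏ i, b' i ^ (e i : ℕ) ∈ M := fun e => Submodule.subset_span ⟨e, rfl⟩
  have hmem : ∀ s : Fin (Module.finrank k U) → ℕ, ∏ i, b' i ^ s i ∈ M :=
    monomials_mem p hp b' (fun i => by rw [hspan]; exact hU _ (b i).2) M hM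
  have hone : (1 : D) ∈ M := by
    have := hmem 0
    simpa using this
  have hmul : ∀ x ∈ M, ∀ y ∈ M, x * y ∈ M := by
    intro x hx y hy
    induction hx using Submodule.span_induction with
    | mem x hx =>
      obtain ⟨e, rfl⟩ := hx
      induction hy using Submodule.span_induction with
      | mem y hy =>
        obtain ⟨e', rfl⟩ := hy
        have : v e * v e' = ∏ i, b' i ^ (fun i => (e i : ℕ) + (e' i : ℕ)) i := by
          simp only [v]
          rw [← Finset.prod_mul_distrib]
          refine Finset.prod_congr rfl fun i _ => ?_
          rw [← pow_add]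
        rw [this]
        exact hmem _
      | zero => rw [mul_zero]; exact M.zero_mem
      | add a b _ _ ha hb => rw [mul_add]; exact M.add_mem ha hb
      | smul c a _ ha => rw [mul_smul_comm]; exact M.smul_mem c ha
    | zero => rw [zero_mul]; exact M.zero_mem
    | add a b _ _ ha hb => rw [add_mul]; exact M.add_mem ha hb
    | smul c a _ ha => rw [smul_mul_assoc]; exact M.smul_mem c ha
  have hle' : ∀ x ∈ Algebra.adjoin k (U : Set D), x ∈ M := by
    intro x hx
    induction hx using Algebra.adjoin_induction with
    | mem x hx =>
      have hx2 : x ∈ Submodule.span k (Set.range b') := by rw [hspan]; exact hx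
      refine Submodule.span_le.2 ?_ hx2
      rintro _ ⟨i, rfl⟩
      have h1 := hmem (Pi.single i 1)
      have h2 : ∏ j, b' j ^ (Pi.single i 1 : Fin (Module.finrank k U) → ℕ) j = b' i := by
        rw [Finset.prod_eq_single i]
        · rw [Pi.single_eq_same, pow_one]
        · intro j _ hj
          rw [Pi.single_eq_of_ne hj, pow_zero]
        · intro h; exact absurd (Finset.mem_univ i) h
      rw [h2] at h1
      exact h1
    | algebraMap r => rw [Algebra.algebraMap_eq_smul_one]; exact M.smul_mem r hone
    | add x y hx hy h1 h2 => exact M.add_mem h1 h2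
    | mul x y hx hy h1 h2 => exact hmul x h1 y h2
  have hle : Subalgebra.toSubmodule (Algebra.adjoin k (U : Set D)) ≤ M := fun x hx => hle' x hx
  have h1 : Module.Finite k (Subalgebra.toSubmodule (Algebra.adjoin k (U : Set D))) := by
    have hinj : Function.Injective (Submodule.inclusion hle) := Submodule.inclusion_injective hle
    exact Module.Finite.of_injective _ hinj
  refine ⟨h1, ?_⟩
  have h2 : Module.finrank k (Subalgebra.toSubmodule (Algebra.adjoin k (U : Set D))) ≤ Module.finrank k M :=
    Submodule.finrank_mono hle
  refine (show Module.finrank k (Algebra.adjoin k (U : Set D)) ≤ Module.finrank k M from h2).trans ?_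
  refine (finrank_range_le_card v).trans ?_
  rw [Fintype.card_fun, Fintype.card_fin, Fintype.card_fin]

end Dim

/-! ### the Hopf ideal -/

section Ideal

variable {k : Type u} [Field k] {C : Type v} [CommRing C] [HopfAlgebra k C] [Coalgebra.IsCocomm k C]
  (U : Submodule k (WithConv (C →ₗ[k] k)))

/-- The subalgebra of the dual generated by `U`. -/
noncomputable abbrev alg : Subalgebra k (WithConv (C →ₗ[k] k)) := Algebra.adjoin k (U : Set (WithConv (C →ₗ[k] k)))

/-- The elements killed by the subalgebra generated by `U`. -/
def Jm : Submodule k C where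
  carrier := {c | ∀ f ∈ alg U, f c = 0}
  zero_mem' := fun f _ => map_zero f.ofConv
  add_mem' := fun {a b} ha hb f hf => by
    have h1 := ha f hf
    have h2 := hb f hf
    exact (map_add f.ofConv a b).trans (by
      change f a + f b = 0
      rw [h1, h2, add_zero])
  smul_mem' := fun r a ha f hf => by
    have h1 := ha f hf
    exact (map_smul f.ofConv r a).trans (by
      change r * f a = 0
      rw [h1, mul_zero])

theorem mem_Jm {c : C} : c ∈ Jm U ↔ ∀ f ∈ alg U, f c = 0 := Iff.rfl

/-- The subalgebra as a subspace of the dual. -/
noncomputable def Phi : Submodule k (Module.Dual k C) :=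
  (Subalgebra.toSubmodule (alg U)).map (WithConv.linearEquiv k (C →ₗ[k] k)).toLinearMap

theorem Jm_eq : Jm U = (Phi U).dualCoannihilator := by
  ext c
  rw [mem_Jm, Submodule.mem_dualCoannihilator]
  constructor
  · rintro h _ ⟨f, hf, rfl⟩
    exact h f hf
  · intro h f hf
    exact h f.ofConv ⟨f, hf, rfl⟩

variable [Module.Finite k C]

theorem mem_alg_of_quot (φ : (C ⧸ Jm U) →ₗ[k] k) : (toConv (φ ∘ₗ (Jm U).mkQ) : WithConv (C →ₗ[k] k)) ∈ alg U := by
  have h1 : φ ∘ₗ (Jm U).mkQ ∈ (Jm U).dualAnnihilator := by
    rw [Submodule.mem_dualAnnihilator]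
    intro c hc
    show φ ((Jm U).mkQ c) = 0
    rw [Submodule.mkQ_apply, (Submodule.Quotient.mk_eq_zero _).2 hc, map_zero]
  have h2 : (Jm U).dualAnnihilator = Phi U := by
    rw [Jm_eq, Subspace.dualCoannihilator_dualAnnihilator_eq]
  obtain ⟨f, hf, hf2⟩ := (SetLike.ext_iff.1 h2 _).1 h1
  have h3 : f = (toConv (φ ∘ₗ (Jm U).mkQ) : WithConv (C →ₗ[k] k)) := WithConv.ofConv_injective hf2
  rw [← h3]
  exact hf

theorem finrank_quot : Module.finrank k (C ⧸ Jm U) = Module.finrank k (alg U) := by
  have h1 := Submodule.finrank_quotient_add_finrank (Jm U)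
  have h2 := Subspace.finrank_add_finrank_dualCoannihilator_eq (Phi U)
  rw [← Jm_eq] at h2
  have h3 : Module.finrank k (Phi U) = Module.finrank k (alg U) := by
    have e : (Subalgebra.toSubmodule (alg U)) ≃ₗ[k] Phi U :=
      (WithConv.linearEquiv k (C →ₗ[k] k)).submoduleMap (Subalgebra.toSubmodule (alg U))
    exact e.finrank_eq.symm
  omega

theorem isCoideal : (Jm U).IsCoideal where
  counit_eq_zero := fun c hc => by
    have h1 := hc 1 (alg U).one_mem
    exact h1
  map_mkQ_comul_eq_zero := fun c hc => by
    apply K503.Prim.eq_zero_of_forall_map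
    intro φ ψ
    rw [← LinearMap.comp_apply (TensorProduct.map φ ψ), ← TensorProduct.map_comp]
    exact hc _ ((alg U).mul_mem (mem_alg_of_quot U φ) (mem_alg_of_quot U ψ))

variable (hU : ∀ u ∈ U, IsDer u)
include hU

theorem mul_zero_of (f : WithConv (C →ₗ[k] k)) (hf : f ∈ alg U) : ∀ c ∈ Jm U, ∀ c' : C, f (c * c') = 0 := by
  have hco := isCoideal U
  induction hf using Algebra.adjoin_induction with
  | mem u hu =>
    intro c hc c'
    rw [hU u hu, hc u (Algebra.subset_adjoin hu), hco.counit_eq_zero hc, zero_mul, zero_mul, add_zero]
  | algebraMap r =>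
    intro c hc c'
    show r • algebraMap k k (Coalgebra.counit (c * c')) = 0
    rw [Bialgebra.counit_mul, hco.counit_eq_zero hc, zero_mul, map_zero, smul_zero]
  | add f g _ _ h1 h2 =>
    intro c hc c'
    show f (c * c') + g (c * c') = 0
    rw [h1 c hc, h2 c hc, add_zero]
  | mul f g _ _ h1 h2 =>
    intro c hc c'
    rw [LinearMap.convMul_apply, Bialgebra.comul_mul]
    have h3 := ((Submodule.isCoideal_iff_comul_mem (Jm U)).1 hco).2 c hc
    have key : ∀ z ∈ LinearMap.range (LinearMap.lTensor C (Jm U).subtype) ⊔ LinearMap.range (LinearMap.rTensor C (Jm U).subtype),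
        ∀ w : C ⊗[k] C, LinearMap.mul' k k (TensorProduct.map f.ofConv g.ofConv (z * w)) = 0 := by
      intro z hz w
      obtain ⟨z1, ⟨y1, rfl⟩, z2, ⟨y2, rfl⟩, rfl⟩ := Submodule.mem_sup.1 hz
      rw [add_mul, map_add, map_add]
      have e1 : LinearMap.mul' k k (TensorProduct.map f.ofConv g.ofConv (LinearMap.lTensor C (Jm U).subtype y1 * w)) = 0 := by
        clear hz
        induction y1 with
        | zero => rw [map_zero, zero_mul, map_zero, map_zero]
        | add a b ha hb => rw [map_add, add_mul, map_add, map_add, ha, hb, add_zero]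
        | tmul a j =>
          induction w with
          | zero => rw [mul_zero, map_zero, map_zero]
          | add a b ha hb => rw [mul_add, map_add, map_add, ha, hb, add_zero]
          | tmul b b' =>
            rw [LinearMap.lTensor_tmul, Algebra.TensorProduct.tmul_mul_tmul, TensorProduct.map_tmul, LinearMap.mul'_apply]
            have := h2 j j.2 b'
            show _ * g ((Jm U).subtype j * b') = 0
            rw [Submodule.subtype_apply, this, mul_zero]
      have e2 : LinearMap.mul' k k (TensorProduct.map f.ofConv g.ofConv (LinearMap.rTensor C (Jm U).subtype y2 * w)) = 0 := by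
        clear hz e1
        induction y2 with
        | zero => rw [map_zero, zero_mul, map_zero, map_zero]
        | add a b ha hb => rw [map_add, add_mul, map_add, map_add, ha, hb, add_zero]
        | tmul j a =>
          induction w with
          | zero => rw [mul_zero, map_zero, map_zero]
          | add a b ha hb => rw [mul_add, map_add, map_add, ha, hb, add_zero]
          | tmul b b' =>
            rw [LinearMap.rTensor_tmul, Algebra.TensorProduct.tmul_mul_tmul, TensorProduct.map_tmul, LinearMap.mul'_apply]
            have := h1 j j.2 b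
            show f ((Jm U).subtype j * b) * _ = 0
            rw [Submodule.subtype_apply, this, zero_mul]
      rw [e1, e2, add_zero]
    exact key _ h3 _

/-- The ideal of elements killed by the subalgebra generated by `U`. -/
def J : Ideal C where
  carrier := Jm U
  zero_mem' := (Jm U).zero_mem
  add_mem' := (Jm U).add_mem
  smul_mem' := fun r c hc f hf => by
    show f (r * c) = 0
    rw [mul_comm]
    exact mul_zero_of U hU f hf c hc r

theorem mem_J {c : C} : c ∈ J U hU ↔ ∀ f ∈ alg U, f c = 0 := Iff.rfl

omit [Module.Finite k C] [Coalgebra.IsCocomm k C] hU in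
theorem der_antipode {u : WithConv (C →ₗ[k] k)} (hu : IsDer u) (x : C) : u (HopfAlgebra.antipode k x) = - u x := by
  have key : ∀ z : C ⊗[k] C, u (LinearMap.mul' k C z) =
      LinearMap.mul' k k (TensorProduct.map u.ofConv (Coalgebra.counit (R := k) (A := C)) z) +
      LinearMap.mul' k k (TensorProduct.map (Coalgebra.counit (R := k) (A := C)) u.ofConv z) := by
    intro z
    induction z with
    | zero => simp only [map_zero, add_zero]
    | tmul a b =>
      rw [LinearMap.mul'_apply, TensorProduct.map_tmul, TensorProduct.map_tmul, LinearMap.mul'_apply, LinearMap.mul'_apply]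
      exact hu a b
    | add a b ha hb =>
      simp only [map_add, ha, hb]
      ring
  have h1 := key (LinearMap.lTensor C (HopfAlgebra.antipode k) (Coalgebra.comul (R := k) x))
  rw [HopfAlgebra.mul_antipode_lTensor_comul_apply] at h1
  have h2 : u (algebraMap k C (Coalgebra.counit (R := k) x)) = 0 := by
    rw [Algebra.algebraMap_eq_smul_one]
    refine (map_smul u.ofConv _ _).trans ?_
    show _ * u 1 = 0
    rw [hu.apply_one, mul_zero]
  rw [h2, ← LinearMap.comp_apply (TensorProduct.map _ _), ← LinearMap.comp_apply (TensorProduct.map _ _),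
    LinearMap.lTensor, ← TensorProduct.map_comp, ← TensorProduct.map_comp, HopfAlgebra.counit_comp_antipode] at h1
  have h3 : LinearMap.mul' k k (TensorProduct.map (u.ofConv ∘ₗ LinearMap.id) (Coalgebra.counit (R := k) (A := C))
      (Coalgebra.comul (R := k) x)) = u x := by
    have := congrArg (fun z : WithConv (C →ₗ[k] k) => z x) (mul_one u)
    exact this
  have h4 : LinearMap.mul' k k (TensorProduct.map ((Coalgebra.counit (R := k) (A := C)) ∘ₗ LinearMap.id)
      (u.ofConv ∘ₗ HopfAlgebra.antipode k) (Coalgebra.comul (R := k) x)) = u (HopfAlgebra.antipode k x) := by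
    have := congrArg (fun z : WithConv (C →ₗ[k] k) => z x)
      (one_mul (toConv (u.ofConv ∘ₗ HopfAlgebra.antipode k) : WithConv (C →ₗ[k] k)))
    exact this
  rw [h3, h4] at h1
  linear_combination -h1

theorem antipode_mem (f : WithConv (C →ₗ[k] k)) (hf : f ∈ alg U) :
    (toConv (f.ofConv ∘ₗ HopfAlgebra.antipode k) : WithConv (C →ₗ[k] k)) ∈ alg U := by
  induction hf using Algebra.adjoin_induction with
  | mem u hu =>
    have h1 : (toConv (u.ofConv ∘ₗ HopfAlgebra.antipode k) : WithConv (C →ₗ[k] k)) = -u := by
      apply WithConv.ext; apply LinearMap.ext; intro x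
      exact der_antipode (hU u hu) x
    rw [h1]
    exact neg_mem (Algebra.subset_adjoin hu)
  | algebraMap r =>
    have h1 : (toConv ((algebraMap k (WithConv (C →ₗ[k] k)) r).ofConv ∘ₗ HopfAlgebra.antipode k) :
        WithConv (C →ₗ[k] k)) = algebraMap k (WithConv (C →ₗ[k] k)) r := by
      apply WithConv.ext; apply LinearMap.ext; intro x
      show r • algebraMap k k (Coalgebra.counit (HopfAlgebra.antipode k x)) = r • algebraMap k k (Coalgebra.counit x)
      rw [HopfAlgebra.counit_antipode]
    rw [h1]
    exact (alg U).algebraMap_mem r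
  | add f g _ _ h1 h2 => exact (alg U).add_mem h1 h2
  | mul f g _ _ h1 h2 =>
    have h3 : (toConv ((f * g).ofConv ∘ₗ HopfAlgebra.antipode k) : WithConv (C →ₗ[k] k)) =
        toConv (g.ofConv ∘ₗ HopfAlgebra.antipode k) * toConv (f.ofConv ∘ₗ HopfAlgebra.antipode k) := by
      apply WithConv.ext; apply LinearMap.ext; intro x
      show (f * g) (HopfAlgebra.antipode k x) =
        (toConv (g.ofConv ∘ₗ HopfAlgebra.antipode k) * toConv (f.ofConv ∘ₗ HopfAlgebra.antipode k) : WithConv (C →ₗ[k] k)) x
      rw [LinearMap.convMul_apply, LinearMap.convMul_apply, K892.Anti.comul_antipode]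
      generalize CoalgebraStruct.comul (R := k) x = z
      induction z with
      | zero => simp only [map_zero]
      | tmul a b =>
        rw [TensorProduct.map_tmul, TensorProduct.comm_tmul, TensorProduct.map_tmul, TensorProduct.map_tmul,
          LinearMap.mul'_apply, LinearMap.mul'_apply]
        exact mul_comm (G := k) _ _
      | add a b ha hb => simp only [map_add, ha, hb]
    rw [h3]
    exact (alg U).mul_mem h2 h1

theorem isHopfIdeal : (J U hU).IsHopfIdeal k where
  counit_eq_zero := fun _ hc => (isCoideal U).counit_eq_zero hc
  map_mkQ_comul_eq_zero := fun _ hc => (isCoideal U).map_mkQ_comul_eq_zero hc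
  antipode_mem := fun _ hc f hf => hc _ (antipode_mem U hU f hf)

/-- **The dimension of the quotient.** -/
theorem finrank_quot_le (p : ℕ) (hp : 1 < p) (hUp : ∀ u ∈ U, u ^ p ∈ U) :
    Module.finrank k (C ⧸ J U hU) ≤ p ^ Module.finrank k U := by
  have hfinD : Module.Finite k (WithConv (C →ₗ[k] k)) := Module.Finite.equiv (WithConv.linearEquiv k (C →ₗ[k] k)).symm
  have h1 := (finrank_adjoin_le p hp U hUp).2
  have h2 := finrank_quot U
  exact h2.le.trans h1

end Ideal

end K590.HtOne
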