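import Groth.Agent.AbVar.K590.Step
import Groth.Agent.AbVar.K525.Cyc
import Mathlib.LinearAlgebra.Dual.Lemmas
import Mathlib.FieldTheory.Finiteness

/-!
# Hyperplanes

`PtFun`: an abstract left exact functor to abelian groups (points with values in a test object). If the points of the
subobjects of `T = B[m']` have cardinality equal to the order and `S`-stable subgroups of points come from subobjects, then
there is a subobject `K` of `T` as needed for the quotient step.
-/

set_option autoImplicit false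

universe w v u

open CategoryTheory Limits ZeroObject K525.AbsOrd K525.AbsD

namespace K590.Hyper

open K590.OrdGI K590.OrdFrob

attribute [local instance] Abelian.hasFiniteBiproducts

/-- An abstract left exact additive functor with values in abelian groups. -/
structure PtFun (C : Type u) [Category.{v} C] [Abelian C] where
  obj : C → Type v
  [grp : ∀ X, AddCommGroup (obj X)]
  map : ∀ {X Y : C}, (X ⟶ Y) → (obj X →+ obj Y)
  map_comp : ∀ {X Y Z : C} (f : X ⟶ Y) (g : Y ⟶ Z) (x : obj X), map (f ≫ g) x = map g (map f x)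
  map_id : ∀ {X : C} (x : obj X), map (𝟙 X) x = x
  map_add : ∀ {X Y : C} (f g : X ⟶ Y) (x : obj X), map (f + g) x = map f x + map g x
  inj : ∀ {X Y : C} (f : X ⟶ Y), Mono f → Function.Injective (map f)
  ker : ∀ {K X Y : C} (i : K ⟶ X) (f : X ⟶ Y), Mono i → (∀ {Z : C} (x : Z ⟶ X), x ≫ f = 0 → ∃ y : Z ⟶ K, y ≫ i = x) →
    ∀ w : obj X, map f w = 0 → ∃ z : obj K, map i z = w

attribute [instance] PtFun.grp

variable {C : Type u} [Category.{v} C] [Abelian C] (W : PtFun C)

namespace PtFun

theorem map_zero' {X Y : C} (x : W.obj X) : W.map (0 : X ⟶ Y) x = 0 := by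
  have h := W.map_add (0 : X ⟶ Y) 0 x
  rw [add_zero] at h
  exact left_eq_add.1 h

theorem map_sum {X Y : C} {I : Type*} (s : Finset I) (f : I → (X ⟶ Y)) (x : W.obj X) :
    W.map (∑ i ∈ s, f i) x = ∑ i ∈ s, W.map (f i) x := by
  classical
  induction s using Finset.induction_on with
  | empty => rw [Finset.sum_empty, Finset.sum_empty, map_zero']
  | insert a s ha ih => rw [Finset.sum_insert ha, Finset.sum_insert ha, W.map_add, ih]

theorem map_nsmul' {X Y : C} (n : ℕ) (f : X ⟶ Y) (x : W.obj X) : W.map (n • f) x = n • W.map f x := by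
  induction n with
  | zero => rw [zero_smul, zero_smul, map_zero']
  | succ n ih => rw [succ_nsmul, succ_nsmul, W.map_add, ih]

theorem map_eq_zero_of_lift {X : C} {n : ℕ} (Y : Fin n → C) (f : ∀ i, X ⟶ Y i) (w : W.obj X) (hw : ∀ i, W.map (f i) w = 0) :
    W.map (biproduct.lift f) w = 0 := by
  have h1 : biproduct.lift f = ∑ i, f i ≫ biproduct.ι Y i := by
    rw [biproduct.lift_eq]
  rw [h1, map_sum]
  refine Finset.sum_eq_zero fun i _ => ?_
  rw [W.map_comp, hw, _root_.map_zero]

/-- Points killed by an ideal. -/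
theorem lift_isKer {A : C} {R : Type w} [CommRing R] {ρ : R →+* End A} {I : Ideal R} (hI : I.FG) {K : C} {κ : K ⟶ A}
    (hκ : IsKer ρ I κ) (w : W.obj A) (hw : ∀ r ∈ I, W.map (act ρ r) w = 0) : ∃ z : W.obj K, W.map κ z = w := by
  obtain ⟨n, f, hf⟩ := Submodule.fg_iff_exists_fin_generating_family.1 hI
  have key : ∀ {T : C} (x : T ⟶ A), (∀ i, x ≫ act ρ (f i) = 0) → ∀ r ∈ I, x ≫ act ρ r = 0 := by
    intro T x hx r hr
    rw [← hf] at hr
    induction hr using Submodule.span_induction with
    | mem r h =>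
      obtain ⟨i, rfl⟩ := h
      exact hx i
    | zero => rw [act_zero, comp_zero]
    | add r s _ _ h1 h2 => rw [act_add, Preadditive.comp_add, h1, h2, add_zero]
    | smul c r _ h1 =>
      show x ≫ act ρ (c * r) = 0
      rw [act_mul, ← Category.assoc, h1, zero_comp]
  refine W.ker κ (biproduct.lift (fun i => act ρ (f i))) hκ.mono ?_ w ?_
  · intro Z x hx
    refine hκ.lift x (key x fun i => ?_)
    have : act ρ (f i) = biproduct.lift (fun i => act ρ (f i)) ≫ biproduct.π (fun _ => A) i := by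
      rw [biproduct.lift_π]
    rw [this, ← Category.assoc, hx, zero_comp]
  · exact W.map_eq_zero_of_lift _ _ _ fun i => hw _ (hf ▸ Submodule.subset_span ⟨i, rfl⟩)

/-- The points form a module over the endomorphism ring. -/
@[reducible] def mod (X : C) : Module (End X) (W.obj X) where
  smul f x := W.map f x
  one_smul x := W.map_id x
  mul_smul f g x := W.map_comp g f x
  smul_zero f := _root_.map_zero (W.map f)
  smul_add f x y := _root_.map_add (W.map f) x y
  add_smul f g x := W.map_add f g x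
  zero_smul x := W.map_zero' x

end PtFun

theorem card_dual {F M : Type*} [Field F] [Finite F] [AddCommGroup M] [Module F M] [Finite M] :
    Finite (Module.Dual F M) ∧ Nat.card (Module.Dual F M) = Nat.card M := by
  have hfd : Module.Finite F M := Module.Finite.of_finite
  have h1 : Module.finrank F (Module.Dual F M) = Module.finrank F M := Subspace.dual_finrank_eq
  have hfd' : Module.Finite F (Module.Dual F M) := inferInstance
  have h2 : Finite (Module.Dual F M) := Module.finite_of_finite F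
  refine ⟨h2, ?_⟩
  rw [Module.natCard_eq_pow_finrank (K := F) (V := Module.Dual F M), h1, ← Module.natCard_eq_pow_finrank (K := F) (V := M)]

theorem card_hom_le' (ℓ : ℕ) [Fact ℓ.Prime] (M : Type*) [AddCommGroup M] [Finite M] [Module (ZMod ℓ) M] :
    Finite (M →+ ZMod ℓ) ∧ Nat.card (M →+ ZMod ℓ) ≤ Nat.card M := by
  obtain ⟨h1, h2⟩ := card_dual (F := ZMod ℓ) (M := M)
  have e : (M →+ ZMod ℓ) ≃+ Module.Dual (ZMod ℓ) M := AddMonoidHom.toZModLinearMapEquiv ℓ
  exact ⟨Finite.of_equiv _ e.symm.toEquiv, ((Nat.card_congr e.toEquiv).trans h2).le⟩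

theorem card_hom_le {ℓ : ℕ} [Fact ℓ.Prime] {M : Type*} [AddCommGroup M] [Finite M] (hM : ∀ x : M, ℓ • x = 0) :
    Finite (M →+ ZMod ℓ) ∧ Nat.card (M →+ ZMod ℓ) ≤ Nat.card M :=
  @card_hom_le' ℓ _ M _ _ (AddCommGroup.zmodModule hM)

section

variable {ord : C → ℕ} (h : IsOrd ord)
variable {B : C} {R S : Type w} [CommRing R] [CommRing S] {ι : S →+* R} {ρ : R →+* End B}
  [Module.Finite ℤ R] [Module.Free ℤ R]
  (hG : Good ord ρ) {ℓ : ℕ} [hℓ : Fact ℓ.Prime]
  {m : Ideal S} (hmℓ : (ℓ : S) ∈ m) {m' : Ideal R} (hm' : ∀ x : R, x ∈ m' ↔ ∃ a ∈ m, ι a = x)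
  (hfin : Finite (S ⧸ m))
  {T : C} {τ : T ⟶ B} (hT : IsKer ρ m' τ)
  (hcard : ∀ {X : C} (i : X ⟶ T), Mono i → Finite (W.obj X) ∧ Nat.card (W.obj X) = ord X)
  (hreal : ∀ U : AddSubgroup (W.obj T), (∀ (s : S) (t : T ⟶ T), t ≫ τ = τ ≫ act ρ (ι s) → ∀ u ∈ U, W.map t u ∈ U) →
    ∃ (K : C) (i : K ⟶ T), Mono i ∧ U ≤ (W.map i).range ∧ ord K ≤ Nat.card U)

include h hG hℓ hmℓ hm' hfin hT hcard hreal in
/-- **The hyperplane lemma.** -/
theorem exists_hyper : ∃ (K : C) (k : K ⟶ B) (a : K ⟶ T), Mono k ∧ a ≫ τ = k ∧ ord K ≠ 0 ∧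
    (∀ s : S, ∃ s' : K ⟶ K, k ≫ act ρ (ι s) = s' ≫ k) ∧ ord T ≤ ord K * Nat.card (S ⧸ m) ∧
    (∀ {Z : C} (x : Z ⟶ B), (∀ r : R, ∃ y : Z ⟶ K, x ≫ act ρ r = y ≫ k) → x = 0) := by
  have hnR := noeth R
  have := hT.mono
  obtain ⟨f, hf⟩ := exists_stableHom (ρ := ρ) τ (fun r => (hT.exists_act r).imp fun _ h => h.symm)
  have hf' : ∀ r, act f r ≫ τ = τ ≫ act ρ r := fun r => (hf r).symm
  let _ : Module (End T) (W.obj T) := W.mod T
  let _ : Module R (W.obj T) := Module.compHom (W.obj T) f
  have hsm : ∀ (r : R) (x : W.obj T), r • x = W.map (act f r) x := fun _ _ => rfl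
  obtain ⟨hfT, hcT⟩ := hcard (𝟙 T) inferInstance
  have hℓR : (ℓ : R) ∈ m' := (hm' _).2 ⟨ℓ, hmℓ, map_natCast ι ℓ⟩
  -- `T` is killed by `m'`
  have hTm : ∀ r ∈ m', act f r = 0 := by
    intro r hr
    rw [← cancel_mono τ, hf', hT.zero r hr, zero_comp]
  have hV : ∀ v : W.obj T, ℓ • v = 0 := by
    intro v
    have h1 := hTm _ hℓR
    rw [act_natCast] at h1
    have h2 := W.map_nsmul' ℓ (𝟙 T) v
    rw [W.map_id] at h2
    rw [← h2, h1, W.map_zero']
  -- the socles
  have hm : ∀ p : Ideal R, p.IsMaximal → (ℓ : R) ∈ p → Nat.card {v : W.obj T // ∀ r ∈ p, r • v = 0} ≤ Nat.card (R ⧸ p) := by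
    intro p hp hℓp
    obtain ⟨X, ξ, hξ⟩ := exists_isKer f p (IsNoetherian.noetherian p)
    obtain ⟨P, π, hπ⟩ := exists_isKer ρ p (IsNoetherian.noetherian p)
    have hP := hG ℓ hℓ.out.ne_zero p hℓp π hπ
    have hRp : Finite (R ⧸ p) := by
      have h3 : Ideal.span {(ℓ : R)} ≤ p := (Ideal.span_singleton_le_iff_mem _).2 hℓp
      have := K525.Count.finite_ideal R ℓ hℓ.out.ne_zero
      exact Finite.of_surjective _ (Ideal.Quotient.factor_surjective h3)
    have hPne : ord P ≠ 0 := by rw [hP]; exact Nat.card_pos.ne'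
    have := hξ.mono
    obtain ⟨b, hb⟩ := hπ.lift (ξ ≫ τ) (by
      intro r hr
      rw [Category.assoc, ← hf', ← Category.assoc, hξ.zero r hr, zero_comp])
    have hbm : Mono b := by
      have : Mono (b ≫ π) := by rw [hb]; infer_instance
      exact mono_of_mono b π
    have h1 : ord X ≤ Nat.card (R ⧸ p) := by rw [← hP]; exact h.le_of_mono b hPne
    obtain ⟨hfX, hcX⟩ := hcard ξ hξ.mono
    rw [← hcX] at h1
    refine le_trans ?_ h1
    have hl : ∀ v : {v : W.obj T // ∀ r ∈ p, r • v = 0}, ∃ z : W.obj X, W.map ξ z = v.1 := fun v =>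
      W.lift_isKer (IsNoetherian.noetherian p) hξ v.1 v.2
    choose g hg using hl
    refine Nat.card_le_card_of_injective g fun v v' hvv => Subtype.ext ?_
    rw [← hg v, ← hg v', hvv]
  obtain ⟨μ, hμ⟩ := K525.Cyc.exists_char (R := R) (V := W.obj T) ℓ hV hm
  -- the subgroup
  have hsmul_smul : ∀ (r s : R) (x : W.obj T), (r * s) • x = r • s • x := fun r s x => mul_smul r s x
  let U : AddSubgroup (W.obj T) :=
    { carrier := {w | ∀ s : S, μ (ι s • w) = 0}
      zero_mem' := fun s => by rw [smul_zero, map_zero]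
      add_mem' := fun {a b} ha hb s => by rw [smul_add, map_add, ha, hb, add_zero]
      neg_mem' := fun {a} ha s => by rw [smul_neg, map_neg, ha, neg_zero] }
  have hU : ∀ w, w ∈ U ↔ ∀ s : S, μ (ι s • w) = 0 := fun _ => Iff.rfl
  have hUst : ∀ (s : S), ∀ u ∈ U, ι s • u ∈ U := by
    intro s u hu s'
    rw [← mul_smul, ← map_mul]
    exact hu _
  obtain ⟨K, i, hi, hUi, hKU⟩ := hreal U (by
    intro s t ht u hu
    have h1 : t = act f (ι s) := by rw [← cancel_mono τ, ht, hf']
    rw [h1]
    exact hUst s u hu)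
  obtain ⟨hfK, hcK⟩ := hcard i hi
  have hinj := W.inj i hi
  have hUr : (W.map i).range = U := by
    have h1 : Nat.card (W.map i).range = Nat.card (W.obj K) :=
      Nat.card_congr (AddMonoidHom.ofInjective hinj).toEquiv.symm
    have hfr : Finite (W.map i).range := inferInstance
    refine (SetLike.coe_injective ?_).symm
    refine Set.eq_of_subset_of_ncard_le hUi ?_ (Set.toFinite _)
    show Nat.card _ ≤ Nat.card _
    refine le_trans ?_ hKU
    rw [← hcK, ← h1]
    rfl
  have hKne : ord K ≠ 0 := by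
    rw [← hcK]
    exact Nat.card_pos.ne'
  have hcKU : ord K = Nat.card U := by
    rw [← hcK, ← hUr]
    exact Nat.card_congr (AddMonoidHom.ofInjective hinj).toEquiv
  let π := cokernel.π i
  have hex : ∀ {Z : C} (x : Z ⟶ T), x ≫ π = 0 → ∃ y : Z ⟶ K, y ≫ i = x := by
    intro Z x hx
    have hexi := ShortComplex.exact_cokernel i
    exact ⟨hexi.lift x hx, hexi.lift_f x hx⟩
  refine ⟨K, i ≫ τ, i, inferInstance, rfl, hKne, ?_, ?_, ?_⟩
  · -- stability
    intro s
    let g : K ⟶ cokernel i := i ≫ act f (ι s) ≫ π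
    have h1 : ∀ z : W.obj K, ∃ x : W.obj (kernel g), W.map (kernel.ι g) x = z := by
      intro z
      refine W.ker (kernel.ι g) g inferInstance (fun x hx => ⟨kernel.lift g x hx, kernel.lift_ι _ _ _⟩) z ?_
      have h2 : W.map i z ∈ U := by rw [← hUr]; exact ⟨z, rfl⟩
      have h3 : W.map (act f (ι s)) (W.map i z) ∈ U := hUst s _ h2
      rw [← hUr] at h3
      obtain ⟨y, hy⟩ := h3
      rw [W.map_comp, W.map_comp, ← hy, ← W.map_comp, cokernel.condition, W.map_zero']
    have hmono : Mono (kernel.ι g ≫ i) := inferInstance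
    obtain ⟨hfX, hcX⟩ := hcard (kernel.ι g ≫ i) hmono
    have h2 : ord K ≤ ord (kernel g) := by
      rw [← hcK, ← hcX]
      choose σ hσ using h1
      refine Nat.card_le_card_of_injective σ fun a b hab => ?_
      rw [← hσ a, ← hσ b, hab]
    have h3 : IsIso (kernel.ι g) := h.isIso_of_mono (kernel.ι g) hKne h2
    have h4 : g = 0 := by
      rw [← cancel_epi (kernel.ι g), kernel.condition, comp_zero]
    obtain ⟨s', hs'⟩ := hex (i ≫ act f (ι s)) (by rw [Category.assoc]; exact h4)
    refine ⟨s', ?_⟩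
    rw [Category.assoc, ← hf', ← Category.assoc, ← hs', Category.assoc]
  · -- the size
    rw [← hcT, hcKU]
    have h1 : Nat.card (W.obj T) = Nat.card U * Nat.card (W.obj T ⧸ U) := by
      rw [mul_comm]; exact AddSubgroup.card_eq_card_quotient_mul_card_addSubgroup U
    rw [h1]
    refine Nat.mul_le_mul_left _ ?_
    have hSℓ : ∀ x : S ⧸ m, ℓ • x = 0 := by
      intro x
      obtain ⟨s, rfl⟩ := Ideal.Quotient.mk_surjective x
      rw [← map_nsmul, Ideal.Quotient.eq_zero_iff_mem, nsmul_eq_mul]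
      exact Ideal.mul_mem_right _ _ hmℓ
    obtain ⟨hfh, hch⟩ := card_hom_le (ℓ := ℓ) hSℓ
    refine le_trans ?_ hch
    let Φ : W.obj T →+ (S →+ ZMod ℓ) :=
      { toFun := fun w =>
          { toFun := fun s => μ (ι s • w)
            map_zero' := by rw [map_zero, zero_smul, map_zero]
            map_add' := fun a b => by rw [map_add, add_smul, map_add] }
        map_zero' := by ext s; show μ (ι s • 0) = 0; rw [smul_zero, map_zero]
        map_add' := fun a b => by ext s; show μ (ι s • (a + b)) = μ _ + μ _; rw [smul_add, map_add] }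
    have hΦ : ∀ w s, Φ w s = μ (ι s • w) := fun _ _ => rfl
    have hΦm : ∀ w, ∀ s ∈ m, Φ w s = 0 := by
      intro w s hs
      rw [hΦ, hsm, hTm _ ((hm' _).2 ⟨s, hs, rfl⟩), W.map_zero', map_zero]
    let Ψ : W.obj T → (S ⧸ m →+ ZMod ℓ) := fun w => QuotientAddGroup.lift m.toAddSubgroup (Φ w) (hΦm w)
    have hΨ : ∀ w s, Ψ w (Ideal.Quotient.mk m s) = μ (ι s • w) := fun _ _ => rfl
    let Ψ' : W.obj T ⧸ U → (S ⧸ m →+ ZMod ℓ) := fun x => Ψ x.out
    refine Nat.card_le_card_of_injective Ψ' fun x y hxy => ?_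
    rw [← x.out_eq, ← y.out_eq]
    refine QuotientAddGroup.eq.2 ?_
    intro s
    have h2 := DFunLike.congr_fun hxy (Ideal.Quotient.mk m s)
    have h3 : μ (ι s • x.out) = μ (ι s • y.out) := h2
    rw [smul_add, smul_neg, map_add, map_neg, h3, neg_add_cancel]
  · -- no stable subobjects
    intro Z x hx
    obtain ⟨n, g, hg⟩ := Submodule.fg_iff_exists_fin_generating_family.1 (Module.finite_def.1 ‹Module.Finite ℤ R›)
    let G : K ⟶ ⨁ (fun _ : Fin n => cokernel i) := biproduct.lift (fun j => i ≫ act f (g j) ≫ π)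
    have hGz : ∀ {Z : C} (y : Z ⟶ K), y ≫ G = 0 → ∀ r : R, y ≫ i ≫ act f r ≫ π = 0 := by
      intro Z y hy r
      have hr : r ∈ Submodule.span ℤ (Set.range g) := by rw [hg]; trivial
      induction hr using Submodule.span_induction with
      | mem r hr =>
        obtain ⟨j, rfl⟩ := hr
        have : i ≫ act f (g j) ≫ π = G ≫ biproduct.π _ j := by
          simp only [G]
          rw [biproduct.lift_π]
        rw [this, ← Category.assoc, hy, zero_comp]
      | zero => rw [act_zero, zero_comp, comp_zero, comp_zero]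
      | add a b _ _ h1 h2 => rw [act_add, Preadditive.add_comp, Preadditive.comp_add, Preadditive.comp_add, h1, h2, add_zero]
      | smul c a _ h1 =>
        have : act f (c • a) = c • act f a := by
          show f (c • a) = _
          rw [map_zsmul]
        rw [this, Preadditive.zsmul_comp, Preadditive.comp_zsmul, Preadditive.comp_zsmul, h1, smul_zero]
    have hN : IsZero (kernel G) := by
      apply h.isZero
      have hmono : Mono (kernel.ι G ≫ i) := inferInstance
      obtain ⟨hfX, hcX⟩ := hcard (kernel.ι G ≫ i) hmono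
      rw [← hcX, Nat.card_eq_one_iff_unique]
      refine ⟨⟨fun a b => ?_⟩, inferInstance⟩
      have key : ∀ w : W.obj (kernel G), w = 0 := by
        intro w
        apply W.inj (kernel.ι G ≫ i) hmono
        rw [map_zero]
        by_contra hne
        obtain ⟨r, hr⟩ := hμ _ hne
        apply hr
        have h1 : (kernel.ι G ≫ i ≫ act f r) ≫ π = 0 := by
          rw [Category.assoc, Category.assoc]
          exact hGz _ (kernel.condition G) r
        obtain ⟨y, hy⟩ := hex _ h1
        have h2 : W.map (act f r) (W.map (kernel.ι G ≫ i) w) ∈ U := by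
          rw [← W.map_comp, Category.assoc, ← hy, ← hUr, W.map_comp]
          exact ⟨_, rfl⟩
        have h3 := h2 1
        rwa [map_one, one_smul] at h3
      rw [key a, key b]
    obtain ⟨y1, hy1⟩ := hx 1
    rw [act_one, Category.comp_id] at hy1
    have h1 : y1 ≫ G = 0 := by
      apply biproduct.hom_ext
      intro j
      rw [Category.assoc, biproduct.lift_π, zero_comp]
      obtain ⟨y, hy⟩ := hx (g j)
      have h2 : y1 ≫ i ≫ act f (g j) = y ≫ i := by
        rw [← cancel_mono τ, Category.assoc, Category.assoc, hf', ← Category.assoc i, ← Category.assoc, ← hy1, hy,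
          Category.assoc]
      have h3 : y1 ≫ i ≫ act f (g j) ≫ π = (y1 ≫ i ≫ act f (g j)) ≫ π := by simp only [Category.assoc]
      rw [h3, h2, Category.assoc, cokernel.condition, comp_zero]
    have h2 : y1 = kernel.lift G y1 h1 ≫ kernel.ι G := (kernel.lift_ι _ _ _).symm
    rw [hy1, h2, hN.eq_zero_of_src (kernel.ι G), comp_zero, zero_comp]

end

end K590.Hyper
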