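import Groth.Agent.AbVar.K590.Fin1
import Groth.Agent.AbVar.K511.HT.Iface
import Groth.Agent.AbVar.K525.Stmt
import Mathlib.NumberTheory.NumberField.Basic
import Mathlib.FieldTheory.Minpoly.IsIntegrallyClosed
import Mathlib.FieldTheory.IntermediateField.Adjoin.Basic

/-!
# Abelian varieties over the prime field with endomorphism ring the minimal central order (node LAT)

`main`: if for every `j` there is an abelian variety over `F_p` of dimension `deg P_j / 2` whose Frobenius satisfies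
`P_j`, then there is an abelian variety over `F_p` with endomorphism ring `R_w`.
-/

set_option autoImplicit false

universe u

open CategoryTheory MonoidalCategory CartesianMonoidalCategory MonObj GrpObj AlgebraicGeometry Limits
open scoped NumberField IntermediateField

namespace K590.Lat

open K525.AlgC K525.OrdC K525.AbsOrd K525.AVC K525.AbsD K590.OrdGI K525.Rw K520.Frob

/-! ### the number fields -/

section Field

variable {K : Type} [Field K] [CharZero K] (ϖ : K)

theorem numberField (hint : _root_.IsIntegral ℤ ϖ) : NumberField ℚ⟮ϖ⟯ := by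
  have hQ : _root_.IsIntegral ℚ ϖ := hint.tower_top
  have : FiniteDimensional ℚ ℚ⟮ϖ⟯ := IntermediateField.adjoin.finiteDimensional hQ
  exact { }

theorem gen_integral (hint : _root_.IsIntegral ℤ ϖ) : _root_.IsIntegral ℤ (IntermediateField.AdjoinSimple.gen ℚ ϖ) := by
  rw [← isIntegral_algebraMap_iff (algebraMap ℚ⟮ϖ⟯ K).injective, IntermediateField.AdjoinSimple.algebraMap_gen]
  exact hint

/-- The generator as an algebraic integer. -/
noncomputable def gen (hint : _root_.IsIntegral ℤ ϖ) : 𝓞 ℚ⟮ϖ⟯ :=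
  ⟨IntermediateField.AdjoinSimple.gen ℚ ϖ, gen_integral ϖ hint⟩

/-- The embedding. -/
noncomputable def emb : 𝓞 ℚ⟮ϖ⟯ →+* K := (algebraMap ℚ⟮ϖ⟯ K).comp (algebraMap (𝓞 ℚ⟮ϖ⟯) ℚ⟮ϖ⟯)

theorem emb_injective : Function.Injective (emb ϖ) :=
  (algebraMap ℚ⟮ϖ⟯ K).injective.comp (NumberField.RingOfIntegers.coe_injective)

theorem emb_gen (hint : _root_.IsIntegral ℤ ϖ) : emb ϖ (gen ϖ hint) = ϖ :=
  IntermediateField.AdjoinSimple.algebraMap_gen ℚ ϖ

theorem exists_emb (x : K) (hx : x ∈ ℚ⟮ϖ⟯) (hxi : _root_.IsIntegral ℤ x) : ∃ y : 𝓞 ℚ⟮ϖ⟯, emb ϖ y = x := by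
  have h1 : _root_.IsIntegral ℤ (⟨x, hx⟩ : ℚ⟮ϖ⟯) := by
    rw [← isIntegral_algebraMap_iff (algebraMap ℚ⟮ϖ⟯ K).injective]
    exact hxi
  exact ⟨⟨⟨x, hx⟩, h1⟩, rfl⟩

theorem minpoly_gen (hint : _root_.IsIntegral ℤ ϖ) : minpoly ℤ (gen ϖ hint) = minpoly ℤ ϖ := by
  let _ : Algebra (𝓞 ℚ⟮ϖ⟯) K := (emb ϖ).toAlgebra
  have h1 := minpoly.algebraMap_eq (A := ℤ) (B := 𝓞 ℚ⟮ϖ⟯) (B' := K) (emb_injective ϖ) (gen ϖ hint)
  rw [← h1]
  show minpoly ℤ (emb ϖ (gen ϖ hint)) = _
  rw [emb_gen]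

theorem finrank_eq (hint : _root_.IsIntegral ℤ ϖ) : Module.finrank ℤ (𝓞 ℚ⟮ϖ⟯) = (minpoly ℤ ϖ).natDegree := by
  have := numberField ϖ hint
  have hQ : _root_.IsIntegral ℚ ϖ := hint.tower_top
  rw [NumberField.RingOfIntegers.rank, IntermediateField.adjoin.finrank hQ,
    minpoly.isIntegrallyClosed_eq_field_fractions' ℚ hint, (minpoly.monic hint).natDegree_map]

end Field

section Main

open K590.Base

variable {k : Type u} [Field k] [Finite k] {p : ℕ}

/-- The abelian variety attached to one Weil number, in the category of algebraic groups. -/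
theorem exists_B (hk : Nat.card k = p) (P : Polynomial ℤ)
    (hav : ∃ (B : Over (Spec (CommRingCat.of k))) (_ : GrpObj B) (_ : IsCommMonObj B) (_ : IsProper B.hom)
      (_ : GeometricallyIntegral B.hom) (g : ℕ) (_ : topologicalKrullDim B.left = g)
      (_ : P.natDegree = 2 * g) (π : EndAV.End B),
      K511.HT.IsFrob p π.toHom ∧ Polynomial.eval₂ (Int.castRingHom (EndAV.End B)) π P = 0) :
    ∃ B : Alg k, IsAV B ∧ Div (ord (k := k)) B P.natDegree ∧ evF B P = 0 := by
  obtain ⟨B, i1, i2, i3, i4, g, hg, hg2, π, ⟨hb, hle, happ⟩, hP⟩ := hav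
  have hB : IsAV (K525.AVC.mk B) := isAV_mk B
  have hπ : π.toHom = fr k B := eq_fr k B π.toHom ⟨hb, hle, by rw [hk]; exact happ⟩
  refine ⟨K525.AVC.mk B, hB, ⟨fun n hn => epi_smul hB hn, fun n hn => ?_⟩, ?_⟩
  · rw [ord_torsion hB hg hn, hg2]
  · apply (K525.Conv.endE B).injective
    rw [map_zero, ← hP]
    have h1 := Polynomial.hom_eval₂ P (Int.castRingHom (End (K525.AVC.mk B))) (K525.Conv.endE B : End (K525.AVC.mk B) →+* EndAV.End B)
      (frC (K525.AVC.mk B))
    refine h1.trans ?_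
    have h2 : (K525.Conv.endE B : End (K525.AVC.mk B) →+* EndAV.End B) (frC (K525.AVC.mk B)) = π := by
      exact EndAV.End.ext hπ.symm
    rw [h2]
    congr 1
    exact RingHom.ext_int _ _

/-- **Node LAT of S17997.** -/
theorem main [Fact p.Prime] (hk : Nat.card k = p)
    (J : Type) [Fintype J] (K : J → Type) [∀ j, Field (K j)] [∀ j, CharZero (K j)] (ϖ : ∀ j, K j)
    (hint : ∀ j, _root_.IsIntegral ℤ (ϖ j))
    (hweil : ∀ j, ∀ z ∈ (minpoly ℤ (ϖ j)).aroots ℂ, ‖z‖ = Real.sqrt p)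
    (hinj : ∀ i j, minpoly ℤ (ϖ i) = minpoly ℤ (ϖ j) → i = j)
    (hav : ∀ j, ∃ (B : Over (Spec (CommRingCat.of k))) (_ : GrpObj B) (_ : IsCommMonObj B) (_ : IsProper B.hom)
      (_ : GeometricallyIntegral B.hom) (g : ℕ) (_ : topologicalKrullDim B.left = g)
      (_ : (minpoly ℤ (ϖ j)).natDegree = 2 * g) (π : EndAV.End B),
      K511.HT.IsFrob p π.toHom ∧ Polynomial.eval₂ (Int.castRingHom (EndAV.End B)) π (minpoly ℤ (ϖ j)) = 0) :
    ∃ (A : Over (Spec (CommRingCat.of k))) (_ : GrpObj A) (_ : IsCommMonObj A) (_ : IsProper A.hom)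
      (_ : GeometricallyIntegral A.hom) (ρ : (ev p J K ϖ).range ≃+* EndAV.End A),
      ρ ⟨ev p J K ϖ (MvPolynomial.X 0), AlgHom.mem_range_self _ _⟩ = EndAV.End.of (fr k A) := by
  classical
  have H := K525.Rw.fam p J K ϖ hint hweil hinj
  have hNF : ∀ j, NumberField ℚ⟮ϖ j⟯ := fun j => numberField (ϖ j) (hint j)
  let D : J → Type := fun j => 𝓞 ℚ⟮ϖ j⟯
  let w : ∀ j, D j := fun j => gen (ϖ j) (hint j)
  let e : (∀ j, D j) →+* (∀ j, K j) := RingHom.pi fun j => (emb (ϖ j)).comp (Pi.evalRingHom D j)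
  have he : ∀ x j, e x j = emb (ϖ j) (x j) := fun _ _ => rfl
  have heinj : Function.Injective e := by
    intro x y hxy
    funext j
    exact emb_injective (ϖ j) (congrFun hxy j)
  have hw : e w = ev p J K ϖ (MvPolynomial.X 0) := by
    rw [H.f0]
    funext j
    exact emb_gen (ϖ j) (hint j)
  -- the Verschiebung
  have hV : ∀ j, ∃ y : D j, emb (ϖ j) y = (p : K j) / ϖ j := by
    intro j
    refine exists_emb (ϖ j) _ ?_ ?_
    · refine div_mem ?_ (IntermediateField.mem_adjoin_simple_self ℚ (ϖ j))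
      exact natCast_mem _ p
    · have hfin := H.finite
      have h1 : _root_.IsIntegral ℤ (⟨ev p J K ϖ (MvPolynomial.X 1), AlgHom.mem_range_self _ _⟩ : (ev p J K ϖ).range) :=
        Algebra.IsIntegral.isIntegral _
      have h2 := (h1.map (ev p J K ϖ).range.val).map (Pi.evalAlgHom ℤ K j)
      have h3 : (Pi.evalAlgHom ℤ K j) ((ev p J K ϖ).range.val ⟨ev p J K ϖ (MvPolynomial.X 1), AlgHom.mem_range_self _ _⟩) =
          (p : K j) / ϖ j := by
        show ev p J K ϖ (MvPolynomial.X 1) j = _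
        rw [MvPolynomial.aeval_X]
        rfl
      rwa [h3] at h2
  choose V hV using hV
  have hV' : e V = ev p J K ϖ (MvPolynomial.X 1) := by
    rw [MvPolynomial.aeval_X]
    funext j
    exact hV j
  have hFV : w * V = p := by
    apply heinj
    rw [map_mul, hw, hV', map_natCast, H.f0]
    funext j
    exact H.f1 j
  -- the order
  let R0 : Subring (∀ j, D j) := ((ev p J K ϖ).range.toSubring).comap e
  have hR0 : ∀ x, x ∈ R0 ↔ e x ∈ (ev p J K ϖ).range := fun _ => Iff.rfl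
  have hFm : w ∈ R0 := (hR0 w).2 (by rw [hw]; exact AlgHom.mem_range_self _ _)
  have hVm : V ∈ R0 := (hR0 V).2 (by rw [hV']; exact AlgHom.mem_range_self _ _)
  have hsub : ∀ G : MvPolynomial (Fin 2) ℤ, ∃ x : ∀ j, D j, e x = ev p J K ϖ G := by
    intro G
    induction G using MvPolynomial.induction_on with
    | C a =>
      refine ⟨(a : ∀ j, D j), ?_⟩
      rw [map_intCast, show (MvPolynomial.C a : MvPolynomial (Fin 2) ℤ) = (a : MvPolynomial (Fin 2) ℤ) from eq_intCast _ a,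
        map_intCast]
    | add G G' h1 h2 =>
      obtain ⟨x, hx⟩ := h1
      obtain ⟨y, hy⟩ := h2
      exact ⟨x + y, by rw [map_add, map_add, hx, hy]⟩
    | mul_X G i h1 =>
      obtain ⟨x, hx⟩ := h1
      fin_cases i
      · exact ⟨x * w, by rw [map_mul, map_mul, hx, hw]; rfl⟩
      · exact ⟨x * V, by rw [map_mul, map_mul, hx, hV']; rfl⟩
  let φ : R0 →+* (ev p J K ϖ).range :=
    { toFun := fun x => ⟨e x, x.2⟩
      map_one' := Subtype.ext (map_one e)
      map_mul' := fun x y => Subtype.ext (map_mul e x.1 y.1)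
      map_zero' := Subtype.ext (map_zero e)
      map_add' := fun x y => Subtype.ext (map_add e x.1 y.1) }
  have hφ : Function.Bijective φ := by
    constructor
    · intro x y hxy
      exact Subtype.ext (heinj (Subtype.ext_iff.1 hxy))
    · rintro ⟨_, G, rfl⟩
      obtain ⟨x, hx⟩ := hsub G
      exact ⟨⟨x, (hR0 x).2 (by rw [hx]; exact AlgHom.mem_range_self _ _)⟩, Subtype.ext hx⟩
  let E : R0 ≃+* (ev p J K ϖ).range := RingEquiv.ofBijective φ hφ
  have hmin : ∀ j, minpoly ℤ (w j) = minpoly ℤ (ϖ j) := fun j => minpoly_gen (ϖ j) (hint j)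
  have hrk : ∀ j, Module.finrank ℤ (D j) = (minpoly ℤ (w j)).natDegree := fun j => by
    rw [hmin]; exact finrank_eq (ϖ j) (hint j)
  have hr : Module.finrank ℤ R0 = Module.finrank ℤ (∀ j, D j) := by
    have h1 : Module.finrank ℤ R0 = Module.finrank ℤ (ev p J K ϖ).range :=
      (E.toAddEquiv.toIntLinearEquiv).finrank_eq
    rw [h1, H.finrank, Module.finrank_pi_fintype, Polynomial.natDegree_prod_of_monic _ _ fun j _ => minpoly.monic (hint j)]
    exact Finset.sum_congr rfl fun j _ => (finrank_eq (ϖ j) (hint j)).symm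
  choose B hB hd h0 using fun j => exists_B hk (minpoly ℤ (ϖ j)) (hav j)
  obtain ⟨A, ρ, hA, hρ, hbij⟩ := K590.Fin1.exists_end hk w V hFV hrk (fun i j h => hinj i j (by rw [← hmin, ← hmin, h])) B hB
    (fun j => by rw [hmin]; exact hd j) (fun j => by rw [hmin]; exact h0 j) R0 hFm hVm hr
  have i1 := hA.1
  have i2 := hA.2
  let ρ' : R0 ≃+* End A := RingEquiv.ofBijective ρ hbij
  let εA : End A ≃+* EndAV.End A.obj.X := K525.Conv.endE A.obj.X
  refine ⟨A.obj.X, inferInstance, inferInstance, i1, i2, (E.symm.trans ρ').trans εA, ?_⟩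
  show εA (ρ' (E.symm _)) = _
  have h1 : E.symm ⟨ev p J K ϖ (MvPolynomial.X 0), AlgHom.mem_range_self _ _⟩ = ⟨w, hFm⟩ := by
    rw [RingEquiv.symm_apply_eq]
    exact Subtype.ext hw.symm
  rw [h1]
  have h2 : ρ' ⟨w, hFm⟩ = (show End A from frC A) := hρ
  rw [h2]
  rfl

end Main

end K590.Lat
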