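import Groth.Agent.AbVar.K590.Lat
import Groth.Agent.AbVar.K525.LatFin

/-!
# Node LAT in the form of `K525.LatFin`
-/

set_option autoImplicit false
universe u

open CategoryTheory MonoidalCategory CartesianMonoidalCategory MonObj GrpObj AlgebraicGeometry Limits MvPolynomial

namespace K590.LatI

open K525.AlgC K525.AVC

theorem lat : K525.LatFin.LAT.{u} := by
  intro p _ k _ _ hk J _ K _ _ ϖ hint hweil _ hinj hav
  obtain ⟨A, i1, i2, i3, i4, ρ, hρ⟩ := K590.Lat.main hk J K ϖ hint hweil hinj hav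
  refine ⟨K525.AVC.mk A, ρ.trans (K525.Conv.endE A).symm, isAV_mk A, ?_⟩
  show (K525.Conv.endE A).symm (ρ _) = _
  rw [hρ]
  rfl

end K590.LatI
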