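import Groth.Agent.AbVar.K590.Mdl
import Groth.Agent.Hopf.K503.PrimMap
import Mathlib.Algebra.CharP.Lemmas
import Mathlib.Algebra.CharP.Algebra

/-!
# Verschiebung and the Frobenius of the dual algebra

For a finite subgroup scheme `T` of the `p`-torsion of an abelian variety over the field with `p` elements the pull back
of functionals along the Verschiebung is the `p`-th power in the convolution algebra.
-/

set_option autoImplicit false

universe u v w

open CategoryTheory MonoidalCategory CartesianMonoidalCategory MonObj GrpObj AlgebraicGeometry Limits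
open TensorProduct WithConv

namespace K590.Ver

section Algebra

theorem nontriv (k : Type u) [Field k] (A : Type v) [CommRing A] [Bialgebra k A] : Nontrivial A := by
  refine ⟨0, 1, fun h => ?_⟩
  have h1 := congrArg (Coalgebra.counit (R := k)) h
  rw [map_zero, Bialgebra.counit_one] at h1
  exact zero_ne_one h1

variable {k : Type u} [Field k] {A : Type v} [CommRing A] [Bialgebra k A] [Coalgebra.IsCocomm k A]

omit [Coalgebra.IsCocomm k A] in
theorem emb_pow (f : WithConv (A →ₗ[k] k)) (n : ℕ) :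
    (toConv ((Algebra.ofId k A).toLinearMap ∘ₗ (f ^ n).ofConv) : WithConv (A →ₗ[k] A)) =
      toConv ((Algebra.ofId k A).toLinearMap ∘ₗ f.ofConv) ^ n := by
  induction n with
  | zero =>
    rw [pow_zero, pow_zero]
    apply WithConv.ext; apply LinearMap.ext; intro a
    rfl
  | succ n ih =>
    rw [pow_succ, pow_succ, ← ih]
    apply WithConv.ofConv_injective
    exact LinearMap.algHom_comp_convMul_distrib (Algebra.ofId k A) (f ^ n) f

omit [Coalgebra.IsCocomm k A] in
theorem charP_conv (p : ℕ) [hp : Fact p.Prime] [CharP k p] : CharP A p ∧ CharP (WithConv (A →ₗ[k] A)) p ∧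
    CharP (WithConv (A →ₗ[k] k)) p := by
  have hA : Nontrivial A := nontriv k A
  have h1 : CharP A p := charP_of_injective_algebraMap (algebraMap k A).injective p
  have hn : Nontrivial (WithConv (A →ₗ[k] A)) := by
    refine ⟨0, 1, fun h => ?_⟩
    have h2 : (0 : WithConv (A →ₗ[k] A)) 1 = (1 : WithConv (A →ₗ[k] A)) 1 := by rw [h]
    rw [LinearMap.convOne_apply, Bialgebra.counit_one, RingHom.map_one] at h2
    exact zero_ne_one h2
  have hn' : Nontrivial (WithConv (A →ₗ[k] k)) := by
    refine ⟨0, 1, fun h => ?_⟩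
    have h2 : (0 : WithConv (A →ₗ[k] k)) 1 = (1 : WithConv (A →ₗ[k] k)) 1 := by rw [h]
    rw [LinearMap.convOne_apply, Bialgebra.counit_one, RingHom.map_one] at h2
    exact zero_ne_one h2
  exact ⟨h1, charP_of_injective_algebraMap (algebraMap k (WithConv (A →ₗ[k] A))).injective p,
    charP_of_injective_algebraMap (algebraMap k (WithConv (A →ₗ[k] k))).injective p⟩

omit [Coalgebra.IsCocomm k A] in
theorem sum_apply {B : Type*} [CommRing B] [Algebra k B] {I : Type*} (s : Finset I) (F : I → WithConv (A →ₗ[k] B)) (a : A) :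
    (∑ i ∈ s, F i) a = ∑ i ∈ s, (F i) a := by
  induction s using Finset.cons_induction with
  | empty => rw [Finset.sum_empty, Finset.sum_empty]; rfl
  | cons b s hb ih => rw [Finset.sum_cons, Finset.sum_cons, ← ih]; rfl

variable [Module.Finite k A]

/-- If `v` is the transpose of the `p`-th power map of the dual then `id ^ p = (v ·) ^ p` (convolution power on the left).
-/
theorem id_pow (p : ℕ) [hp : Fact p.Prime] [CharP k p] (hk : ∀ x : k, x ^ p = x) (v : A →ₗ[k] A)
    (hv : ∀ (f : WithConv (A →ₗ[k] k)) (a : A), f (v a) = (f ^ p) a) (a : A) :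
    ((toConv LinearMap.id : WithConv (A →ₗ[k] A)) ^ p) a = (v a) ^ p := by
  obtain ⟨h1, h2, -⟩ := charP_conv (k := k) (A := A) p
  let b := Module.finBasis k A
  let f : Fin (Module.finrank k A) → WithConv (A →ₗ[k] k) := fun i => toConv (b.coord i)
  let emb : WithConv (A →ₗ[k] k) → WithConv (A →ₗ[k] A) := fun f => toConv ((Algebra.ofId k A).toLinearMap ∘ₗ f.ofConv)
  have hemb : ∀ f a, emb f a = algebraMap k A (f a) := fun _ _ => rfl
  have hid : (toConv LinearMap.id : WithConv (A →ₗ[k] A)) = ∑ i, b i • emb (f i) := by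
    apply WithConv.ext; apply LinearMap.ext; intro a
    show a = (∑ i, b i • emb (f i) : WithConv (A →ₗ[k] A)) a
    rw [sum_apply]
    conv_lhs => rw [← b.sum_repr a]
    refine Finset.sum_congr rfl fun i _ => ?_
    show _ = b i * algebraMap k A (b.coord i a)
    rw [Module.Basis.coord_apply, Algebra.smul_def, mul_comm]
  rw [hid, sum_pow_char, sum_apply]
  have e1 : (v a) ^ p = ∑ i, (b.repr (v a) i • b i) ^ p := by
    conv_lhs => rw [← b.sum_repr (v a)]
    rw [sum_pow_char]
  rw [e1]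
  refine Finset.sum_congr rfl fun i _ => ?_
  rw [smul_pow, smul_pow, ← emb_pow]
  show b i ^ p * algebraMap k A ((f i ^ p) a) = _
  rw [← hv, hk, Algebra.smul_def, mul_comm]
  rfl

/-- The transpose of the `p`-th power map of the dual algebra. -/
theorem exists_v (p : ℕ) [hp : Fact p.Prime] [CharP k p] (hk : ∀ x : k, x ^ p = x) :
    ∃ v : A →ₗ[k] A, ∀ (f : WithConv (A →ₗ[k] k)) (a : A), f (v a) = (f ^ p) a := by
  obtain ⟨-, -, h3⟩ := charP_conv (k := k) (A := A) p
  -- the `p`-th power map is linear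
  let φ : WithConv (A →ₗ[k] k) →ₗ[k] WithConv (A →ₗ[k] k) :=
    { toFun := fun f => f ^ p
      map_add' := fun f g => add_pow_char _ _ _
      map_smul' := fun c f => by rw [smul_pow, hk]; rfl }
  let b := Module.finBasis k A
  let v : A →ₗ[k] A :=
    { toFun := fun a => ∑ i, (φ (toConv (b.coord i))) a • b i
      map_add' := fun x y => by
        rw [← Finset.sum_add_distrib]
        refine Finset.sum_congr rfl fun i _ => ?_
        rw [← add_smul]
        congr 1
        exact map_add (φ (toConv (b.coord i))).ofConv x y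
      map_smul' := fun c x => by
        rw [RingHom.id_apply, Finset.smul_sum]
        refine Finset.sum_congr rfl fun i _ => ?_
        rw [smul_smul]
        congr 1
        exact map_smul (φ (toConv (b.coord i))).ofConv c x }
  refine ⟨v, fun f a => ?_⟩
  have hf : f = ∑ i, f (b i) • (toConv (b.coord i) : WithConv (A →ₗ[k] k)) := by
    apply WithConv.ext; apply LinearMap.ext; intro a
    show f a = (∑ i, f (b i) • (toConv (b.coord i) : WithConv (A →ₗ[k] k)) : WithConv (A →ₗ[k] k)) a
    rw [sum_apply]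
    conv_lhs => rw [← b.sum_repr a]
    refine (map_sum f.ofConv _ _).trans (Finset.sum_congr rfl fun i _ => ?_)
    show f.ofConv (b.repr a i • b i) = f (b i) * b.coord i a
    rw [map_smul, Module.Basis.coord_apply, smul_eq_mul, mul_comm]
  have h1 : f ^ p = ∑ i, f (b i) • φ (toConv (b.coord i)) := by
    show φ f = _
    conv_lhs => rw [hf]
    rw [map_sum]
    refine Finset.sum_congr rfl fun i _ => ?_
    rw [map_smul]
  rw [h1, sum_apply]
  refine (map_sum f.ofConv (fun i => (φ (toConv (b.coord i))) a • b i) Finset.univ).trans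
    (Finset.sum_congr rfl fun i _ => ?_)
  show f.ofConv ((φ (toConv (b.coord i))) a • b i) = f (b i) * (φ (toConv (b.coord i))) a
  rw [map_smul, smul_eq_mul, mul_comm]

end Algebra

section Geom

open K525.AlgC K525.OrdC K525.AbsOrd K525.AVC K525.AbsD K590.Mdl

theorem comp_pow {k : Type u} [Field k] {A B : Type v} [CommRing A] [Bialgebra k A] [CommRing B] [Bialgebra k B]
    (r : A →ₐc[k] B) (f : WithConv (B →ₗ[k] k)) (n : ℕ) :
    (toConv (f.ofConv ∘ₗ (r : A →ₗc[k] B).toLinearMap) : WithConv (A →ₗ[k] k)) ^ n =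
      toConv ((f ^ n).ofConv ∘ₗ (r : A →ₗc[k] B).toLinearMap) := by
  induction n with
  | zero =>
    rw [pow_zero, pow_zero]
    apply WithConv.ext; apply LinearMap.ext; intro a
    show algebraMap k k (Coalgebra.counit a) = algebraMap k k (Coalgebra.counit (r a))
    rw [CoalgHomClass.counit_comp_apply]
  | succ n ih =>
    rw [pow_succ, pow_succ, ih]
    apply WithConv.ofConv_injective
    exact (LinearMap.convMul_comp_coalgHom_distrib (f ^ n) f (r : A →ₗc[k] B)).symm

variable {k : Type u} [Field k] [Finite k]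

theorem nsmul_torsion_lift {X T : Alg k} {n m : ℕ} (τ : T ⟶ X) (hτ : τ ≫ (n • 𝟙 X) = 0) (h : n ∣ m) :
    τ ≫ (m • 𝟙 X) = 0 := by
  obtain ⟨c, rfl⟩ := h
  have h1 : (n * c) • 𝟙 X = (n • 𝟙 X) ≫ (c • 𝟙 X) := by rw [smul_id_comp, smul_smul]
  rw [h1, ← Category.assoc, hτ, zero_comp]

/-- **Verschiebung is the `p`-th power map of the dual algebra** (on finite subgroups of the `p`-torsion of an abelian
variety). -/
theorem conv_pow_ver {p : ℕ} [Fact p.Prime] (hk : Nat.card k = p) (hord : IsOrd (ord (k := k))) {X : Alg k} (hX : IsAV X)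
    {V : X ⟶ X} (hV1 : frC X ≫ V = p • 𝟙 X) (hV2 : V ≫ frC X = p • 𝟙 X) {T : Alg k} (τ : T ⟶ X) [Mono τ]
    (hT : τ ≫ (p • 𝟙 X) = 0) (M : HM T) (VT : T ⟶ T) (hVT : VT ≫ τ = τ ≫ V) (f : WithConv (M.C →ₗ[k] k)) (c : M.C) :
    f (M.pull M VT c) = (f ^ p) c := by
  have hp0 : p ≠ 0 := (Fact.out : p.Prime).ne_zero
  have hch : CharP k p := by
    have h1 : (p : k) = 0 := by
      have := Fintype.ofFinite k
      rw [← hk, Nat.card_eq_fintype_card]
      exact Nat.cast_card_eq_zero k
    exact (CharP.charP_iff_prime_eq_zero Fact.out).2 h1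
  have hkp : ∀ x : k, x ^ p = x := fun x => by
    have := Fintype.ofFinite k
    rw [← hk, Nat.card_eq_fintype_card]; exact FiniteField.pow_card x
  -- the `p ^ 2`-torsion
  let T1 := kernel ((p * p) • 𝟙 X)
  let κ : T1 ⟶ X := kernel.ι ((p * p) • 𝟙 X)
  have hcomm : ∀ (n : ℕ) (g : X ⟶ X), g ≫ (n • 𝟙 X) = (n • 𝟙 X) ≫ g := fun n g => by
    rw [smul_id_comp, comp_smul_id]
  have hlift : ∀ {Z : Alg k} (x : Z ⟶ X), x ≫ ((p * p) • 𝟙 X) = 0 → ∃ y : Z ⟶ T1, y ≫ κ = x := fun x hx =>
    ⟨kernel.lift _ x hx, kernel.lift_ι _ _ _⟩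
  obtain ⟨V1, hV1κ⟩ := hlift (κ ≫ V) (by
    rw [Category.assoc, hcomm, ← Category.assoc]
    show (kernel.ι ((p * p) • 𝟙 X) ≫ _) ≫ _ = 0
    rw [kernel.condition, zero_comp])
  have hT1ne : ord T1 ≠ 0 := ord_torsion_ne_zero hX (Nat.mul_ne_zero hp0 hp0)
  obtain ⟨M1⟩ := exists_hm T1 hT1ne
  have hFκ : frC T1 ≫ κ = κ ≫ frC X := frC_comm κ
  have hκ : Mono κ := inferInstanceAs (Mono (kernel.ι ((p * p) • 𝟙 X)))
  have hnκ : (p • 𝟙 T1) ≫ κ = κ ≫ (p • 𝟙 X) := by rw [smul_id_comp, comp_smul_id]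
  have hFV : frC T1 ≫ V1 = p • 𝟙 T1 := by
    rw [← cancel_mono κ, Category.assoc, hV1κ, ← Category.assoc, hFκ, Category.assoc, hV1, hnκ]
  have hVF : V1 ≫ frC T1 = p • 𝟙 T1 := by
    rw [← cancel_mono κ, Category.assoc, hFκ, ← Category.assoc, hV1κ, Category.assoc, hV2, hnκ]
  obtain ⟨i, hi⟩ := hlift τ (nsmul_torsion_lift τ hT (Dvd.intro p rfl))
  have him : Mono i := by
    have : Mono (i ≫ κ) := by rw [hi]; infer_instance
    exact mono_of_mono i κ
  -- the transpose of the `p`-th power map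
  obtain ⟨v, hv⟩ := exists_v (k := k) (A := M1.C) p hkp
  have hvV : ∀ c : M1.C, (v c) ^ p = (M1.pull M1 V1 c) ^ p := by
    intro c
    have h1 := id_pow (k := k) (A := M1.C) p hkp v hv c
    have h2 := M1.pull_nsmul p c
    rw [← h1, ← h2, ← hFV, HM.pull_comp M1 M1 M1, HM.pull_frC, hk]
  -- elements with vanishing `p`-th power die in `T`
  have hdie : ∀ x : M1.C, x ^ p = 0 → M.pull M1 i x = 0 := by
    intro x hx
    have hpe := epi_smul hX hp0
    let P := pullback (p • 𝟙 X) τ
    let s : P ⟶ T := pullback.snd (p • 𝟙 X) τ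
    have hs : Epi s := inferInstanceAs (Epi (pullback.snd (p • 𝟙 X) τ))
    let l : P ⟶ X := pullback.fst (p • 𝟙 X) τ
    have hl : Mono l := inferInstanceAs (Mono (pullback.fst (p • 𝟙 X) τ))
    have hls : l ≫ (p • 𝟙 X) = s ≫ τ := pullback.condition
    obtain ⟨j, hj⟩ := hlift l (by
      have h1 : (p * p) • 𝟙 X = (p • 𝟙 X) ≫ (p • 𝟙 X) := by rw [smul_id_comp, smul_smul]
      rw [h1, ← Category.assoc, hls, Category.assoc, hT, comp_zero])
    have hjm : Mono j := by
      have : Mono (j ≫ κ) := by rw [hj]; exact hl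
      exact mono_of_mono j κ
    have hPne : ord P ≠ 0 := hord.ne_zero_of_mono j hT1ne
    obtain ⟨MP⟩ := exists_hm P hPne
    have hji : j ≫ (p • 𝟙 T1) = s ≫ i := by
      rw [← cancel_mono κ, Category.assoc, hnκ, ← Category.assoc, hj, hls, Category.assoc, hi]
    apply HM.pull_injective MP M s
    rw [← HM.pull_comp MP M M1, ← hji, ← hVF, map_zero, HM.pull_comp MP M1 M1, HM.pull_comp M1 M1 M1, HM.pull_frC, hk,
      hx, map_zero, map_zero]
  obtain ⟨c, rfl⟩ := HM.pull_surjective M M1 i c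
  have h1 : VT ≫ i = i ≫ V1 := by
    rw [← cancel_mono κ, Category.assoc, hi, hVT, Category.assoc, hV1κ, ← Category.assoc, hi]
  have h2 : M.pull M VT (M.pull M1 i c) = M.pull M1 i (v c) := by
    rw [← HM.pull_comp M M M1, h1, HM.pull_comp M M1 M1, ← sub_eq_zero, ← map_sub]
    apply hdie
    have : CharP M1.C p := (charP_conv (k := k) (A := M1.C) p).1
    rw [sub_pow_char, hvV, sub_self]
  rw [h2]
  have h3 := hv (toConv (f.ofConv ∘ₗ ((M.pull M1 i : M1.C →ₐc[k] M.C) : M1.C →ₗc[k] M.C).toLinearMap)) c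
  rw [comp_pow] at h3
  exact h3

end Geom

end K590.Ver
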