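import Groth.Agent.AbVar.K590.Sub
import Groth.Agent.AbVar.K590.HtOne
import Groth.Agent.AbVar.K590.Ver
import Groth.Agent.AbVar.K525.TanC

/-!
# Dual number points of finite group schemes killed by the Frobenius

`hcard`: a finite group scheme of height one over the field with `p` elements has as many dual number points as its order;
`hreal`: subgroups of the group of dual number points of `T ⊂ X` stable under the Verschiebung come from subgroup schemes.
-/

set_option autoImplicit false

universe u v w

open CategoryTheory MonoidalCategory CartesianMonoidalCategory MonObj GrpObj AlgebraicGeometry Limits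
open TensorProduct WithConv DualNumber

namespace K590.LieT

open K503.PrimMap Groth.Agent.Sga3C.HopfPow

section Alg

variable {K : Type u} {C : Type v} [Field K] [CommRing C] [HopfAlgebra K C]

/-- The dual number point attached to a point derivation. -/
noncomputable def algOf (u : WithConv (C →ₗ[K] K)) (hu : IsDer u) : C →ₐ[K] DualNumber K where
  toFun c := TrivSqZeroExt.inl (Coalgebra.counit (R := K) c) + TrivSqZeroExt.inr (u c)
  map_one' := by
    rw [Bialgebra.counit_one, hu.apply_one]
    simp
  map_mul' a b := by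
    apply TrivSqZeroExt.ext
    · simp
    · have := hu a b
      simp only [TrivSqZeroExt.snd_add, TrivSqZeroExt.snd_inl, TrivSqZeroExt.snd_inr, TrivSqZeroExt.snd_mul,
        TrivSqZeroExt.fst_add, TrivSqZeroExt.fst_inl, TrivSqZeroExt.fst_inr, zero_add, add_zero]
      rw [this]
      simp only [smul_eq_mul, MulOpposite.smul_eq_mul_unop, MulOpposite.unop_op]
      ring
  map_zero' := by
    have h0 : u 0 = 0 := map_zero u.ofConv
    rw [map_zero, h0]
    simp
  map_add' a b := by
    have h0 : u (a + b) = u a + u b := map_add u.ofConv a b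
    rw [map_add, h0]
    simp only [TrivSqZeroExt.inl_add, TrivSqZeroExt.inr_add]
    abel
  commutes' r := by
    have h0 : u (algebraMap K C r) = 0 := by
      rw [Algebra.algebraMap_eq_smul_one]
      refine (map_smul u.ofConv _ _).trans ?_
      show _ * u 1 = 0
      rw [hu.apply_one, mul_zero]
    rw [Bialgebra.counit_algebraMap, h0]
    simp
    rfl

theorem algOf_apply (u : WithConv (C →ₗ[K] K)) (hu : IsDer u) (c : C) :
    algOf u hu c = TrivSqZeroExt.inl (Coalgebra.counit (R := K) c) + TrivSqZeroExt.inr (u c) := rfl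

theorem algOf_snd (u : WithConv (C →ₗ[K] K)) (hu : IsDer u) (c : C) : (algOf u hu c).snd = u c := by
  rw [algOf_apply]; simp

/-- The convolution of dual number points is the sum of the derivations. -/
theorem algOf_mul (u v : WithConv (C →ₗ[K] K)) (hu : IsDer u) (hv : IsDer v) :
    (toConv (algOf u hu) * toConv (algOf v hv)).ofConv = algOf (u + v) (hu.add hv) := by
  have key : ∀ z : C ⊗[K] C, LinearMap.mul' K (DualNumber K)
      (TensorProduct.map (algOf u hu).toLinearMap (algOf v hv).toLinearMap z) =
      TrivSqZeroExt.inl (LinearMap.mul' K K (TensorProduct.map (Coalgebra.counit (R := K)) (Coalgebra.counit (R := K)) z)) +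
      TrivSqZeroExt.inr (LinearMap.mul' K K (TensorProduct.map u.ofConv (Coalgebra.counit (R := K)) z) +
        LinearMap.mul' K K (TensorProduct.map (Coalgebra.counit (R := K)) v.ofConv z)) := by
    intro z
    induction z with
    | zero => simp
    | tmul a b =>
      simp only [TensorProduct.map_tmul, LinearMap.mul'_apply]
      show algOf u hu a * algOf v hv b = _
      rw [algOf_apply, algOf_apply]
      apply TrivSqZeroExt.ext
      · simp
      · simp only [TrivSqZeroExt.snd_add, TrivSqZeroExt.snd_inl, TrivSqZeroExt.snd_inr, TrivSqZeroExt.snd_mul,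
          TrivSqZeroExt.fst_add, TrivSqZeroExt.fst_inl, TrivSqZeroExt.fst_inr, zero_add, add_zero]
        simp only [smul_eq_mul, MulOpposite.smul_eq_mul_unop, MulOpposite.unop_op]
        ring
    | add a b ha hb =>
      simp only [map_add, ha, hb, TrivSqZeroExt.inl_add, TrivSqZeroExt.inr_add]
      abel
  apply AlgHom.ext
  intro c
  have h1 : (toConv (algOf u hu) * toConv (algOf v hv)).ofConv c = LinearMap.mul' K (DualNumber K)
      (TensorProduct.map (algOf u hu).toLinearMap (algOf v hv).toLinearMap (Coalgebra.comul (R := K) c)) := rfl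
  have h2 : LinearMap.mul' K K (TensorProduct.map u.ofConv (Coalgebra.counit (R := K) (A := C))
      (Coalgebra.comul (R := K) c)) = u c := by
    have := congrArg (fun z : WithConv (C →ₗ[K] K) => z c) (mul_one u)
    exact this
  have h3 : LinearMap.mul' K K (TensorProduct.map (Coalgebra.counit (R := K) (A := C)) v.ofConv
      (Coalgebra.comul (R := K) c)) = v c := by
    have := congrArg (fun z : WithConv (C →ₗ[K] K) => z c) (one_mul v)
    exact this
  have h4 : LinearMap.mul' K K (TensorProduct.map (Coalgebra.counit (R := K) (A := C)) (Coalgebra.counit (R := K) (A := C))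
      (Coalgebra.comul (R := K) c)) = Coalgebra.counit (R := K) c := by
    have := congrArg (fun z : WithConv (C →ₗ[K] K) => z c) (one_mul (1 : WithConv (C →ₗ[K] K)))
    exact this
  rw [h1, key, h2, h3, h4]
  rfl

theorem algOf_zero (h0 : IsDer (0 : WithConv (C →ₗ[K] K))) :
    algOf (0 : WithConv (C →ₗ[K] K)) h0 = (1 : WithConv (C →ₐ[K] DualNumber K)).ofConv := by
  apply AlgHom.ext
  intro c
  rw [algOf_apply]
  show TrivSqZeroExt.inl _ + TrivSqZeroExt.inr (0 : K) = algebraMap K (DualNumber K) (Coalgebra.counit c)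
  simp
  rfl

variable {p : ℕ} (h1 : ∀ c : C, Coalgebra.counit (R := K) c = 0 → c ^ p = 0)
include h1

theorem fst_eq (φ : C →ₐ[K] DualNumber K) (c : C) : (φ c).fst = Coalgebra.counit (R := K) c := by
  have h2 : (c - algebraMap K C (Coalgebra.counit (R := K) c)) ^ p = 0 := by
    apply h1
    rw [map_sub, Bialgebra.counit_algebraMap, sub_self]
  have h3 : (TrivSqZeroExt.fstHom K K K) (φ (c - algebraMap K C (Coalgebra.counit (R := K) c))) ^ p = 0 := by
    rw [← map_pow, ← map_pow, h2, map_zero, map_zero]
  have h4 := eq_zero_of_pow_eq_zero h3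
  rw [map_sub, map_sub, AlgHom.commutes, sub_eq_zero] at h4
  exact h4

/-- Every dual number point comes from a point derivation. -/
theorem exists_algOf (φ : C →ₐ[K] DualNumber K) : ∃ (u : WithConv (C →ₗ[K] K)) (hu : IsDer u), algOf u hu = φ := by
  let u : WithConv (C →ₗ[K] K) := toConv ((TrivSqZeroExt.sndHom K K).restrictScalars K ∘ₗ φ.toLinearMap)
  have hu' : ∀ c, u c = (φ c).snd := fun _ => rfl
  have hu : IsDer u := by
    intro a b
    rw [hu', hu', hu', map_mul, TrivSqZeroExt.snd_mul, fst_eq h1, fst_eq h1]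
    simp only [smul_eq_mul, MulOpposite.smul_eq_mul_unop, MulOpposite.unop_op]
    ring
  refine ⟨u, hu, ?_⟩
  apply AlgHom.ext
  intro c
  rw [algOf_apply]
  apply TrivSqZeroExt.ext
  · rw [fst_eq h1]; simp
  · rw [hu']; simp

omit h1 in
theorem algOf_injective {u v : WithConv (C →ₗ[K] K)} {hu : IsDer u} {hv : IsDer v} (h : algOf u hu = algOf v hv) : u = v := by
  apply WithConv.ext; apply LinearMap.ext; intro c
  have := DFunLike.congr_fun h c
  have h2 := congrArg TrivSqZeroExt.snd this
  rw [algOf_snd, algOf_snd] at h2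
  exact h2

/-- **The number of dual number points.** -/
theorem card_eq [hp : Fact p.Prime] [Finite K] (hK : Nat.card K = p) [Module.Finite K C] :
    Finite (C →ₐ[K] DualNumber K) ∧ Nat.card (C →ₐ[K] DualNumber K) = Module.finrank K C := by
  have hnoe : IsNoetherianRing C := isNoetherian_of_isNoetherianRing_of_finite K C |> fun h =>
    isNoetherian_of_tower K h
  have hnil : IsNilpotent (augIdeal K C) := by
    rw [Ideal.FG.isNilpotent_iff_le_nilradical (IsNoetherian.noetherian _)]
    intro c hc
    rw [mem_augIdeal] at hc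
    exact ⟨p, h1 c hc⟩
  obtain ⟨hfin, hle, -⟩ := K525.TanC.card_dual_le p hK (C := C) hnil
  refine ⟨hfin, le_antisymm hle ?_⟩
  obtain ⟨n, x, d, hx, hd, hdx, hI⟩ := exists_coords K C
  have hsurj := aeval_surjective x d hx hI hnil
  have hp1 : 1 < p := hp.out.one_lt
  -- the dimension is at most `p ^ n`
  have hdim : Module.finrank K C ≤ p ^ n := by
    let v : (Fin n → Fin p) → C := fun e => ∏ i, x i ^ (e i : ℕ)
    let M : Submodule K C := Submodule.span K (Set.range v)
    have hmem : ∀ s : Fin n → ℕ, ∏ i, x i ^ s i ∈ M :=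
      K590.HtOne.monomials_mem p hp1 x (fun i => by rw [h1 (x i) ((mem_augIdeal (K := K)).1 (hx i))]; exact zero_mem _) M
        (fun e => Submodule.subset_span ⟨e, rfl⟩)
    have htop : M = ⊤ := by
      rw [eq_top_iff]
      rintro c -
      obtain ⟨P, rfl⟩ := hsurj c
      induction P using MvPolynomial.induction_on' with
      | monomial s a =>
        rw [MvPolynomial.aeval_monomial, ← Algebra.smul_def]
        refine M.smul_mem a ?_
        rw [Finsupp.prod_fintype _ _ (fun i => pow_zero _)]
        exact hmem s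
      | add P Q hP hQ =>
        rw [map_add]
        exact M.add_mem hP hQ
    have h3 := finrank_range_le_card (R := K) v
    rw [Fintype.card_fun, Fintype.card_fin, Fintype.card_fin] at h3
    have h4 : Set.finrank K (Set.range v) = Module.finrank K C := by
      show Module.finrank K M = _
      rw [htop, finrank_top]
    omega
  refine hdim.trans ?_
  have hdd : ∀ j, IsDer (toConv (d j) : WithConv (C →ₗ[K] K)) := fun j a b => (hd j a b).trans (add_comm _ _)
  let u : (Fin n → K) → WithConv (C →ₗ[K] K) := fun a => ∑ j, a j • toConv (d j)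
  have hu : ∀ a, IsDer (u a) := by
    intro a
    have key : ∀ s : Finset (Fin n), IsDer (∑ j ∈ s, a j • (toConv (d j) : WithConv (C →ₗ[K] K))) := by
      classical
      intro s
      induction s using Finset.induction_on with
      | empty => rw [Finset.sum_empty]; exact isDer_zero
      | insert j s hj ih =>
        rw [Finset.sum_insert hj]
        exact IsDer.add (IsDer.smul (hdd j) (a j)) ih
    exact key _
  have hux : ∀ a i, u a (x i) = a i := by
    intro a i
    have h2 : u a (x i) = ∑ j, a j * d j (x i) := by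
      have key : ∀ s : Finset (Fin n), (∑ j ∈ s, a j • (toConv (d j) : WithConv (C →ₗ[K] K))) (x i) =
          ∑ j ∈ s, a j * d j (x i) := by
        classical
        intro s
        induction s using Finset.induction_on with
        | empty => rw [Finset.sum_empty, Finset.sum_empty]; rfl
        | insert j s hj ih =>
          rw [Finset.sum_insert hj, Finset.sum_insert hj, ← ih]
          rfl
      exact key _
    rw [h2, Finset.sum_eq_single i]
    · rw [hdx, if_pos rfl, _root_.mul_one]
    · intro j _ hj
      rw [hdx, if_neg (Ne.symm hj), mul_zero]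
    · intro h; exact absurd (Finset.mem_univ _) h
  have h5 := Nat.card_le_card_of_injective (fun a : Fin n → K => algOf (u a) (hu a)) (by
    intro a b hab
    have h6 := algOf_injective hab
    funext i
    rw [← hux a i, ← hux b i, h6])
  rwa [Nat.card_fun, Nat.card_fin, hK] at h5

end Alg

section Geom

open K525.AlgC K525.OrdC K525.AbsOrd K525.AVC K525.AbsD K525.Pts Groth.Agent.Books.AffBridge
open K590.Mdl K590.Hyper K590.Sub

variable {k : Type u} [Field k] [Finite k] {p : ℕ} [hp : Fact p.Prime] (hk : Nat.card k = p)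

omit [Finite k] in
/-- The dual number points. -/
noncomputable abbrev W (k : Type u) [Field k] : PtFun (Alg k) := ptFun (SpecOver k (DualNumber k))

include hk in
omit hp in
theorem pow_eq_zero_of_frC {X : Alg k} (M : HM X) (hX : frC X = 0) (c : M.C) (hc : Coalgebra.counit (R := k) c = 0) :
    c ^ p = 0 := by
  rw [← hk, ← M.pull_frC, hX, M.pull_zero, hc, map_zero]

theorem frC_zero_of_mono {X T : Alg k} (i : X ⟶ T) [Mono i] (hT : frC T = 0) : frC X = 0 := by
  rw [← cancel_mono i, frC_comm, hT, comp_zero, zero_comp]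

include hk in
/-- The number of dual number points. -/
theorem hcard (hord : IsOrd (ord (k := k))) {T : Alg k} (hT : frC T = 0) (hTo : ord T ≠ 0) {X : Alg k} (i : X ⟶ T)
    (hi : Mono i) : Finite ((W k).obj X) ∧ Nat.card ((W k).obj X) = ord X := by
  have hX : frC X = 0 := frC_zero_of_mono i hT
  obtain ⟨M⟩ := exists_hm X (hord.ne_zero_of_mono i hTo)
  obtain ⟨h1, h2⟩ := card_eq (pow_eq_zero_of_frC hk M hX) hk
  have e : (M.C →ₐ[k] DualNumber k) ≃ (W k).obj X := (HM.toPt M (DualNumber k)).trans Additive.ofMul
  exact ⟨Finite.of_equiv _ e, by rw [← Nat.card_congr e, h2, M.ord_eq]⟩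

include hk in
/-- **Realization of subgroups stable under Verschiebung.** -/
theorem hreal (hord : IsOrd (ord (k := k))) {X : Alg k} (hX : IsAV X)
    {V : X ⟶ X} (hV1 : frC X ≫ V = p • 𝟙 X) (hV2 : V ≫ frC X = p • 𝟙 X) {T : Alg k} (hTo : ord T ≠ 0) (τ : T ⟶ X) [Mono τ]
    (hT : frC T = 0) (VT : T ⟶ T) (hVT : VT ≫ τ = τ ≫ V) (U : AddSubgroup ((W k).obj T))
    (hU : ∀ u ∈ U, (W k).map VT u ∈ U) :
    ∃ (K : Alg k) (i : K ⟶ T), Mono i ∧ U ≤ ((W k).map i).range ∧ ord K ≤ Nat.card U := by
  obtain ⟨M⟩ := exists_hm T hTo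
  have h1 := pow_eq_zero_of_frC hk M hT
  have hTp : τ ≫ (p • 𝟙 X) = 0 := by
    rw [← hV1, ← Category.assoc, ← frC_comm, hT, zero_comp, zero_comp]
  have hcard := hcard hk hord hT hTo (𝟙 T) inferInstance
  have hchp : ∀ a : k, ∃ n : ℕ, (n : k) = a := by
    have hch : CharP k p := by
      have h1 : (p : k) = 0 := by
        have := Fintype.ofFinite k
        rw [← hk, Nat.card_eq_fintype_card]
        exact Nat.cast_card_eq_zero k
      exact (CharP.charP_iff_prime_eq_zero Fact.out).2 h1
    have hinj : Function.Injective (fun n : Fin p => ((n : ℕ) : k)) := by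
      intro a b hab
      have := CharP.natCast_injOn_Iio k p (Set.mem_Iio.2 a.2) (Set.mem_Iio.2 b.2) hab
      exact Fin.ext this
    have hbij := (Nat.bijective_iff_injective_and_card _).2 ⟨hinj, by rw [hk, Nat.card_fin]⟩
    intro a
    obtain ⟨n, hn⟩ := hbij.2 a
    exact ⟨n, hn⟩
  have hch : CharP k p := by
    have h1 : (p : k) = 0 := by
      have := Fintype.ofFinite k
      rw [← hk, Nat.card_eq_fintype_card]
      exact Nat.cast_card_eq_zero k
    exact (CharP.charP_iff_prime_eq_zero Fact.out).2 h1
  -- the subspace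
  let mem : WithConv (M.C →ₗ[k] k) → Prop := fun u =>
    ∃ hu : IsDer u, Additive.ofMul (HM.toPt M (DualNumber k) (algOf u hu)) ∈ U
  have hadd : ∀ u v, mem u → mem v → mem (u + v) := by
    rintro u v ⟨hu, h1⟩ ⟨hv, h2⟩
    refine ⟨hu.add hv, ?_⟩
    rw [← algOf_mul u v hu hv, HM.toPt_mul]
    exact U.add_mem h1 h2
  have hzero : mem 0 := ⟨isDer_zero, by rw [algOf_zero, HM.toPt_one]; exact U.zero_mem⟩
  have hnsmul : ∀ n : ℕ, ∀ u, mem u → mem (n • u) := by
    intro n u hu
    induction n with
    | zero => rw [zero_smul]; exact hzero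
    | succ n ih => rw [succ_nsmul]; exact hadd _ _ ih hu
  let U' : Submodule k (WithConv (M.C →ₗ[k] k)) :=
    { carrier := {u | mem u}
      add_mem' := fun {a b} ha hb => hadd a b ha hb
      zero_mem' := hzero
      smul_mem' := fun a u hu => by
        obtain ⟨n, rfl⟩ := hchp a
        show mem _
        rw [Nat.cast_smul_eq_nsmul]
        exact hnsmul n u hu }
  have hmem : ∀ u, u ∈ U' ↔ mem u := fun _ => Iff.rfl
  have hU'd : ∀ u ∈ U', IsDer u := fun u hu => hu.1
  have hU'p : ∀ u ∈ U', u ^ p ∈ U' := by
    rintro u ⟨hu, h2⟩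
    have h3 := hU _ h2
    refine ⟨hu.pow_char p, ?_⟩
    have h4 : (HM.toPt M (DualNumber k) (algOf u hu)) ≫ und VT =
        HM.toPt M (DualNumber k) (algOf (u ^ p) (hu.pow_char p)) := by
      rw [HM.toPt_comp M M]
      congr 1
      apply AlgHom.ext; intro c
      show algOf u hu (M.pull M VT c) = _
      rw [algOf_apply, algOf_apply, K590.Ver.conv_pow_ver hk hord hX hV1 hV2 τ hTp M VT hVT u c,
        CoalgHomClass.counit_comp_apply (M.pull M VT) c]
    rw [← h4]
    exact h3
  have hHopf := K590.HtOne.isHopfIdeal U' hU'd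
  obtain ⟨K, i, hi, hK, hpt⟩ := exists_sub M (K590.HtOne.J U' hU'd) hHopf
  refine ⟨K, i, hi, ?_, ?_⟩
  · intro x hx
    obtain ⟨u, hu, hux⟩ := exists_algOf h1 ((HM.toPt M (DualNumber k)).symm x.toMul)
    have hx2 : HM.toPt M (DualNumber k) (algOf u hu) = x.toMul := by
      rw [hux]
      exact (HM.toPt M (DualNumber k)).apply_symm_apply x.toMul
    have hxu : u ∈ U' := ⟨hu, by rw [hx2]; exact hx⟩
    obtain ⟨z, hz⟩ := hpt (DualNumber k) (algOf u hu) (by
      intro c hc
      rw [K590.HtOne.mem_J] at hc
      have e1 := hc u (Algebra.subset_adjoin hxu)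
      have e2 : Coalgebra.counit (R := k) c = 0 := hc 1 (one_mem _)
      rw [algOf_apply, e1, e2, TrivSqZeroExt.inl_zero, TrivSqZeroExt.inr_zero, add_zero])
    refine ⟨Additive.ofMul z, ?_⟩
    show Additive.ofMul (z ≫ und i) = x
    rw [hz, hx2]
    rfl
  · rw [hK]
    have hfinD : Module.Finite k (WithConv (M.C →ₗ[k] k)) := Module.Finite.equiv (WithConv.linearEquiv k (M.C →ₗ[k] k)).symm
    refine (K590.HtOne.finrank_quot_le U' hU'd p hp.out.one_lt hU'p).trans ?_
    have h5 : Nat.card U' = p ^ Module.finrank k U' := by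
      rw [Module.natCard_eq_pow_finrank (K := k), hk]
    rw [← h5]
    have hfT : Finite ((W k).obj T) := hcard.1
    refine Nat.card_le_card_of_injective (fun u : U' =>
      (⟨Additive.ofMul (HM.toPt M (DualNumber k) (algOf u.1 u.2.1)), u.2.2⟩ : U)) ?_
    intro a b hab
    have h6 := Subtype.ext_iff.1 hab
    have h7 := (HM.toPt M (DualNumber k)).injective (Additive.ofMul.injective h6)
    exact Subtype.ext (algOf_injective h7)

end Geom

end K590.LieT
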