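import Mathlib.RingTheory.DedekindDomain.Ideal.Lemmas
import Mathlib.RingTheory.Polynomial.ScaleRoots
import Mathlib.RingTheory.IntegralClosure.IntegrallyClosed
import Mathlib.LinearAlgebra.FreeModule.IdealQuotient
import Mathlib.LinearAlgebra.FreeModule.Finite.Quotient

/-!
# Products of Dedekind domains

`frob`: duality of ideals modulo `n`; `ic`: integral closedness; `exists_nsmul_mem`: lattices of full rank.
-/

set_option autoImplicit false

open Polynomial

namespace K590.MaxOrd

/-- Products of integrally closed domains are integrally closed. -/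
theorem ic {J : Type*} {D : J → Type*} [∀ j, CommRing (D j)] [∀ j, IsDomain (D j)] [∀ j, CharZero (D j)]
    [∀ j, IsIntegrallyClosed (D j)] {n : ℕ} (hn : n ≠ 0) (r : ∀ j, D j) (f : ℤ[X]) (hf : f.Monic)
    (h : aeval r (f.scaleRoots (n : ℤ)) = 0) : r ∈ Ideal.span {(n : ∀ j, D j)} := by
  have key : ∀ j, ∃ y : D j, y * n = r j := by
    intro j
    have h1 : aeval (r j) (f.scaleRoots (n : ℤ)) = 0 := by
      have h2 := congrFun h j
      have h3 := Polynomial.aeval_algHom_apply (Pi.evalAlgHom ℤ D j) r (f.scaleRoots (n : ℤ))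
      have h4 : (Pi.evalAlgHom ℤ D j) (aeval r (f.scaleRoots (n : ℤ))) = 0 := h2
      rw [h4] at h3
      exact h3
    let K := FractionRing (D j)
    have hnD : (n : D j) ≠ 0 := Nat.cast_ne_zero.2 hn
    have hnK : (n : K) ≠ 0 := by
      have : (algebraMap (D j) K) (n : D j) ≠ 0 := fun h => hnD ((IsFractionRing.injective (D j) K) (h.trans (map_zero _).symm))
      rwa [map_natCast] at this
    let x : K := algebraMap (D j) K (r j) / n
    have h5 : aeval x f = 0 := by
      have h6 := Polynomial.scaleRoots_eval₂_mul (p := f) (algebraMap ℤ K) x (n : ℤ)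
      have h7 : (algebraMap ℤ K) (n : ℤ) * x = algebraMap (D j) K (r j) := by
        simp only [x, map_natCast]
        rw [mul_div_cancel₀ _ hnK]
      rw [h7] at h6
      have h8 : eval₂ (algebraMap ℤ K) (algebraMap (D j) K (r j)) (f.scaleRoots (n : ℤ)) = 0 := by
        have h9 := Polynomial.hom_eval₂ (f.scaleRoots (n : ℤ)) (algebraMap ℤ (D j)) (algebraMap (D j) K) (r j)
        rw [← Polynomial.aeval_def, h1, map_zero] at h9
        rw [h9]
        congr 1
      rw [h8] at h6
      have h10 : (algebraMap ℤ K) (n : ℤ) ^ f.natDegree ≠ 0 := by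
        apply pow_ne_zero
        simpa using hnK
      rw [Polynomial.aeval_def]
      exact (mul_eq_zero.1 h6.symm).resolve_left h10
    have hint : IsIntegral (D j) x := by
      have : IsIntegral ℤ x := ⟨f, hf, by rw [← Polynomial.aeval_def]; exact h5⟩
      exact this.tower_top
    obtain ⟨y, hy⟩ := IsIntegrallyClosed.isIntegral_iff.1 hint
    refine ⟨y, IsFractionRing.injective (D j) K ?_⟩
    rw [map_mul, hy, map_natCast]
    exact div_mul_cancel₀ _ hnK
  choose y hy using key
  exact Ideal.mem_span_singleton'.2 ⟨y, funext fun j => hy j⟩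

/-- Duality of ideals modulo `n` in a product of Dedekind domains. -/
theorem frob {J : Type*} [Finite J] {D : J → Type*} [∀ j, CommRing (D j)] [∀ j, IsDedekindDomain (D j)]
    [∀ j, CharZero (D j)] {n : ℕ} (hn : n ≠ 0) (I I' : Ideal (∀ j, D j)) (hnI : (n : ∀ j, D j) ∈ I') (hle : I' ≤ I)
    (h : ∀ r : ∀ j, D j, (∀ x ∈ I', r * x ∈ Ideal.span {(n : ∀ j, D j)}) → ∀ x ∈ I, r * x ∈ Ideal.span {(n : ∀ j, D j)}) :
    I ≤ I' := by
  classical
  have := Fintype.ofFinite J
  intro x hx
  have key : ∀ j, Pi.single j (x j) ∈ I' := by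
    intro j
    have hs : Function.Surjective (Pi.evalRingHom D j) := Function.surjective_eval j
    have hnD : (n : D j) ≠ 0 := Nat.cast_ne_zero.2 hn
    let Ij : Ideal (D j) := I'.map (Pi.evalRingHom D j)
    have hnj : Ideal.span {(n : D j)} ≤ Ij := by
      rw [Ideal.span_singleton_le_iff_mem]
      have := Ideal.mem_map_of_mem (Pi.evalRingHom D j) hnI
      exact this
    obtain ⟨Jj, hJj⟩ := Ideal.dvd_iff_le.2 hnj
    have hJ0 : Jj ≠ 0 := by
      rintro rfl
      rw [mul_zero] at hJj
      have : (n : D j) ∈ (0 : Ideal (D j)) := by rw [← hJj]; exact Ideal.mem_span_singleton_self _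
      exact hnD ((Submodule.mem_bot (D j)).1 this)
    have h1 : ∀ c ∈ Jj, c * x j ∈ Ideal.span {(n : D j)} := by
      intro c hc
      have h2 := h (Pi.single j c) (by
        intro x' hx'
        have h3 : c * x' j ∈ Ideal.span {(n : D j)} := by
          rw [hJj, mul_comm c]
          exact Ideal.mul_mem_mul (Ideal.mem_map_of_mem (Pi.evalRingHom D j) hx') hc
        obtain ⟨y, hy⟩ := Ideal.mem_span_singleton'.1 h3
        refine Ideal.mem_span_singleton'.2 ⟨Pi.single j y, ?_⟩
        funext l
        by_cases hl : l = j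
        · subst hl
          rw [Pi.mul_apply, Pi.mul_apply, Pi.single_eq_same, Pi.single_eq_same]
          exact hy
        · rw [Pi.mul_apply, Pi.mul_apply, Pi.single_eq_of_ne hl, Pi.single_eq_of_ne hl, zero_mul, zero_mul]) x hx
      obtain ⟨y, hy⟩ := Ideal.mem_span_singleton'.1 h2
      refine Ideal.mem_span_singleton'.2 ⟨y j, ?_⟩
      have := congrFun hy j
      rw [Pi.mul_apply, Pi.mul_apply, Pi.single_eq_same] at this
      exact this
    have h2 : Ideal.span {x j} * Jj ≤ Ij * Jj := by
      rw [← hJj, Ideal.mul_le]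
      intro a ha c hc
      obtain ⟨b, rfl⟩ := Ideal.mem_span_singleton'.1 ha
      have h3 : b * x j * c = b * (c * x j) := by ring
      rw [h3]
      exact Ideal.mul_mem_left _ _ (h1 c hc)
    have h3 : Ideal.span {x j} ≤ Ij := by
      rw [← Ideal.dvd_iff_le] at h2 ⊢
      exact (mul_dvd_mul_iff_right hJ0).1 h2
    have h4 : x j ∈ Ij := h3 (Ideal.mem_span_singleton_self _)
    obtain ⟨y, hy, hyx⟩ := (Ideal.mem_map_iff_of_surjective _ hs).1 h4
    have h5 : Pi.single j (x j) = Pi.single j 1 * y := by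
      funext l
      by_cases hl : l = j
      · subst hl
        rw [Pi.mul_apply, Pi.single_eq_same, Pi.single_eq_same, one_mul]
        exact hyx.symm
      · rw [Pi.mul_apply, Pi.single_eq_of_ne hl, Pi.single_eq_of_ne hl, zero_mul]
    rw [h5]
    exact I'.mul_mem_left _ hy
  rw [← Finset.univ_sum_single x]
  exact I'.sum_mem fun j _ => key j

/-- Sublattices of full rank have finite index. -/
theorem exists_nsmul_mem {S O : Type*} [AddCommGroup S] [Module.Finite ℤ S] [Module.Free ℤ S] [AddCommGroup O]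
    [Module.Finite ℤ O] [Module.Free ℤ O] (ι : S →+ O) (hι : Function.Injective ι)
    (hr : Module.finrank ℤ S = Module.finrank ℤ O) : ∃ n : ℕ, n ≠ 0 ∧ ∀ x : O, ∃ s : S, ι s = n • x := by
  let N : Submodule ℤ O := LinearMap.range ι.toIntLinearMap
  have h1 : Module.finrank ℤ N = Module.finrank ℤ O := by
    rw [← hr]
    exact (LinearMap.finrank_range_of_inj (f := ι.toIntLinearMap) hι)
  have hfin : Finite (O ⧸ N) := Submodule.finiteQuotientOfFreeOfRankEq N h1
  refine ⟨Nat.card (O ⧸ N), Nat.card_pos.ne', fun x => ?_⟩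
  have h2 : Nat.card (O ⧸ N) • (N.mkQ x) = 0 := card_nsmul_eq_zero'
  rw [← map_nsmul, Submodule.mkQ_apply, Submodule.Quotient.mk_eq_zero] at h2
  obtain ⟨s, hs⟩ := h2
  exact ⟨s, hs⟩

end K590.MaxOrd
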