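import Groth.Agent.AbVar.K525.AVC
import Groth.Agent.AbVar.K525.ModC
import Groth.Agent.Books.AffBridge2

/-!
# Hopf algebra models of finite commutative group schemes

`HM G`: a commutative and cocommutative Hopf algebra `C` with `G ≅ Spec C`; `pull`: the bialgebra maps attached to
homomorphisms.
-/

set_option autoImplicit false

universe u

open CategoryTheory MonoidalCategory CartesianMonoidalCategory MonObj GrpObj AlgebraicGeometry Limits
open TensorProduct

namespace K590.Mdl

open K525.AlgC K525.OrdC K525.AbsOrd K525.AVC Groth.Agent.Books Groth.Agent.Books.AffBridge Groth.Agent.Books.AffBridge2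
open Groth.Agent.Sga3.H830.CommGrpProd

/-! ### generalities on spectra of Hopf algebras -/

section Gen

variable {R : Type u} [CommRing R]

/-- A Hopf algebra whose group scheme is commutative is cocommutative. -/
theorem isCocomm_of_isCommMonObj (A : Type u) [CommRing A] [HopfAlgebra R A] [IsCommMonObj (SpecOver R A)] :
    Coalgebra.IsCocomm R A where
  comm_comp_comul := by
    let i₁ : WithConv (A →ₐ[R] A ⊗[R] A) := WithConv.toConv Algebra.TensorProduct.includeLeft
    let i₂ : WithConv (A →ₐ[R] A ⊗[R] A) := WithConv.toConv Algebra.TensorProduct.includeRight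
    have h1 : i₁ * i₂ = i₂ * i₁ := by
      apply WithConv.ofConv_injective
      apply specMap_injective R
      rw [specMap_mul, specMap_mul]
      exact _root_.mul_comm _ _
    have e1 : ∀ t : A ⊗[R] A, LinearMap.mul' R (A ⊗[R] A)
        (TensorProduct.map i₁.ofConv.toLinearMap i₂.ofConv.toLinearMap t) = t := by
      intro t
      induction t with
      | zero => simp
      | add x y hx hy => rw [map_add, map_add, hx, hy]
      | tmul x y =>
        rw [TensorProduct.map_tmul, LinearMap.mul'_apply]
        change (x ⊗ₜ[R] (1 : A)) * ((1 : A) ⊗ₜ[R] y) = _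
        rw [Algebra.TensorProduct.tmul_mul_tmul, _root_.mul_one, _root_.one_mul]
    have e2 : ∀ t : A ⊗[R] A, LinearMap.mul' R (A ⊗[R] A)
        (TensorProduct.map i₂.ofConv.toLinearMap i₁.ofConv.toLinearMap t) = TensorProduct.comm R A A t := by
      intro t
      induction t with
      | zero => simp
      | add x y hx hy => rw [map_add, map_add, map_add, hx, hy]
      | tmul x y =>
        rw [TensorProduct.map_tmul, LinearMap.mul'_apply, TensorProduct.comm_tmul]
        change ((1 : A) ⊗ₜ[R] x) * (y ⊗ₜ[R] (1 : A)) = _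
        rw [Algebra.TensorProduct.tmul_mul_tmul, _root_.mul_one, _root_.one_mul]
    apply LinearMap.ext
    intro a
    have h2 := congrArg (fun z : WithConv (A →ₐ[R] A ⊗[R] A) => z.ofConv a) h1
    have h3 : (i₁ * i₂).ofConv a = LinearMap.mul' R (A ⊗[R] A)
        (TensorProduct.map i₁.ofConv.toLinearMap i₂.ofConv.toLinearMap (Coalgebra.comul (R := R) a)) := rfl
    have h4 : (i₂ * i₁).ofConv a = LinearMap.mul' R (A ⊗[R] A)
        (TensorProduct.map i₂.ofConv.toLinearMap i₁.ofConv.toLinearMap (Coalgebra.comul (R := R) a)) := rfl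
    change (i₁ * i₂).ofConv a = (i₂ * i₁).ofConv a at h2
    rw [h3, h4, e1, e2] at h2
    exact h2.symm

theorem isCommMonObj_of_iso {S : Scheme.{u}} {G H : Over S} [GrpObj G] [IsCommMonObj G] [GrpObj H] (e : G ≅ H)
    [IsMonHom e.hom] : IsCommMonObj H where
  mul_comm := by
    have h1 : (e.hom ⊗ₘ e.hom) ≫ μ[H] = μ[G] ≫ e.hom := (IsMonHom.mul_hom e.hom).symm
    rw [← cancel_epi (e.hom ⊗ₘ e.hom), BraidedCategory.braiding_naturality_assoc, h1,
      IsCommMonObj.mul_comm_assoc]

theorem specMap_pow {A C : Type u} [CommRing A] [Bialgebra R A] [CommRing C] [Algebra R C]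
    (f : WithConv (A →ₐ[R] C)) (n : ℕ) : specMap R (f ^ n).ofConv = (specMap R f.ofConv) ^ n := by
  induction n with
  | zero => rw [pow_zero, pow_zero]; exact specMap_one R
  | succ n ih => rw [pow_succ, pow_succ, specMap_mul, ih]

theorem bialgHom_ext {A B : Type u} [CommRing A] [CommRing B] [Bialgebra R A] [Bialgebra R B]
    {f g : A →ₐc[R] B} (h : specMap R (f : A →ₐ[R] B) = specMap R (g : A →ₐ[R] B)) : f = g :=
  BialgHom.coe_toAlgHom_injective (specMap_injective R h)

end Gen

variable {k : Type u} [Field k]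

/-- A Hopf algebra model of a finite commutative group scheme. -/
structure HM (G : Alg k) where
  C : Type u
  [cr : CommRing C]
  [hopf : HopfAlgebra k C]
  [cocomm : Coalgebra.IsCocomm k C]
  [fin : Module.Finite k C]
  e : G.obj.X ≅ SpecOver k C
  [hom : IsMonHom e.hom]

attribute [instance] HM.cr HM.hopf HM.cocomm HM.fin HM.hom

theorem exists_hm (G : Alg k) (hG : ord G ≠ 0) : Nonempty (HM G) := by
  have hf : IsFinite G.obj.X.hom := (ord_ne_zero_iff G).1 hG
  have haff : IsAffine G.obj.X.left := isAffine_of_isAffineHom G.obj.X.hom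
  obtain ⟨A, _, _, e, he⟩ := exists_hopf k G.obj.X
  have hA : IsCommMonObj (SpecOver k A) := isCommMonObj_of_iso e
  have hc := isCocomm_of_isCommMonObj (R := k) A
  have hfin : Module.Finite k A := K525.ModC.finite_of_iso G hf e.symm
  exact ⟨{ C := A, e := e }⟩

namespace HM

variable {G H L : Alg k}

theorem ord_eq (M : HM G) : ord G = Module.finrank k M.C := by
  have h1 : IsFinite (SpecOver k M.C).hom := by
    have : IsFinite (Spec.map (CommRingCat.ofHom (algebraMap k M.C))) := by
      rw [IsFinite.SpecMap_iff]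
      exact RingHom.finite_algebraMap.2 M.fin
    exact this
  have hf : IsFinite G.obj.X.hom := by
    rw [hom_eq_of_iso M.e]
    have h2 : IsIso M.e.hom.left := inferInstanceAs (IsIso ((Over.forget _).map M.e.hom))
    infer_instance
  exact K525.ModC.ord_eq_finrank G hf M.e.symm

instance isMonHom_inv (M : HM G) : IsMonHom M.e.inv := inferInstance

theorem exists_pull (M : HM G) (N : HM H) (f : G ⟶ H) : ∃ φ : N.C →ₐc[k] M.C,
    specMap k (φ : N.C →ₐ[k] M.C) = M.e.inv ≫ und f ≫ N.e.hom := by
  have : IsMonHom (M.e.inv ≫ und f ≫ N.e.hom) := inferInstance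
  exact exists_bialgHom_of_isMonHom k (M.e.inv ≫ und f ≫ N.e.hom)

/-- The bialgebra map attached to a homomorphism. -/
noncomputable def pull (M : HM G) (N : HM H) (f : G ⟶ H) : N.C →ₐc[k] M.C := (exists_pull M N f).choose

theorem specMap_pull (M : HM G) (N : HM H) (f : G ⟶ H) :
    specMap k (M.pull N f : N.C →ₐ[k] M.C) = M.e.inv ≫ und f ≫ N.e.hom := (exists_pull M N f).choose_spec

theorem pull_comp (M : HM G) (N : HM H) (P : HM L) (f : G ⟶ H) (g : H ⟶ L) (c : P.C) :
    M.pull P (f ≫ g) c = M.pull N f (N.pull P g c) := by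
  have h : M.pull P (f ≫ g) = (M.pull N f).comp (N.pull P g) := by
    apply bialgHom_ext
    have h2 : (((M.pull N f).comp (N.pull P g) : P.C →ₐc[k] M.C) : P.C →ₐ[k] M.C) =
      (M.pull N f : N.C →ₐ[k] M.C).comp (N.pull P g : P.C →ₐ[k] N.C) := rfl
    rw [h2, specMap_comp, specMap_pull, specMap_pull, specMap_pull, Category.assoc, Category.assoc, Iso.hom_inv_id_assoc,
      und_comp, Category.assoc]
  rw [h]; rfl

theorem pull_id (M : HM G) (c : M.C) : M.pull M (𝟙 G) c = c := by
  have h : M.pull M (𝟙 G) = BialgHom.id k M.C := by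
    apply bialgHom_ext
    rw [specMap_pull, und_id, Category.id_comp, Iso.inv_hom_id]
    exact (specMap_id k).symm
  rw [h]; rfl

theorem pull_injective (M : HM G) (N : HM H) (f : G ⟶ H) [Epi f] : Function.Injective (M.pull N f) := by
  obtain ⟨h1, h2, h3⟩ := W_of_epi f
  have h5 : IsIso M.e.inv.left := inferInstanceAs (IsIso ((Over.forget _).map M.e.inv))
  have h6 : IsIso N.e.hom.left := inferInstanceAs (IsIso ((Over.forget _).map N.e.hom))
  have h4 : Flat (specMap k (M.pull N f : N.C →ₐ[k] M.C)).left ∧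
      Surjective (specMap k (M.pull N f : N.C →ₐ[k] M.C)).left := by
    rw [specMap_pull, Over.comp_left, Over.comp_left]
    constructor <;> infer_instance
  rw [flat_and_surjective_specMap_iff] at h4
  exact h4.injective

theorem pull_surjective (M : HM G) (N : HM H) (f : G ⟶ H) [Mono f] : Function.Surjective (M.pull N f) := by
  have h1 := isClosedImmersion_of_mono f
  have h5 : IsIso M.e.inv.left := inferInstanceAs (IsIso ((Over.forget _).map M.e.inv))
  have h6 : IsIso N.e.hom.left := inferInstanceAs (IsIso ((Over.forget _).map N.e.hom))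
  have h4 : IsClosedImmersion (specMap k (M.pull N f : N.C →ₐ[k] M.C)).left := by
    rw [specMap_pull, Over.comp_left, Over.comp_left]
    infer_instance
  exact (isClosedImmersion_specMap_iff k _).1 h4

theorem pull_zero (M : HM G) (N : HM H) (c : N.C) :
    M.pull N (0 : G ⟶ H) c = algebraMap k M.C (Coalgebra.counit (R := k) c) := by
  have h : ((M.pull N (0 : G ⟶ H) : N.C →ₐc[k] M.C) : N.C →ₐ[k] M.C) = (1 : WithConv (N.C →ₐ[k] M.C)).ofConv := by
    apply specMap_injective k
    rw [specMap_pull, und_zero, specMap_one, MonObj.one_comp, MonObj.comp_one]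
  have h2 := congrArg (fun z : N.C →ₐ[k] M.C => z c) h
  exact h2

/-- Multiples of the identity are convolution powers. -/
theorem pull_nsmul (M : HM G) (n : ℕ) (c : M.C) :
    M.pull M (n • 𝟙 G) c = ((WithConv.toConv (LinearMap.id : M.C →ₗ[k] M.C)) ^ n) c := by
  have h : ((M.pull M (n • 𝟙 G) : M.C →ₐc[k] M.C) : M.C →ₐ[k] M.C) =
      ((WithConv.toConv (AlgHom.id k M.C)) ^ n).ofConv := by
    apply specMap_injective k
    rw [specMap_pull, specMap_pow, und_nsmul, und_id]
    have e1 : specMap k (WithConv.toConv (AlgHom.id k M.C)).ofConv = M.e.inv ≫ 𝟙 _ ≫ M.e.hom := by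
      rw [Category.id_comp, Iso.inv_hom_id]
      exact specMap_id k
    rw [e1]
    have key : ∀ n : ℕ, M.e.inv ≫ ((𝟙 G.obj.X) ^ n) ≫ M.e.hom = (M.e.inv ≫ 𝟙 _ ≫ M.e.hom) ^ n := by
      intro n
      induction n with
      | zero => rw [pow_zero, pow_zero, MonObj.one_comp, MonObj.comp_one]
      | succ n ih => rw [pow_succ, pow_succ, MonObj.mul_comp, MonObj.comp_mul, ih]
    exact key n
  have h2 := congrArg (fun z : M.C →ₐ[k] M.C => z c) h
  have h3 := AlgHom.toLinearMap_convPow (R := k) (WithConv.toConv (AlgHom.id k M.C)) n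
  have h4 := congrArg (fun z : WithConv (M.C →ₗ[k] M.C) => z c) h3
  exact h2.trans h4

section Finite

variable [Finite k]

open K520.Frob

theorem isFrob_specMap (A : Type u) [CommRing A] [Algebra k A] (φ : A →ₐ[k] A) (hφ : ∀ a, φ a = a ^ Nat.card k) :
    fr k (SpecOver k A) = specMap k φ := by
  apply Over.OverMorphism.ext
  have h1 := isFrob_fr k (SpecOver k A)
  obtain ⟨ψ, hψ⟩ : ∃ ψ : A →ₐ[k] A, specMap k ψ = fr k (SpecOver k A) := ⟨specPreimage k _, specMap_specPreimage k _⟩
  rw [← hψ]
  have h2 : ψ = φ := by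
    ext a
    rw [hφ]
    -- evaluate on global sections
    have h3 : (fr k (SpecOver k A)).left.appTop.hom ((Scheme.ΓSpecIso (CommRingCat.of A)).inv.hom a) =
        ((Scheme.ΓSpecIso (CommRingCat.of A)).inv.hom a) ^ Nat.card k := by
      have h4 := h1.app ⊤ ((Scheme.ΓSpecIso (CommRingCat.of A)).inv.hom a)
      have h5 : (fr k (SpecOver k A)).left.appLE ⊤ ⊤ (h1.le ⊤) = (fr k (SpecOver k A)).left.appTop :=
        Scheme.Hom.appLE_eq_app _
      rw [h5] at h4
      exact h4
    rw [← hψ] at h3
    have h5 := Scheme.ΓSpecIso_inv_naturality (CommRingCat.ofHom ψ.toRingHom)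
    have h6 : (specMap k ψ).left.appTop.hom ((Scheme.ΓSpecIso (CommRingCat.of A)).inv.hom a) =
        (Scheme.ΓSpecIso (CommRingCat.of A)).inv.hom (ψ a) := (congr($(h5).hom a)).symm
    rw [h6, ← map_pow] at h3
    exact (Scheme.ΓSpecIso (CommRingCat.of A)).symm.commRingCatIsoToRingEquiv.injective h3
  rw [h2]

theorem pull_frC (M : HM G) (c : M.C) : M.pull M (frC G) c = c ^ Nat.card k := by
  have := Fintype.ofFinite k
  obtain ⟨p, hp⟩ := CharP.exists k
  obtain ⟨n, hprime, hcard⟩ := FiniteField.card k p
  have : Fact p.Prime := ⟨hprime⟩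
  have hch : ∀ x : k, x ^ Nat.card k = x := fun x => by
    rw [Nat.card_eq_fintype_card]; exact FiniteField.pow_card x
  have hcp : ∀ a b : M.C, (a + b) ^ Nat.card k = a ^ Nat.card k + b ^ Nat.card k := by
    intro a b
    have : ExpChar k p := ExpChar.prime hprime
    have : ExpChar M.C p := by
      rcases subsingleton_or_nontrivial M.C with h | h
      · exfalso
        have h1 := M.ord_eq
        rw [Module.finrank_zero_of_subsingleton] at h1
        have h2 : Coalgebra.counit (R := k) (1 : M.C) = Coalgebra.counit (R := k) (0 : M.C) := by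
          rw [Subsingleton.elim (1 : M.C) 0]
        rw [Bialgebra.counit_one, map_zero] at h2
        exact one_ne_zero h2
      · exact expChar_of_injective_algebraMap (algebraMap k M.C).injective p
    rw [Nat.card_eq_fintype_card, hcard]
    exact add_pow_expChar_pow a b p n
  let φ : M.C →ₐ[k] M.C :=
    { toFun := fun a => a ^ Nat.card k
      map_one' := one_pow _
      map_mul' := fun a b => mul_pow a b _
      map_zero' := zero_pow Nat.card_pos.ne'
      map_add' := hcp
      commutes' := fun x => by rw [← map_pow, hch] }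
  have h1 := isFrob_specMap M.C φ (fun _ => rfl)
  have h2 : ((M.pull M (frC G) : M.C →ₐc[k] M.C) : M.C →ₐ[k] M.C) = φ := by
    apply specMap_injective k
    rw [specMap_pull, ← h1, und_frC, fr_comm, Iso.inv_hom_id_assoc]
  exact congrArg (fun z : M.C →ₐ[k] M.C => z c) h2

end Finite

end HM

end K590.Mdl
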