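import Groth.Agent.AbVar.K590.OrdGI

/-!
# Upper bounds for the orders of the subobjects killed by ideals

The action of `R` on `A` is good when the annihilators satisfy the Gorenstein condition `hfrob` modulo every integer
(for example when `R` is a product of Dedekind domains), and every element of `R` killing the `n`-torsion is divisible
by `n`.
-/

set_option autoImplicit false

universe w v u

open CategoryTheory Limits ZeroObject K525.AbsOrd K525.AbsD

namespace K590.OrdFrob

open K590.OrdGI

variable {C : Type u} [Category.{v} C] [Abelian C]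
variable {A : C} {R : Type w} [CommRing R] {ρ : R →+* End A}

attribute [local instance] Abelian.hasFiniteBiproducts

/-- The action on a stable subobject. -/
theorem exists_stableHom {Q : C} (i : Q ⟶ A) [Mono i] (hst : ∀ r : R, ∃ r' : Q ⟶ Q, i ≫ act ρ r = r' ≫ i) :
    ∃ f : R →+* End Q, ∀ r, i ≫ act ρ r = (f r : Q ⟶ Q) ≫ i := by
  choose f hf using hst
  refine ⟨{ toFun := fun r => f r
            map_one' := ?_
            map_mul' := ?_
            map_zero' := ?_
            map_add' := ?_ }, hf⟩
  · show f 1 = 𝟙 Q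
    rw [← cancel_mono i, ← hf, act_one, Category.comp_id, Category.id_comp]
  · intro r s
    show f (r * s) = f s ≫ f r
    rw [← cancel_mono i, ← hf, act_mul, Category.assoc, ← hf r, ← Category.assoc, hf s, Category.assoc]
  · show f 0 = 0
    rw [← cancel_mono i, ← hf, act_zero, comp_zero, zero_comp]
  · intro r s
    show f (r + s) = f r + f s
    rw [← cancel_mono i, ← hf, act_add, Preadditive.comp_add, Preadditive.add_comp, hf, hf]

/-- The action on a quotient by a stable subobject. -/
theorem exists_quotHom {Q : C} (q : A ⟶ Q) [Epi q] (hst : ∀ r : R, ∃ r' : Q ⟶ Q, act ρ r ≫ q = q ≫ r') :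
    ∃ f : R →+* End Q, ∀ r, act ρ r ≫ q = q ≫ (f r : Q ⟶ Q) := by
  choose f hf using hst
  refine ⟨{ toFun := fun r => f r
            map_one' := ?_
            map_mul' := ?_
            map_zero' := ?_
            map_add' := ?_ }, hf⟩
  · show f 1 = 𝟙 Q
    rw [← cancel_epi q, ← hf, act_one, Category.comp_id, Category.id_comp]
  · intro r s
    show f (r * s) = f s ≫ f r
    rw [← cancel_epi q, ← hf, act_mul, Category.assoc, hf r, ← Category.assoc, hf s, Category.assoc]
  · show f 0 = 0
    rw [← cancel_epi q, ← hf, act_zero, comp_zero, zero_comp]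
  · intro r s
    show f (r + s) = f r + f s
    rw [← cancel_epi q, ← hf, act_add, Preadditive.comp_add, Preadditive.add_comp, hf, hf]

variable {ord : C → ℕ} (h : IsOrd ord)
include h

/-- **Lemma K** for an action (not necessarily an isomorphism). -/
theorem ord_isKer_le [IsNoetherianRing R] (n : ℕ) (hn : ord (kernel (n • 𝟙 A)) ≠ 0)
    (hcard : ord (kernel (n • 𝟙 A)) ≤ Nat.card (R ⧸ Ideal.span {(n : R)})) (hfin : Finite (R ⧸ Ideal.span {(n : R)}))
    (hdivis : ∀ r : R, kernel.ι (n • 𝟙 A) ≫ act ρ r = 0 → r ∈ Ideal.span {(n : R)})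
    (hfrob : ∀ I I' : Ideal R, (n : R) ∈ I' → I' ≤ I →
      (∀ r : R, (∀ x ∈ I', r * x ∈ Ideal.span {(n : R)}) → ∀ x ∈ I, r * x ∈ Ideal.span {(n : R)}) → I ≤ I')
    (I : Ideal R) (hI : (n : R) ∈ I) {K : C} (κ : K ⟶ A) (hκ : IsKer ρ I κ) : ord K ≤ Nat.card (R ⧸ I) := by
  have hspan : ∀ J : Ideal R, (n : R) ∈ J ↔ Ideal.span {(n : R)} ≤ J := fun J => by
    rw [Ideal.span_le, Set.singleton_subset_iff]; rfl
  have hfinJ : ∀ J : Ideal R, (n : R) ∈ J → Finite (R ⧸ J) := by
    intro J hJ
    exact Finite.of_surjective _ (Ideal.Quotient.factor_surjective ((hspan J).1 hJ))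
  have hne : ∀ (J : Ideal R), (n : R) ∈ J → ∀ {K : C} (κ : K ⟶ A), IsKer ρ J κ → ord K ≠ 0 :=
    fun J hJ K κ hκ => ord_ne_zero h hn hJ hκ
  suffices H : ∀ (d : ℕ) (J : Ideal R), (n : R) ∈ J → Nat.card (R ⧸ Ideal.span {(n : R)}) - Nat.card (R ⧸ J) ≤ d →
      ∀ {K : C} (κ : K ⟶ A), IsKer ρ J κ → ord K ≤ Nat.card (R ⧸ J) from H _ I hI le_rfl κ hκ
  intro d
  induction d using Nat.strong_induction_on with
  | _ d ih =>
    intro J hJ hd K κ hκ
    by_cases hJn : J = Ideal.span {(n : R)}
    · subst hJn
      obtain ⟨e⟩ := hκ.nonempty_iso (IsKer.kernel_nsmul (ρ := ρ) n)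
      rw [h.iso e]
      exact hcard
    · -- a maximal proper subideal
      have hlt : Ideal.span {(n : R)} < J := lt_of_le_of_ne ((hspan J).1 hJ) (Ne.symm hJn)
      obtain ⟨J', ⟨hJ'1, hJ'2⟩, hJ'max⟩ := set_has_maximal_iff_noetherian.2 ‹IsNoetherianRing R›
        {J' : Ideal R | Ideal.span {(n : R)} ≤ J' ∧ J' < J} ⟨Ideal.span {(n : R)}, le_rfl, hlt⟩
      have hnJ' : (n : R) ∈ J' := (hspan J').2 hJ'1
      obtain ⟨x, hxJ, hxJ'⟩ := SetLike.exists_of_lt hJ'2
      have hsup : ∀ y : R, y ∈ J → y ∉ J' → J' ⊔ Ideal.span {y} = J := by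
        intro y hyJ hyJ'
        by_contra hne'
        have hle : J' ⊔ Ideal.span {y} ≤ J := sup_le hJ'2.le ((Ideal.span_singleton_le_iff_mem _).2 hyJ)
        have h1 : J' ⊔ Ideal.span {y} < J := lt_of_le_of_ne hle hne'
        have h2 : J' < J' ⊔ Ideal.span {y} := by
          refine lt_of_le_of_ne le_sup_left fun heq => hyJ' ?_
          rw [heq]
          exact Ideal.mem_sup_right (Ideal.mem_span_singleton_self y)
        exact hJ'max _ ⟨hJ'1.trans le_sup_left, h1⟩ h2
      -- the maximal ideal
      let q : Ideal R := Submodule.comap (LinearMap.toSpanSingleton R R x) J'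
      have hq : ∀ r : R, r ∈ q ↔ r * x ∈ J' := fun r => Iff.rfl
      have hqmax : q.IsMaximal := by
        rw [Ideal.isMaximal_iff]
        refine ⟨fun h1 => hxJ' (by simpa using (hq 1).1 h1), ?_⟩
        intro P r hqP hr hrP
        have h1 : r * x ∉ J' := fun h2 => hr ((hq r).2 h2)
        have h2 := hsup (r * x) (J.mul_mem_left r hxJ) h1
        have h3 : x ∈ J' ⊔ Ideal.span {r * x} := by rw [h2]; exact hxJ
        obtain ⟨y, hy, z, hz, hyz⟩ := Submodule.mem_sup.1 h3
        obtain ⟨s, rfl⟩ := Ideal.mem_span_singleton'.1 hz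
        have h4 : (1 - s * r) ∈ q := by
          rw [hq]
          have : (1 - s * r) * x = y := by linear_combination (-1 : R) * hyz
          rw [this]; exact hy
        have h5 : s * r ∈ P := P.mul_mem_left s hrP
        have h6 : (1 : R) = (1 - s * r) + s * r := by ring
        rw [h6]
        exact P.add_mem (hqP h4) h5
      obtain ⟨K', κ', hκ'⟩ := exists_isKer ρ J' (IsNoetherian.noetherian J')
      have := hκ.mono
      have := hκ'.mono
      -- the subobject
      let ψ : K' ⟶ A := κ' ≫ act ρ x
      have hcardJ : Nat.card (R ⧸ J') = Nat.card (R ⧸ J) * Nat.card (R ⧸ q) := by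
        have h1 := Submodule.card_quotient_mul_card_quotient J J' hJ'2.le
        let g : R →ₗ[R] R ⧸ J' := LinearMap.toSpanSingleton R (R ⧸ J') (J'.mkQ x)
        have hgk : LinearMap.ker g = q := by
          ext r
          rw [LinearMap.mem_ker, hq]
          show r • J'.mkQ x = 0 ↔ _
          rw [← map_smul, Submodule.mkQ_apply, Submodule.Quotient.mk_eq_zero]
          rfl
        have hgr : LinearMap.range g = Submodule.map J'.mkQ J := by
          rw [LinearMap.range_toSpanSingleton, ← hsup x hxJ hxJ', Submodule.map_sup]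
          have h2 : Submodule.map J'.mkQ J' = ⊥ := by
            rw [eq_bot_iff]
            rintro _ ⟨y, hy, rfl⟩
            exact (Submodule.mem_bot _).2 ((Submodule.Quotient.mk_eq_zero J').2 hy)
          rw [h2, bot_sup_eq]
          show _ = Submodule.map J'.mkQ (Submodule.span R {x})
          rw [Submodule.map_span, Set.image_singleton]
        have h3 : Nat.card (Submodule.map J'.mkQ J) = Nat.card (R ⧸ q) := by
          rw [← hgr, ← hgk]
          exact Nat.card_congr g.quotKerEquivRange.toEquiv.symm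
        rw [← h1, h3, mul_comm]
      -- the image of `ψ`
      let Q := Abelian.image ψ
      let p : K' ⟶ Q := Abelian.factorThruImage ψ
      let i : Q ⟶ A := Abelian.image.ι ψ
      have hpi : p ≫ i = ψ := Abelian.image.fac ψ
      -- `K` is the kernel of `p`
      obtain ⟨a, ha⟩ := hκ'.lift κ (fun r hr => hκ.zero r (hJ'2.le hr))
      have hamono : Mono a := by
        have : Mono (a ≫ κ') := by rw [ha]; infer_instance
        exact mono_of_mono _ κ'
      have hap : a ≫ p = 0 := by
        rw [← cancel_mono i, Category.assoc, hpi, zero_comp]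
        show a ≫ κ' ≫ act ρ x = 0
        rw [← Category.assoc, ha]
        exact hκ.zero x hxJ
      have hexact : (ShortComplex.mk a p hap).ShortExact :=
        { exact := by
            rw [ShortComplex.exact_iff_exact_up_to_refinements]
            intro T y hy
            have hy1 : y ≫ p = 0 := hy
            have hy2 : (y ≫ κ') ≫ act ρ x = 0 := by
              have : (y ≫ κ') ≫ act ρ x = y ≫ ψ := by simp [ψ]
              rw [this, ← hpi, ← Category.assoc, hy1, zero_comp]
            obtain ⟨t, ht⟩ := hκ.lift (y ≫ κ') (by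
              intro r hr
              rw [← hsup x hxJ hxJ'] at hr
              obtain ⟨u, hu, v, hv, rfl⟩ := Submodule.mem_sup.1 hr
              obtain ⟨s, rfl⟩ := Ideal.mem_span_singleton'.1 hv
              rw [act_add, Preadditive.comp_add, act_mul, ← Category.assoc (y ≫ κ'), hy2, zero_comp, add_zero,
                Category.assoc, hκ'.zero u hu, comp_zero])
            refine ⟨T, 𝟙 T, inferInstance, t, ?_⟩
            rw [Category.id_comp]
            show y = t ≫ a
            rw [← cancel_mono κ', Category.assoc, ha, ht]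
          mono_f := hamono
          epi_g := inferInstanceAs (Epi (Abelian.factorThruImage ψ)) }
      have hmul : ord K' = ord K * ord Q := h.mul _ hexact
      have hK'ne : ord K' ≠ 0 := hne J' hnJ' κ' hκ'
      have hQne : ord Q ≠ 0 := fun h0 => hK'ne (by rw [hmul, h0, mul_zero])
      -- the action on `Q`
      have hstab : ∀ r : R, ∃ r' : Q ⟶ Q, i ≫ act ρ r = r' ≫ i := by
        intro r
        obtain ⟨t, ht⟩ := hκ'.lift (κ' ≫ act ρ r) (by
          intro s hs
          rw [Category.assoc, ← act_mul, mul_comm, act_mul, ← Category.assoc, hκ'.zero s hs, zero_comp])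
        have h1 : ψ ≫ act ρ r = t ≫ ψ := by
          show (κ' ≫ act ρ x) ≫ act ρ r = t ≫ κ' ≫ act ρ x
          rw [Category.assoc, ← act_mul, mul_comm, act_mul, ← Category.assoc, ← ht, Category.assoc]
        -- the composite vanishes in the cokernel of `i`
        have h2 : (i ≫ act ρ r) ≫ cokernel.π i = 0 := by
          rw [← cancel_epi p, comp_zero, ← Category.assoc, ← Category.assoc, hpi, h1, Category.assoc, ← hpi,
            Category.assoc, cokernel.condition, comp_zero, comp_zero]
        have hexi := ShortComplex.exact_cokernel i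
        refine ⟨hexi.lift _ h2, ?_⟩
        exact (hexi.lift_f _ h2).symm
      obtain ⟨f, hf⟩ := exists_stableHom i hstab
      -- `Q` is nonzero
      have hQ0 : ¬ IsZero Q := by
        intro hz
        have hψ0 : ψ = 0 := by rw [← hpi, hz.eq_zero_of_tgt p, zero_comp]
        refine absurd (hfrob J J' hnJ' hJ'2.le ?_) (not_le_of_gt hJ'2)
        intro r hr y hy
        rw [← hsup x hxJ hxJ'] at hy
        obtain ⟨u, hu, v, hv, rfl⟩ := Submodule.mem_sup.1 hy
        obtain ⟨s, rfl⟩ := Ideal.mem_span_singleton'.1 hv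
        have h1 : r * x ∈ Ideal.span {(n : R)} := by
          apply hdivis
          obtain ⟨t, ht⟩ := hκ'.lift (kernel.ι (n • 𝟙 A) ≫ act ρ r) (by
            intro z hz
            rw [Category.assoc, ← act_mul, mul_comm]
            obtain ⟨c, hc⟩ := Ideal.mem_span_singleton'.1 (hr z hz)
            rw [← hc, act_mul, act_natCast, ← Category.assoc, kernel.condition, zero_comp])
          rw [mul_comm, act_mul, ← Category.assoc, ← ht, Category.assoc]
          show t ≫ ψ = 0
          rw [hψ0, comp_zero]
        have h2 : r * (u + s * x) = r * u + s * (r * x) := by ring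
        rw [h2]
        exact Ideal.add_mem _ (hr u hu) (Ideal.mul_mem_left _ _ h1)
      have hle : Nat.card (R ⧸ q) ≤ ord Q := by
        refine K525.AbsK.card_quot_le h hQne hQ0 f q hqmax ?_
        intro r hr
        have h1 : (f r : Q ⟶ Q) ≫ i = 0 := by
          rw [← hf, ← cancel_epi p, comp_zero, ← Category.assoc, hpi]
          show (κ' ≫ act ρ x) ≫ act ρ r = 0
          rw [Category.assoc, ← act_mul]
          exact hκ'.zero _ ((hq r).1 hr)
        show (f r : Q ⟶ Q) = 0
        rw [← cancel_mono i, h1, zero_comp]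
      have hfJ' := hfinJ J' hnJ'
      have hfJ := hfinJ J hJ
      have hcJ' : 0 < Nat.card (R ⧸ J') := Nat.card_pos
      have hcJ : 0 < Nat.card (R ⧸ J) := Nat.card_pos
      have hqpos : 0 < Nat.card (R ⧸ q) := Nat.pos_of_ne_zero fun h0 => by
        rw [h0, mul_zero] at hcardJ; omega
      have hq2 : 1 < Nat.card (R ⧸ q) := by
        have : Nontrivial (R ⧸ q) := Ideal.Quotient.nontrivial_iff.2 hqmax.ne_top
        have : Finite (R ⧸ q) := Nat.finite_of_card_ne_zero hqpos.ne'
        exact Finite.one_lt_card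
      have hcN : Nat.card (R ⧸ J') ≤ Nat.card (R ⧸ Ideal.span {(n : R)}) :=
        Nat.card_le_card_of_surjective _ (Ideal.Quotient.factor_surjective hJ'1)
      have hltc : Nat.card (R ⧸ J) < Nat.card (R ⧸ J') := by
        rw [hcardJ]; exact (Nat.lt_mul_iff_one_lt_right hcJ).2 hq2
      have hIH := ih (Nat.card (R ⧸ Ideal.span {(n : R)}) - Nat.card (R ⧸ J')) (by omega) J' hnJ' le_rfl κ' hκ'
      rw [hmul, hcardJ] at hIH
      have h5 : ord K * Nat.card (R ⧸ q) ≤ Nat.card (R ⧸ J) * Nat.card (R ⧸ q) :=
        (Nat.mul_le_mul_left _ hle).trans hIH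
      exact Nat.le_of_mul_le_mul_right h5 hqpos

/-- **Goodness of actions of Gorenstein-like orders.** -/
theorem good_of_frob [Module.Finite ℤ R] [Module.Free ℤ R] (hA : Div ord A (Module.finrank ℤ R))
    (hdivis : ∀ n : ℕ, n ≠ 0 → ∀ r : R, kernel.ι (n • 𝟙 A) ≫ act ρ r = 0 → r ∈ Ideal.span {(n : R)})
    (hfrob : ∀ n : ℕ, n ≠ 0 → ∀ I I' : Ideal R, (n : R) ∈ I' → I' ≤ I →
      (∀ r : R, (∀ x ∈ I', r * x ∈ Ideal.span {(n : R)}) → ∀ x ∈ I, r * x ∈ Ideal.span {(n : R)}) → I ≤ I') :
    Good ord ρ := by
  have := noeth R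
  refine good_of_max h hA ?_
  intro n hn q _ hnq Q μ hμ
  refine ord_isKer_le h n (hA.ne hn) ?_ (K525.Count.finite_ideal R n hn) (hdivis n hn) (hfrob n hn) q hnq μ hμ
  rw [hA.card n hn, K525.Count.card_ideal]

end K590.OrdFrob
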