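import Groth.Agent.AbVar.K525.AbsK
import Groth.Agent.AbVar.K525.AbsD
import Groth.Agent.AbVar.K525.Count
import Mathlib.CategoryTheory.Abelian.Refinements

/-!
# Orders of the subobjects killed by ideals

A commutative ring `R` acts on an object `A` of an abelian category with an order function. `IsKer ρ I κ`: the
subobject killed by the ideal `I`. If the subobjects killed by the maximal ideals have order at most `#(R/m)`, then
`#A[J'] · #(R/J) ≤ #A[J] · #(R/J')` for `J' ≤ J`.
-/

set_option autoImplicit false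

universe w v u

open CategoryTheory Limits ZeroObject K525.AbsOrd K525.AbsD

namespace K590.OrdGI

variable {C : Type u} [Category.{v} C] [Abelian C]
variable {A : C} {R : Type w} [CommRing R] (ρ : R →+* End A)

attribute [local instance] Abelian.hasFiniteBiproducts

/-- The endomorphism of `A` attached to `r`. -/
abbrev act (r : R) : A ⟶ A := ρ r

theorem act_mul (r s : R) : act ρ (r * s) = act ρ s ≫ act ρ r := by
  show ρ (r * s) = _
  rw [map_mul]; rfl

theorem act_mul' (r s : R) : act ρ (r * s) = act ρ r ≫ act ρ s := by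
  rw [mul_comm, act_mul]

theorem act_add (r s : R) : act ρ (r + s) = act ρ r + act ρ s := map_add ρ r s

theorem act_sub (r s : R) : act ρ (r - s) = act ρ r - act ρ s := map_sub ρ r s

theorem act_zero : act ρ 0 = 0 := map_zero ρ

theorem act_one : act ρ 1 = 𝟙 A := map_one ρ

theorem act_natCast (n : ℕ) : act ρ (n : R) = n • 𝟙 A := by
  show ρ (n : R) = _
  rw [map_natCast]
  exact (nsmul_one n).symm

/-- The subobject of `A` killed by an ideal. -/
structure IsKer (I : Ideal R) {K : C} (κ : K ⟶ A) : Prop where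
  mono : Mono κ
  zero : ∀ r ∈ I, κ ≫ act ρ r = 0
  lift : ∀ {T : C} (x : T ⟶ A), (∀ r ∈ I, x ≫ act ρ r = 0) → ∃ t : T ⟶ K, t ≫ κ = x

theorem exists_isKer (I : Ideal R) (hI : I.FG) : ∃ (K : C) (κ : K ⟶ A), IsKer ρ I κ := by
  obtain ⟨n, f, hf⟩ := Submodule.fg_iff_exists_fin_generating_family.1 hI
  let F := biproduct.lift (fun i => act ρ (f i))
  have key : ∀ {T : C} (x : T ⟶ A), (∀ i, x ≫ act ρ (f i) = 0) → ∀ r ∈ I, x ≫ act ρ r = 0 := by
    intro T x hx r hr
    rw [← hf] at hr
    induction hr using Submodule.span_induction with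
    | mem r h =>
      obtain ⟨i, rfl⟩ := h
      exact hx i
    | zero => rw [act_zero, comp_zero]
    | add r s _ _ h1 h2 => rw [act_add, Preadditive.comp_add, h1, h2, add_zero]
    | smul c r _ h1 =>
      show x ≫ act ρ (c * r) = 0
      rw [act_mul, ← Category.assoc, h1, zero_comp]
  refine ⟨kernel F, kernel.ι F, inferInstance, ?_, ?_⟩
  · apply key
    intro i
    have : act ρ (f i) = F ≫ biproduct.π (fun _ => A) i := by
      simp only [F]
      rw [biproduct.lift_π]
    rw [this, ← Category.assoc, kernel.condition, zero_comp]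
  · intro T x hx
    refine ⟨kernel.lift F x ?_, kernel.lift_ι _ _ _⟩
    apply biproduct.hom_ext
    intro i
    rw [Category.assoc, biproduct.lift_π, zero_comp]
    exact hx _ (hf ▸ Submodule.subset_span ⟨i, rfl⟩)

variable {ρ}

namespace IsKer

/-- Monotonicity. -/
theorem exists_le {I J : Ideal R} (hIJ : I ≤ J) {K L : C} {κ : K ⟶ A} {l : L ⟶ A} (hκ : IsKer ρ I κ)
    (hl : IsKer ρ J l) : ∃ a : L ⟶ K, Mono a ∧ a ≫ κ = l := by
  obtain ⟨a, ha⟩ := hκ.lift l fun r hr => hl.zero r (hIJ hr)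
  have := hl.mono
  have : Mono (a ≫ κ) := by rw [ha]; infer_instance
  exact ⟨a, mono_of_mono _ κ, ha⟩

theorem nonempty_iso {I : Ideal R} {K L : C} {κ : K ⟶ A} {l : L ⟶ A} (hκ : IsKer ρ I κ)
    (hl : IsKer ρ I l) : Nonempty (K ≅ L) := by
  obtain ⟨a, -, ha⟩ := hκ.exists_le le_rfl hl
  obtain ⟨b, -, hb⟩ := hl.exists_le le_rfl hκ
  have := hκ.mono
  have := hl.mono
  refine ⟨⟨b, a, ?_, ?_⟩⟩
  · rw [← cancel_mono κ, Category.assoc, ha, hb, Category.id_comp]
  · rw [← cancel_mono l, Category.assoc, hb, ha, Category.id_comp]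

/-- Elements of `R` preserve the subobject killed by an ideal. -/
theorem exists_act {I : Ideal R} {K : C} {κ : K ⟶ A} (hκ : IsKer ρ I κ) (r : R) :
    ∃ r' : K ⟶ K, r' ≫ κ = κ ≫ act ρ r := by
  obtain ⟨t, ht⟩ := hκ.lift (κ ≫ act ρ r) fun s hs => by
    rw [Category.assoc, ← act_mul, act_mul', ← Category.assoc, hκ.zero s hs, zero_comp]
  exact ⟨t, ht⟩

/-- The kernel of `n` is the subobject killed by `(n)`. -/
theorem kernel_nsmul (n : ℕ) : IsKer ρ (Ideal.span {(n : R)}) (kernel.ι (n • 𝟙 A)) where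
  mono := inferInstance
  zero := by
    intro r hr
    obtain ⟨s, rfl⟩ := Ideal.mem_span_singleton'.1 hr
    rw [act_mul, act_natCast, ← Category.assoc, kernel.condition, zero_comp]
  lift := by
    intro T x hx
    refine ⟨kernel.lift _ x ?_, kernel.lift_ι _ _ _⟩
    rw [← act_natCast ρ]
    exact hx _ (Ideal.mem_span_singleton_self _)

/-- The subobject killed by the unit ideal. -/
theorem isZero_top {K : C} {κ : K ⟶ A} (hκ : IsKer ρ (⊤ : Ideal R) κ) : IsZero K := by
  have h1 := hκ.zero 1 trivial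
  have := hκ.mono
  rw [act_one, Category.comp_id] at h1
  rw [IsZero.iff_id_eq_zero, ← cancel_mono κ, Category.id_comp, zero_comp, h1]

end IsKer

variable {ord : C → ℕ} (h : IsOrd ord)
include h

/-- The order of the subobject killed by an ideal containing a nonzero integer is finite. -/
theorem ord_ne_zero {n : ℕ} (hn : ord (kernel (n • 𝟙 A)) ≠ 0) {J : Ideal R} (hJ : (n : R) ∈ J) {K : C} {κ : K ⟶ A}
    (hκ : IsKer ρ J κ) : ord K ≠ 0 := by
  obtain ⟨a, ha, -⟩ := (IsKer.kernel_nsmul (ρ := ρ) n).exists_le ((Ideal.span_singleton_le_iff_mem J).2 hJ) hκ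
  exact h.ne_zero_of_mono a hn

/-- The basic step. -/
theorem step {J' : Ideal R} {x : R} {q : Ideal R} (hq : ∀ r : R, r ∈ q ↔ r * x ∈ J') {J : Ideal R}
    (hJ : J' ⊔ Ideal.span {x} = J) {K' K Q : C} {κ' : K' ⟶ A} {κ : K ⟶ A} {μ : Q ⟶ A} (hκ' : IsKer ρ J' κ')
    (hκ : IsKer ρ J κ) (hμ : IsKer ρ q μ) (hQ : ord Q ≠ 0) : ord K' ≤ ord K * ord Q := by
  have := hκ.mono
  have := hκ'.mono
  have := hμ.mono
  obtain ⟨ψ, hψ⟩ := hμ.lift (κ' ≫ act ρ x) fun r hr => by
    rw [Category.assoc, ← act_mul]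
    exact hκ'.zero _ ((hq r).1 hr)
  obtain ⟨a, hamono, ha⟩ := hκ'.exists_le (le_sup_left.trans hJ.le) hκ
  let p := Abelian.factorThruImage ψ
  let i := Abelian.image.ι ψ
  have hpi : p ≫ i = ψ := Abelian.image.fac ψ
  have hxJ : x ∈ J := hJ ▸ Ideal.mem_sup_right (Ideal.mem_span_singleton_self x)
  have hap : a ≫ p = 0 := by
    rw [← cancel_mono i, Category.assoc, hpi, zero_comp, ← cancel_mono μ, Category.assoc, hψ, zero_comp,
      ← Category.assoc, ha]
    exact hκ.zero x hxJ
  have hexact : (ShortComplex.mk a p hap).ShortExact :=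
    { exact := by
        rw [ShortComplex.exact_iff_exact_up_to_refinements]
        intro T y hy
        have hy1 : y ≫ p = 0 := hy
        have hy2 : (y ≫ κ') ≫ act ρ x = 0 := by
          have e1 : y ≫ ψ = 0 := by
            have e2 : y ≫ (p ≫ i) = 0 := by rw [← Category.assoc, hy1, zero_comp]
            exact (congrArg (fun z => y ≫ z) hpi).symm.trans e2
          rw [Category.assoc, ← hψ, ← Category.assoc, e1, zero_comp]
        obtain ⟨t, ht⟩ := hκ.lift (y ≫ κ') (by
          intro r hr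
          rw [← hJ] at hr
          obtain ⟨u, hu, v, hv, rfl⟩ := Submodule.mem_sup.1 hr
          obtain ⟨s, rfl⟩ := Ideal.mem_span_singleton'.1 hv
          rw [act_add, Preadditive.comp_add, act_mul, ← Category.assoc (y ≫ κ'), hy2, zero_comp, add_zero,
            Category.assoc, hκ'.zero u hu, comp_zero])
        refine ⟨T, 𝟙 T, inferInstance, t, ?_⟩
        rw [Category.id_comp]
        show y = t ≫ a
        rw [← cancel_mono κ', Category.assoc, ha, ht]
      mono_f := hamono
      epi_g := inferInstanceAs (Epi (Abelian.factorThruImage ψ)) }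
  have hmul : ord K' = ord K * ord (Abelian.image ψ) := h.mul _ hexact
  rw [hmul]
  exact Nat.mul_le_mul_left _ (h.le_of_mono (Abelian.image.ι ψ) hQ)

/-- The comparison inequality: for `J' ≤ J`, `#A[J'] · #(R/J) ≤ #A[J] · #(R/J')` when all `#A[m] ≤ #(R/m)`. -/
theorem gi [IsNoetherianRing R] {n : ℕ} (hn : ord (kernel (n • 𝟙 A)) ≠ 0) (hfin : Finite (R ⧸ Ideal.span {(n : R)}))
    (hmax : ∀ q : Ideal R, q.IsMaximal → (n : R) ∈ q → ∀ {Q : C} (μ : Q ⟶ A), IsKer ρ q μ → ord Q ≤ Nat.card (R ⧸ q))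
    {J' J : Ideal R} (hJ' : (n : R) ∈ J') (hle : J' ≤ J) {K' K : C} {κ' : K' ⟶ A} {κ : K ⟶ A} (hκ' : IsKer ρ J' κ')
    (hκ : IsKer ρ J κ) : ord K' * Nat.card (R ⧸ J) ≤ ord K * Nat.card (R ⧸ J') := by
  have hspan : ∀ J : Ideal R, (n : R) ∈ J ↔ Ideal.span {(n : R)} ≤ J := fun J => by
    rw [Ideal.span_le, Set.singleton_subset_iff]; rfl
  have hfinJ : ∀ J : Ideal R, (n : R) ∈ J → Finite (R ⧸ J) := by
    intro J hJ
    exact Finite.of_surjective _ (Ideal.Quotient.factor_surjective ((hspan J).1 hJ))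
  suffices H : ∀ (d : ℕ) (J : Ideal R), J' ≤ J → Nat.card (R ⧸ J') - Nat.card (R ⧸ J) ≤ d →
      ∀ {K : C} (κ : K ⟶ A), IsKer ρ J κ → ord K' * Nat.card (R ⧸ J) ≤ ord K * Nat.card (R ⧸ J') from
    H _ J hle le_rfl κ hκ
  intro d
  induction d using Nat.strong_induction_on with
  | _ d ih =>
    intro J hJ'J hd K κ hκ
    have hJ : (n : R) ∈ J := hJ'J hJ'
    rcases eq_or_lt_of_le hJ'J with rfl | hlt
    · obtain ⟨e⟩ := hκ.nonempty_iso hκ'
      rw [h.iso e]
    · -- a maximal proper subideal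
      obtain ⟨J1, ⟨hJ11, hJ12⟩, hJ1max⟩ := set_has_maximal_iff_noetherian.2 ‹IsNoetherianRing R›
        {J1 : Ideal R | J' ≤ J1 ∧ J1 < J} ⟨J', le_rfl, hlt⟩
      have hnJ1 : (n : R) ∈ J1 := hJ11 hJ'
      obtain ⟨x, hxJ, hxJ1⟩ := SetLike.exists_of_lt hJ12
      have hsup : ∀ y : R, y ∈ J → y ∉ J1 → J1 ⊔ Ideal.span {y} = J := by
        intro y hyJ hyJ1
        by_contra hne'
        have hle : J1 ⊔ Ideal.span {y} ≤ J := sup_le hJ12.le ((Ideal.span_singleton_le_iff_mem _).2 hyJ)
        have h1 : J1 ⊔ Ideal.span {y} < J := lt_of_le_of_ne hle hne'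
        have h2 : J1 < J1 ⊔ Ideal.span {y} := by
          refine lt_of_le_of_ne le_sup_left fun heq => hyJ1 ?_
          rw [heq]
          exact Ideal.mem_sup_right (Ideal.mem_span_singleton_self y)
        exact hJ1max _ ⟨hJ11.trans le_sup_left, h1⟩ h2
      let q : Ideal R := Submodule.comap (LinearMap.toSpanSingleton R R x) J1
      have hq : ∀ r : R, r ∈ q ↔ r * x ∈ J1 := fun r => Iff.rfl
      have hqmax : q.IsMaximal := by
        rw [Ideal.isMaximal_iff]
        refine ⟨fun h1 => hxJ1 (by simpa using (hq 1).1 h1), ?_⟩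
        intro P r hqP hr hrP
        have h1 : r * x ∉ J1 := fun h2 => hr ((hq r).2 h2)
        have h2 := hsup (r * x) (J.mul_mem_left r hxJ) h1
        have h3 : x ∈ J1 ⊔ Ideal.span {r * x} := by rw [h2]; exact hxJ
        obtain ⟨y, hy, z, hz, hyz⟩ := Submodule.mem_sup.1 h3
        obtain ⟨s, rfl⟩ := Ideal.mem_span_singleton'.1 hz
        have h4 : (1 - s * r) ∈ q := by
          rw [hq]
          have : (1 - s * r) * x = y := by linear_combination (-1 : R) * hyz
          rw [this]; exact hy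
        have h5 : s * r ∈ P := P.mul_mem_left s hrP
        have h6 : (1 : R) = (1 - s * r) + s * r := by ring
        rw [h6]
        exact P.add_mem (hqP h4) h5
      obtain ⟨K1, κ1, hκ1⟩ := exists_isKer ρ J1 (IsNoetherian.noetherian J1)
      obtain ⟨Q, μ, hμ⟩ := exists_isKer ρ q (IsNoetherian.noetherian q)
      have hcardJ : Nat.card (R ⧸ J1) = Nat.card (R ⧸ J) * Nat.card (R ⧸ q) := by
        have h1 := Submodule.card_quotient_mul_card_quotient J J1 hJ12.le
        let g : R →ₗ[R] R ⧸ J1 := LinearMap.toSpanSingleton R (R ⧸ J1) (J1.mkQ x)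
        have hgk : LinearMap.ker g = q := by
          ext r
          rw [LinearMap.mem_ker, hq]
          show r • J1.mkQ x = 0 ↔ _
          rw [← map_smul, Submodule.mkQ_apply, Submodule.Quotient.mk_eq_zero]
          rfl
        have hgr : LinearMap.range g = Submodule.map J1.mkQ J := by
          rw [LinearMap.range_toSpanSingleton, ← hsup x hxJ hxJ1, Submodule.map_sup]
          have h2 : Submodule.map J1.mkQ J1 = ⊥ := by
            rw [eq_bot_iff]
            rintro _ ⟨y, hy, rfl⟩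
            exact (Submodule.mem_bot _).2 ((Submodule.Quotient.mk_eq_zero J1).2 hy)
          rw [h2, bot_sup_eq]
          show _ = Submodule.map J1.mkQ (Submodule.span R {x})
          rw [Submodule.map_span, Set.image_singleton]
        have h3 : Nat.card (Submodule.map J1.mkQ J) = Nat.card (R ⧸ q) := by
          rw [← hgr, ← hgk]
          exact Nat.card_congr g.quotKerEquivRange.toEquiv.symm
        rw [← h1, h3, mul_comm]
      have hnq : (n : R) ∈ q := (hq _).2 (Ideal.mul_mem_right x J1 hnJ1)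
      have hQne : ord Q ≠ 0 := ord_ne_zero h hn hnq hμ
      have hQ : ord Q ≤ Nat.card (R ⧸ q) := hmax q hqmax hnq μ hμ
      have hst : ord K1 ≤ ord K * ord Q := step h hq (hsup x hxJ hxJ1) hκ1 hκ hμ hQne
      have hfJ1 := hfinJ J1 hnJ1
      have hfJ := hfinJ J hJ
      have hfq := hfinJ q hnq
      have hcJ : 0 < Nat.card (R ⧸ J) := Nat.card_pos
      have hq2 : 1 < Nat.card (R ⧸ q) := by
        have : Nontrivial (R ⧸ q) := Ideal.Quotient.nontrivial_iff.2 hqmax.ne_top
        exact Finite.one_lt_card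
      have hltc : Nat.card (R ⧸ J) < Nat.card (R ⧸ J1) := by
        rw [hcardJ]; exact (Nat.lt_mul_iff_one_lt_right hcJ).2 hq2
      have hfJ' := hfinJ J' hJ'
      have hcN : Nat.card (R ⧸ J1) ≤ Nat.card (R ⧸ J') :=
        Nat.card_le_card_of_surjective _ (Ideal.Quotient.factor_surjective hJ11)
      have hIH := ih (Nat.card (R ⧸ J') - Nat.card (R ⧸ J1)) (by omega) J1 hJ11 le_rfl κ1 hκ1
      rw [hcardJ] at hIH
      have h5 : ord K' * Nat.card (R ⧸ J) * Nat.card (R ⧸ q) ≤ ord K * Nat.card (R ⧸ J') * Nat.card (R ⧸ q) := by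
        calc ord K' * Nat.card (R ⧸ J) * Nat.card (R ⧸ q) = ord K' * (Nat.card (R ⧸ J) * Nat.card (R ⧸ q)) := by ring
          _ ≤ ord K1 * Nat.card (R ⧸ J') := hIH
          _ ≤ (ord K * ord Q) * Nat.card (R ⧸ J') := Nat.mul_le_mul_right _ hst
          _ ≤ (ord K * Nat.card (R ⧸ q)) * Nat.card (R ⧸ J') :=
            Nat.mul_le_mul_right _ (Nat.mul_le_mul_left _ hQ)
          _ = ord K * Nat.card (R ⧸ J') * Nat.card (R ⧸ q) := by ring
      exact Nat.le_of_mul_le_mul_right h5 (Nat.card_pos)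

/-- All subobjects killed by ideals of finite index have the expected order. -/
def Good (ord : C → ℕ) {A : C} {R : Type w} [CommRing R] (ρ : R →+* End A) : Prop := ∀ (n : ℕ), n ≠ 0 → ∀ I : Ideal R, (n : R) ∈ I → ∀ {K : C} (κ : K ⟶ A), IsKer ρ I κ →
  ord K = Nat.card (R ⧸ I)

/-- The numerical hypotheses: `A` is divisible and `#A[n] = n ^ r`. -/
structure Div (ord : C → ℕ) (A : C) (r : ℕ) : Prop where
  epi : ∀ n : ℕ, n ≠ 0 → Epi (n • 𝟙 A)
  card : ∀ n : ℕ, n ≠ 0 → ord (kernel (n • 𝟙 A)) = n ^ r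

omit h in
theorem noeth (R : Type w) [CommRing R] [Module.Finite ℤ R] : IsNoetherianRing R :=
  isNoetherian_of_isNoetherianRing_of_finite ℤ R |> fun h => isNoetherian_of_tower ℤ h

omit h in
theorem Div.ne {r : ℕ} (hA : Div ord A r) {n : ℕ} (hn : n ≠ 0) : ord (kernel (n • 𝟙 A)) ≠ 0 := by
  rw [hA.card n hn]
  exact pow_ne_zero _ hn

/-- Goodness from the maximal ideals. -/
theorem good_of_max [Module.Finite ℤ R] [Module.Free ℤ R] (hA : Div ord A (Module.finrank ℤ R))
    (hmax : ∀ (n : ℕ), n ≠ 0 → ∀ q : Ideal R, q.IsMaximal → (n : R) ∈ q → ∀ {Q : C} (μ : Q ⟶ A), IsKer ρ q μ →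
      ord Q ≤ Nat.card (R ⧸ q)) : Good ord ρ := by
  intro n hn I hI K κ hκ
  have := noeth R
  have hne := hA.ne hn
  have hfin := K525.Count.finite_ideal R n hn
  have hle : Ideal.span {(n : R)} ≤ I := (Ideal.span_singleton_le_iff_mem I).2 hI
  have hfI : Finite (R ⧸ I) := Finite.of_surjective _ (Ideal.Quotient.factor_surjective hle)
  apply le_antisymm
  · obtain ⟨K1, κ1, hκ1⟩ := exists_isKer ρ (⊤ : Ideal R) (IsNoetherian.noetherian _)
    have h1 := gi h hne hfin (fun q hq hnq Q μ hμ => hmax n hn q hq hnq μ hμ) hI le_top hκ hκ1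
    have h2 : ord K1 = 1 := h.zero _ hκ1.isZero_top
    have h3 : Nat.card (R ⧸ (⊤ : Ideal R)) = 1 := Nat.card_unique
    rwa [h2, h3, mul_one, one_mul] at h1
  · have h1 := gi h hne hfin (fun q hq hnq Q μ hμ => hmax n hn q hq hnq μ hμ) (Ideal.mem_span_singleton_self _) hle
      (IsKer.kernel_nsmul (ρ := ρ) n) hκ
    rw [hA.card n hn, K525.Count.card_ideal, mul_comm] at h1
    exact Nat.le_of_mul_le_mul_right h1 (Nat.pos_of_ne_zero (pow_ne_zero _ hn))

omit h in
theorem nsmul_inj {B Y : C} {n : ℕ} (hn : Epi (n • 𝟙 B)) (f : B ⟶ Y) (hf : n • f = 0) : f = 0 := by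
  rw [← cancel_epi (n • 𝟙 B), smul_id_comp, hf, comp_zero]

omit h in
/-- Elements killing the `n`-torsion are divisible by `n`. -/
theorem Good.dvd [Module.Finite ℤ R] [Module.Free ℤ R] (hG : Good ord ρ) {n : ℕ} (hn : n ≠ 0) {y : R}
    (hy : kernel.ι (n • 𝟙 A) ≫ act ρ y = 0) : ∃ z : R, y = n * z := by
  let I : Ideal R := Ideal.span {(n : R)} ⊔ Ideal.span {y}
  have hle : Ideal.span {(n : R)} ≤ I := le_sup_left
  have hk : IsKer ρ I (kernel.ι (n • 𝟙 A)) :=
    { mono := inferInstance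
      zero := by
        intro r hr
        obtain ⟨u, hu, v, hv, rfl⟩ := Submodule.mem_sup.1 hr
        obtain ⟨s, rfl⟩ := Ideal.mem_span_singleton'.1 hv
        rw [act_add, Preadditive.comp_add, (IsKer.kernel_nsmul (ρ := ρ) n).zero u hu, zero_add, act_mul,
          ← Category.assoc, hy, zero_comp]
      lift := fun x hx => (IsKer.kernel_nsmul (ρ := ρ) n).lift x fun r hr => hx r (hle hr) }
  have h1 := hG n hn I (hle (Ideal.mem_span_singleton_self _)) _ hk
  have h2 := hG n hn _ (Ideal.mem_span_singleton_self _) _ (IsKer.kernel_nsmul (ρ := ρ) n)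
  have hfin := K525.Count.finite_ideal R n hn
  have hb := (Ideal.Quotient.factor_surjective hle).bijective_of_nat_card_le (h2.symm.trans h1).le
  have hyI : y ∈ I := Ideal.mem_sup_right (Ideal.mem_span_singleton_self y)
  have h3 : (Ideal.Quotient.mk (Ideal.span {(n : R)})) y = 0 := by
    apply hb.1
    rw [map_zero, Ideal.Quotient.factor_mk]
    exact Ideal.Quotient.eq_zero_iff_mem.2 hyI
  obtain ⟨z, hz⟩ := Ideal.mem_span_singleton.1 (Ideal.Quotient.eq_zero_iff_mem.1 h3)
  exact ⟨z, hz⟩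

omit h in
/-- **Commutant.** If a good action has the property that every endomorphism has a multiple in the image, then it is
bijective. -/
theorem Good.bijective [Module.Finite ℤ R] [Module.Free ℤ R] (hG : Good ord ρ) (hepi : ∀ n : ℕ, n ≠ 0 → Epi (n • 𝟙 A))
    (hcom : ∀ f : A ⟶ A, ∃ (n : ℕ) (r : R), n ≠ 0 ∧ n • f = act ρ r) : Function.Bijective ρ := by
  constructor
  · rw [injective_iff_map_eq_zero]
    intro y hy
    have hy' : act ρ y = 0 := hy
    -- `y` is divisible by every integer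
    by_contra hne
    let b := Module.finBasis ℤ R
    have h1 : ∃ i, b.repr y i ≠ 0 := by
      by_contra hall
      push Not at hall
      exact hne (b.repr.map_eq_zero_iff.1 (Finsupp.ext hall))
    obtain ⟨i, hi⟩ := h1
    let n := (b.repr y i).natAbs + 1
    obtain ⟨z, hz⟩ := hG.dvd (n := n) (Nat.succ_ne_zero _) (by rw [hy', comp_zero] : _ ≫ act ρ y = 0)
    have h2 : b.repr y i = n * b.repr z i := by
      have : y = (n : ℤ) • z := by rw [hz, zsmul_eq_mul, Int.cast_natCast]
      rw [this, map_smul, Finsupp.smul_apply, smul_eq_mul]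
    have h3 : (n : ℤ) ∣ b.repr y i := ⟨_, h2⟩
    have h4 := Int.natAbs_dvd_natAbs.2 h3
    have h5 := Nat.le_of_dvd (Int.natAbs_pos.2 hi) h4
    simp only [n, Int.natAbs_natCast] at h5
    omega
  · intro (f : A ⟶ A)
    obtain ⟨n, y, hn, hy⟩ := hcom f
    have h0 : kernel.ι (n • 𝟙 A) ≫ act ρ y = 0 := by
      rw [← hy, ← smul_id_comp n f, ← Category.assoc, kernel.condition, zero_comp]
    obtain ⟨z, rfl⟩ := hG.dvd (n := n) hn h0
    refine ⟨z, ?_⟩
    have h1 : n • (act ρ z - f) = 0 := by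
      rw [smul_sub, hy, act_mul', act_natCast, smul_id_comp, sub_self]
    exact sub_eq_zero.1 (nsmul_inj (hepi n hn) _ h1)

end K590.OrdGI
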