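import Groth.Agent.AbVar.K590.OrdFrob

/-!
# The quotient step

`S → R` an injective homomorphism of orders, `m` a maximal ideal of `S` whose image `m'` is an ideal of `R`; `R` acts on
`B` (good). If `K ⊆ B[m']` is `S`-stable, contains no nonzero `R`-stable subobject and `#B[m'] ≤ #K · #(S/m)`,
then `S` acts on `B/K` and this action is good.
-/

set_option autoImplicit false

universe w v u

open CategoryTheory Limits ZeroObject K525.AbsOrd K525.AbsD

namespace K590.Step

open K590.OrdGI K590.OrdFrob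

variable {C : Type u} [Category.{v} C] [Abelian C]

/-- The quotient of a divisible object by a finite subobject has the same torsion. -/
theorem div_quot {ord : C → ℕ} (h : IsOrd ord) {K B Q : C} (k : K ⟶ B) [Mono k] (q : B ⟶ Q) [Epi q]
    (hkq : k ≫ q = 0) (hex : ∀ {Z : C} (x : Z ⟶ B), x ≫ q = 0 → ∃ y : Z ⟶ K, y ≫ k = x) (hK : ord K ≠ 0) {r : ℕ}
    (hB : Div ord B r) : Div ord Q r where
  epi n hn := by
    have h1 := hB.epi n hn
    have h2 : (n • 𝟙 B) ≫ q = q ≫ (n • 𝟙 Q) := by rw [smul_id_comp, comp_smul_id]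
    have h3 : Epi (q ≫ (n • 𝟙 Q)) := by rw [← h2]; infer_instance
    exact epi_of_epi q (n • 𝟙 Q)
  card n hn := by
    have h1 := hB.epi n hn
    -- `L = {b : n b ∈ K}`
    let ψ : B ⟶ Q := q ≫ (n • 𝟙 Q)
    have hψ' : ψ = (n • 𝟙 B) ≫ q := by simp only [ψ]; rw [smul_id_comp, comp_smul_id]
    let L := kernel ψ
    let l : L ⟶ B := kernel.ι ψ
    -- `L → K`
    obtain ⟨a, ha⟩ := hex (l ≫ (n • 𝟙 B)) (by
      rw [Category.assoc, ← hψ']; exact kernel.condition ψ)
    -- `B[n] → L`
    obtain ⟨t, ht⟩ : ∃ t : kernel (n • 𝟙 B) ⟶ L, t ≫ l = kernel.ι (n • 𝟙 B) := by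
      refine ⟨kernel.lift ψ (kernel.ι (n • 𝟙 B)) ?_, kernel.lift_ι _ _ _⟩
      rw [hψ', ← Category.assoc, kernel.condition, zero_comp]
    have htm : Mono t := by
      have : Mono (t ≫ l) := by rw [ht]; infer_instance
      exact mono_of_mono t l
    have hta : t ≫ a = 0 := by
      rw [← cancel_mono k, Category.assoc, ha, ← Category.assoc, ht, kernel.condition, zero_comp]
    have haepi : Epi a := by
      rw [Preadditive.epi_iff_cancel_zero]
      intro P g hg
      -- pull back `n : B → B` along `k`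
      have hp : Epi (pullback.snd (n • 𝟙 B) k) := inferInstance
      obtain ⟨s, hs⟩ : ∃ s : pullback (n • 𝟙 B) k ⟶ L, s ≫ l = pullback.fst (n • 𝟙 B) k := by
        refine ⟨kernel.lift ψ (pullback.fst (n • 𝟙 B) k) ?_, kernel.lift_ι _ _ _⟩
        rw [hψ', ← Category.assoc, pullback.condition, Category.assoc, hkq, comp_zero]
      have h3 : s ≫ a = pullback.snd (n • 𝟙 B) k := by
        rw [← cancel_mono k, Category.assoc, ha, ← Category.assoc, hs, pullback.condition]
      rw [← cancel_epi (pullback.snd (n • 𝟙 B) k), ← h3, Category.assoc, hg, comp_zero, comp_zero]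
    have e1 : ord L = ord (kernel (n • 𝟙 B)) * ord K := by
      refine h.mul (ShortComplex.mk t a hta)
        { exact := ?_
          mono_f := htm
          epi_g := haepi }
      rw [ShortComplex.exact_iff_exact_up_to_refinements]
      intro Z y hy
      have hy' : y ≫ a = 0 := hy
      have h3 : (y ≫ l) ≫ (n • 𝟙 B) = 0 := by
        rw [Category.assoc, ← ha, ← Category.assoc, hy', zero_comp]
      refine ⟨Z, 𝟙 Z, inferInstance, kernel.lift _ _ h3, ?_⟩
      rw [Category.id_comp]
      show y = kernel.lift _ _ h3 ≫ t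
      rw [← cancel_mono l, Category.assoc, ht, kernel.lift_ι]
    -- `L → Q[n]`
    have hw : (l ≫ q) ≫ (n • 𝟙 Q) = 0 := by rw [Category.assoc]; exact kernel.condition ψ
    let b : L ⟶ kernel (n • 𝟙 Q) := kernel.lift _ (l ≫ q) hw
    have hb : b ≫ kernel.ι (n • 𝟙 Q) = l ≫ q := kernel.lift_ι _ _ _
    obtain ⟨c, hc⟩ : ∃ c : K ⟶ L, c ≫ l = k := by
      refine ⟨kernel.lift ψ k ?_, kernel.lift_ι _ _ _⟩
      show k ≫ q ≫ _ = 0
      rw [← Category.assoc, hkq, zero_comp]
    have hcm : Mono c := by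
      have : Mono (c ≫ l) := by rw [hc]; infer_instance
      exact mono_of_mono c l
    have hcb : c ≫ b = 0 := by
      rw [← cancel_mono (kernel.ι (n • 𝟙 Q)), Category.assoc, hb, ← Category.assoc, hc, hkq, zero_comp]
    have hbepi : Epi b := by
      rw [Preadditive.epi_iff_cancel_zero]
      intro P g hg
      have hp : Epi (pullback.snd q (kernel.ι (n • 𝟙 Q))) := inferInstance
      obtain ⟨s, hs⟩ : ∃ s : pullback q (kernel.ι (n • 𝟙 Q)) ⟶ L, s ≫ l = pullback.fst q (kernel.ι (n • 𝟙 Q)) := by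
        refine ⟨kernel.lift ψ (pullback.fst q (kernel.ι (n • 𝟙 Q))) ?_, kernel.lift_ι _ _ _⟩
        show _ ≫ q ≫ _ = 0
        rw [← Category.assoc, pullback.condition, Category.assoc, kernel.condition, comp_zero]
      have h3 : s ≫ b = pullback.snd q (kernel.ι (n • 𝟙 Q)) := by
        rw [← cancel_mono (kernel.ι (n • 𝟙 Q)), Category.assoc, hb, ← Category.assoc, hs, pullback.condition]
      rw [← cancel_epi (pullback.snd q (kernel.ι (n • 𝟙 Q))), ← h3, Category.assoc, hg, comp_zero, comp_zero]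
    have e2 : ord L = ord K * ord (kernel (n • 𝟙 Q)) := by
      refine h.mul (ShortComplex.mk c b hcb)
        { exact := ?_
          mono_f := hcm
          epi_g := hbepi }
      rw [ShortComplex.exact_iff_exact_up_to_refinements]
      intro Z y hy
      have hy' : y ≫ b = 0 := hy
      obtain ⟨z, hz⟩ := hex (y ≫ l) (by rw [Category.assoc, ← hb, ← Category.assoc, hy', zero_comp])
      refine ⟨Z, 𝟙 Z, inferInstance, z, ?_⟩
      rw [Category.id_comp]
      show y = z ≫ c
      rw [← cancel_mono l, Category.assoc, hc, hz]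
    rw [← hB.card n hn]
    rw [e1, mul_comm] at e2
    exact (Nat.eq_of_mul_eq_mul_left (Nat.pos_of_ne_zero hK) e2).symm

section

variable {ord : C → ℕ} (h : IsOrd ord)
variable {B : C} {R S : Type w} [CommRing R] [CommRing S] (ι : S →+* R) {ρ : R →+* End B}
variable {K Q : C} (k : K ⟶ B) [Mono k] (q : B ⟶ Q) [Epi q]
    (hkq : k ≫ q = 0) (hex : ∀ {Z : C} (x : Z ⟶ B), x ≫ q = 0 → ∃ y : Z ⟶ K, y ≫ k = x)
    (hst : ∀ s : S, ∃ s' : K ⟶ K, k ≫ act ρ (ι s) = s' ≫ k)

include hkq hex hst in
/-- The action on the quotient. -/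
theorem exists_action : ∃ ρ' : S →+* End Q, ∀ s, act ρ (ι s) ≫ q = q ≫ act ρ' s := by
  have hst' : ∀ s : S, ∃ s' : Q ⟶ Q, act ρ (ι s) ≫ q = q ≫ s' := by
    intro s
    obtain ⟨s', hs'⟩ := hst s
    have hq : (ShortComplex.mk k q hkq).Exact := by
      rw [ShortComplex.exact_iff_exact_up_to_refinements]
      intro Z y hy
      obtain ⟨z, hz⟩ := hex y hy
      exact ⟨Z, 𝟙 Z, inferInstance, z, by rw [Category.id_comp]; exact hz.symm⟩
    have h1 : k ≫ (act ρ (ι s) ≫ q) = 0 := by rw [← Category.assoc, hs', Category.assoc, hkq, comp_zero]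
    exact ⟨hq.desc _ h1, (hq.g_desc _ h1).symm⟩
  exact exists_quotHom (ρ := ρ.comp ι) q hst'

variable {ι} [Module.Finite ℤ R] [Module.Free ℤ R] [Module.Finite ℤ S] [Module.Free ℤ S]
  (hrk : Module.finrank ℤ S = Module.finrank ℤ R)
  (hB : Div ord B (Module.finrank ℤ R)) (hG : Good ord ρ)
  {m : Ideal S} (hm : m.IsMaximal) {m' : Ideal R} (hm' : ∀ x : R, x ∈ m' ↔ ∃ a ∈ m, ι a = x)
  {T : C} {τ : T ⟶ B} (hT : IsKer ρ m' τ) {a : K ⟶ T} (ha : a ≫ τ = k)
  (hsize : ord T ≤ ord K * Nat.card (S ⧸ m)) (hK : ord K ≠ 0)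
  (hno : ∀ {Z : C} (x : Z ⟶ B), (∀ r : R, ∃ y : Z ⟶ K, x ≫ act ρ r = y ≫ k) → x = 0)

include h hkq hex hrk hB hG hm hm' hT ha hsize hK hno in
/-- **The quotient step.** -/
theorem good_quot (ρ' : S →+* End Q) (hρ' : ∀ s, act ρ (ι s) ≫ q = q ≫ act ρ' s) :
    Div ord Q (Module.finrank ℤ S) ∧ Good ord ρ' := by
  have hQ : Div ord Q (Module.finrank ℤ S) := by
    rw [hrk]
    exact div_quot h k q hkq hex hK hB
  refine ⟨hQ, good_of_max h hQ ?_⟩
  intro n hn p hp hnp N μ hμ
  have := hμ.mono
  have := hT.mono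
  have hNne : ord N ≠ 0 := ord_ne_zero h (hQ.ne hn) hnp hμ
  have hKm : ∀ x ∈ m', k ≫ act ρ x = 0 := by
    intro x hx
    rw [← ha, Category.assoc, hT.zero x hx, comp_zero]
  -- the preimage of `N` in `B`
  let l := pullback.fst q μ
  let s := pullback.snd q μ
  have hs : Epi s := inferInstanceAs (Epi (pullback.snd q μ))
  have hls : l ≫ q = s ≫ μ := pullback.condition
  have hlK : ∀ c ∈ p, ∃ y : pullback q μ ⟶ K, y ≫ k = l ≫ act ρ (ι c) := by
    intro c hc
    apply hex
    rw [Category.assoc, hρ', ← Category.assoc, hls, Category.assoc, hμ.zero c hc, comp_zero]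
  by_cases hpm : p = m
  · subst hpm
    -- everything is in `T`
    have hl0 : ∀ c ∈ p, l ≫ act ρ (ι c) = 0 := by
      intro c hc
      apply hno
      intro r
      obtain ⟨c', hc', hcr⟩ := (hm' (r * ι c)).1 (m'.mul_mem_left r ((hm' _).2 ⟨c, hc, rfl⟩))
      obtain ⟨y, hy⟩ := hlK c' hc'
      refine ⟨y, ?_⟩
      rw [Category.assoc, ← act_mul, ← hcr, hy]
    obtain ⟨t, ht⟩ := hT.lift l (by
      intro x hx
      obtain ⟨c, hc, rfl⟩ := (hm' x).1 hx
      exact hl0 c hc)
    -- the image of `T` in `Q`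
    let φ : T ⟶ Q := τ ≫ q
    let pr := Abelian.factorThruImage φ
    let i := Abelian.image.ι φ
    have hpi : pr ≫ i = φ := Abelian.image.fac φ
    have hap : a ≫ pr = 0 := by
      rw [← cancel_mono i, Category.assoc, hpi, zero_comp]
      show a ≫ τ ≫ q = 0
      rw [← Category.assoc, ha, hkq]
    have ham : Mono a := by
      have : Mono (a ≫ τ) := by rw [ha]; infer_instance
      exact mono_of_mono a τ
    have e1 : ord T = ord K * ord (Abelian.image φ) := by
      refine h.mul (ShortComplex.mk a pr hap)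
        { exact := ?_
          mono_f := ham
          epi_g := inferInstanceAs (Epi (Abelian.factorThruImage φ)) }
      rw [ShortComplex.exact_iff_exact_up_to_refinements]
      intro Z y hy
      have hy' : y ≫ pr = 0 := hy
      have h3 : (y ≫ τ) ≫ q = 0 := by
        have : y ≫ (pr ≫ i) = 0 := by rw [← Category.assoc, hy', zero_comp]
        rw [Category.assoc]
        exact (congrArg (fun z => y ≫ z) hpi).symm.trans this
      obtain ⟨z, hz⟩ := hex _ h3
      refine ⟨Z, 𝟙 Z, inferInstance, z, ?_⟩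
      rw [Category.id_comp]
      show y = z ≫ a
      rw [← cancel_mono τ, Category.assoc, ha, hz]
    have h4 : μ ≫ cokernel.π i = 0 := by
      rw [← cancel_epi s, comp_zero, ← Category.assoc, ← hls, ← ht]
      have : (t ≫ τ) ≫ q = t ≫ pr ≫ i := by rw [hpi, Category.assoc]
      rw [this, Category.assoc, Category.assoc, cokernel.condition, comp_zero, comp_zero]
    have hexi := ShortComplex.exact_cokernel i
    have h5 : hexi.lift μ h4 ≫ i = μ := hexi.lift_f _ h4
    have h6 : Mono (hexi.lift μ h4) := by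
      have : Mono (hexi.lift μ h4 ≫ i) := by rw [h5]; infer_instance
      exact mono_of_mono _ i
    have hIne : ord (Abelian.image φ) ≠ 0 := by
      have hTne : ord T ≠ 0 := by
        refine ord_ne_zero h (hB.ne hn) (?_ : (n : R) ∈ m') hT
        exact (hm' _).2 ⟨n, hnp, map_natCast ι n⟩
      intro h0
      exact hTne (by rw [e1, h0, mul_zero])
    have h7 : ord N ≤ ord (Abelian.image φ) := @IsOrd.le_of_mono _ _ _ _ h _ _ (hexi.lift μ h4) h6 hIne
    rw [e1] at hsize
    exact h7.trans (Nat.le_of_mul_le_mul_left hsize (Nat.pos_of_ne_zero hK))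
  · -- coprime ideals
    have hco : p ⊔ m = ⊤ := Ideal.IsMaximal.coprime_of_ne hp hm hpm
    obtain ⟨b, hb, a', ha', hab⟩ := Submodule.mem_sup.1 (hco ▸ Submodule.mem_top : (1 : S) ∈ p ⊔ m)
    let P : Ideal R := p.map ι
    have hnR := noeth R
    obtain ⟨M, ν, hν⟩ := exists_isKer ρ P (IsNoetherian.noetherian P)
    have hnP : (n : R) ∈ P := by
      have := Ideal.mem_map_of_mem ι hnp
      rwa [map_natCast] at this
    have hMne : ord M ≠ 0 := ord_ne_zero h (hB.ne hn) hnP hν
    -- the map `M → N`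
    obtain ⟨θ, hθ⟩ := hμ.lift (ν ≫ q) (by
      intro c hc
      rw [Category.assoc, ← hρ', ← Category.assoc, hν.zero _ (Ideal.mem_map_of_mem ι hc), zero_comp])
    obtain ⟨x, hx⟩ := hν.lift (l ≫ act ρ (ι a')) (by
      intro r hr
      have h1 : ∀ r ∈ P, (l ≫ act ρ (ι a')) ≫ act ρ r = 0 := by
        intro r hr
        refine Submodule.span_induction (p := fun r _ => (l ≫ act ρ (ι a')) ≫ act ρ r = 0) ?_ ?_ ?_ ?_ hr
        · rintro _ ⟨c, hc, rfl⟩
          obtain ⟨y, hy⟩ := hlK c hc
          rw [Category.assoc, ← act_mul', act_mul, ← Category.assoc, ← hy, Category.assoc,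
            hKm _ ((hm' _).2 ⟨a', ha', rfl⟩), comp_zero]
        · rw [act_zero, comp_zero]
        · intro u v _ _ hu hv
          rw [act_add, Preadditive.comp_add, hu, hv, add_zero]
        · intro c u _ hu
          show _ ≫ act ρ (c * u) = 0
          rw [act_mul, ← Category.assoc, hu, zero_comp]
      exact h1 r hr)
    have hxθ : x ≫ θ = s := by
      rw [← cancel_mono μ, Category.assoc, hθ, ← Category.assoc, hx, Category.assoc, hρ', ← Category.assoc, hls,
        Category.assoc]
      have h2 : act ρ' a' = 𝟙 Q - act ρ' b := by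
        rw [← act_one ρ', ← hab, act_add, add_sub_cancel_left]
      rw [h2, Preadditive.comp_sub, hμ.zero b hb, sub_zero, Category.comp_id]
    have hθe : Epi θ := by
      have : Epi (x ≫ θ) := by rw [hxθ]; exact hs
      exact epi_of_epi x θ
    have h1 : ord N ≤ ord M := h.le_of_epi θ hMne
    have h2 : ord M = Nat.card (R ⧸ P) := hG n hn P hnP ν hν
    -- the residue rings
    have hfp : Finite (S ⧸ p) := by
      have h3 : Ideal.span {(n : S)} ≤ p := (Ideal.span_singleton_le_iff_mem _).2 hnp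
      have := K525.Count.finite_ideal S n hn
      exact Finite.of_surjective _ (Ideal.Quotient.factor_surjective h3)
    have h3 : Nat.card (R ⧸ P) ≤ Nat.card (S ⧸ p) := by
      let f : S ⧸ p →+* R ⧸ P := Ideal.quotientMap P ι Ideal.le_comap_map
      refine Nat.card_le_card_of_surjective f ?_
      intro y
      obtain ⟨r, rfl⟩ := Ideal.Quotient.mk_surjective y
      obtain ⟨c, hc, hcr⟩ := (hm' (r * ι a')).1 (m'.mul_mem_left r ((hm' _).2 ⟨a', ha', rfl⟩))
      refine ⟨Ideal.Quotient.mk p c, ?_⟩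
      show Ideal.quotientMap P ι Ideal.le_comap_map (Ideal.Quotient.mk p c) = _
      rw [Ideal.quotientMap_mk, Ideal.Quotient.eq, hcr]
      have h4 : r * ι a' - r = -(r * ι b) := by
        have : (1 : R) = ι b + ι a' := by rw [← map_add, hab, map_one]
        linear_combination (-r) * this
      rw [h4]
      exact neg_mem (P.mul_mem_left r (Ideal.mem_map_of_mem ι hb))
    exact h1.trans (h2.le.trans h3)

end

end K590.Step
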