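import Groth.Agent.AbVar.K590.Mdl
import Groth.Agent.AbVar.K590.Hyper
import Groth.Agent.AbVar.K525.Pts
import Mathlib.RingTheory.HopfAlgebra.Quotient

/-!
# Subobjects from Hopf ideals, the functor of points

`exists_sub`: a Hopf ideal of the Hopf algebra of a finite commutative group scheme defines a subobject; `ptFun S`: the
functor of points with values in `S` as a `PtFun`; `toPt`: points with values in `L` are algebra maps.
-/

set_option autoImplicit false

universe u

open CategoryTheory MonoidalCategory CartesianMonoidalCategory MonObj GrpObj AlgebraicGeometry Limits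

namespace K590.Sub

open K525.AlgC K525.OrdC K525.AbsOrd K525.AVC K525.Pts Groth.Agent.Books Groth.Agent.Books.AffBridge
open Groth.Agent.Books.AffBridge2 Groth.Agent.Sga3.H830.CommGrpProd Groth.Agent.Sga3.H830.CommAux
open K590.Mdl K590.Hyper

variable {k : Type u} [Field k]

/-- The functor of points with values in `S`. -/
noncomputable def ptFun (S : Over (Spec (CommRingCat.of k))) : PtFun (Alg k) where
  obj X := Additive (S ⟶ X.obj.X)
  grp X := inferInstance
  map f := mp f
  map_comp f g x := mp_comp f g x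
  map_id x := mp_id x
  map_add f g x := mp_add f g x
  inj f hf := by
    have := mono_und f
    intro a b hab
    have h1 : a.toMul ≫ und f = b.toMul ≫ und f := Additive.ofMul.injective hab
    exact Additive.toMul.injective ((cancel_mono (und f)).1 h1)
  ker i f hi hk w hw := by
    have h1 : w.toMul ≫ und f = 1 := hw
    obtain ⟨t, ht⟩ := kernel_pts i f (fun T x hx => hk x hx) w.toMul h1
    exact ⟨Additive.ofMul t, congrArg Additive.ofMul ht⟩

theorem ptFun_map (S : Over (Spec (CommRingCat.of k))) {X Y : Alg k} (f : X ⟶ Y) (x : S ⟶ X.obj.X) :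
    (ptFun S).map f (Additive.ofMul x) = Additive.ofMul (x ≫ und f) := rfl

namespace HM

variable {G H : Alg k} (M : HM G) (N : HM H) (L : Type u) [CommRing L] [Algebra k L]

/-- Points with values in an algebra. -/
noncomputable def toPt : (M.C →ₐ[k] L) ≃ (SpecOver k L ⟶ G.obj.X) where
  toFun φ := specMap k φ ≫ M.e.inv
  invFun x := specPreimage k (x ≫ M.e.hom)
  left_inv φ := by
    show specPreimage k ((specMap k φ ≫ M.e.inv) ≫ M.e.hom) = φ
    rw [Category.assoc, Iso.inv_hom_id, Category.comp_id, specPreimage_specMap]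
  right_inv x := by
    show specMap k (specPreimage k (x ≫ M.e.hom)) ≫ M.e.inv = x
    rw [specMap_specPreimage, Category.assoc, Iso.hom_inv_id, Category.comp_id]

variable {L}

theorem toPt_apply (φ : M.C →ₐ[k] L) : toPt M L φ = specMap k φ ≫ M.e.inv := rfl

theorem toPt_comp (f : G ⟶ H) (φ : M.C →ₐ[k] L) :
    toPt M L φ ≫ und f = toPt N L (φ.comp (M.pull N f : N.C →ₐ[k] M.C)) := by
  rw [toPt_apply, toPt_apply, specMap_comp, M.specMap_pull N f]
  simp only [Category.assoc, Iso.hom_inv_id, Category.comp_id]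

theorem toPt_mul (φ ψ : WithConv (M.C →ₐ[k] L)) :
    toPt M L (φ * ψ).ofConv = toPt M L φ.ofConv * toPt M L ψ.ofConv := by
  rw [toPt_apply, toPt_apply, toPt_apply, specMap_mul, MonObj.mul_comp]

theorem toPt_one : toPt M L (1 : WithConv (M.C →ₐ[k] L)).ofConv = 1 := by
  rw [toPt_apply, specMap_one, MonObj.one_comp]

end HM

theorem isMonHom_mk {A : Type u} [CommRing A] [HopfAlgebra k A] (J : Ideal A) [J.IsHopfIdeal k] :
    IsMonHom (specMap k (Ideal.Quotient.mkₐ k J)) :=
  isMonHom_specMap k (Bialgebra.Quotient.mkBialgHom (R := k) J)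

/-- **The subobject attached to a Hopf ideal.** -/
theorem exists_sub {T : Alg k} (M : HM T) (J : Ideal M.C) (hJ : J.IsHopfIdeal k) :
    ∃ (K : Alg k) (i : K ⟶ T), Mono i ∧ ord K = Module.finrank k (M.C ⧸ J) ∧
      ∀ (L : Type u) [CommRing L] [Algebra k L] (φ : M.C →ₐ[k] L), (∀ c ∈ J, φ c = 0) →
        ∃ z : SpecOver k L ⟶ K.obj.X, z ≫ und i = HM.toPt M L φ := by
  have h1 : IsMonHom (specMap k (Ideal.Quotient.mkₐ k J)) := isMonHom_mk J
  let j : SpecOver k (M.C ⧸ J) ⟶ T.obj.X := specMap k (Ideal.Quotient.mkₐ k J) ≫ M.e.inv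
  have hj : IsMonHom j := inferInstance
  have hcl : IsClosedImmersion (specMap k (Ideal.Quotient.mkₐ k J)).left :=
    (isClosedImmersion_specMap_iff k _).2 (Ideal.Quotient.mkₐ_surjective k J)
  have h5 : IsIso M.e.inv.left := inferInstanceAs (IsIso ((Over.forget _).map M.e.inv))
  have hcl' : IsClosedImmersion j.left := by
    show IsClosedImmersion (_ ≫ _)
    infer_instance
  have hm : Mono j := by
    have : Mono ((Over.forget _).map j) := inferInstanceAs (Mono j.left)
    exact (Over.forget _).mono_of_mono_map this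
  have hcomm : IsCommMonObj (SpecOver k (M.C ⧸ J)) := isCommMonObj_of_mono j
  have hfin : IsFinite (SpecOver k (M.C ⧸ J)).hom := by
    have : IsFinite (Spec.map (CommRingCat.ofHom (algebraMap k (M.C ⧸ J)))) := by
      rw [IsFinite.SpecMap_iff]
      exact RingHom.finite_algebraMap.2 inferInstance
    exact this
  let K : Alg k := ⟨CommGrp.mk (SpecOver k (M.C ⧸ J)),
    (inferInstance : LocallyOfFiniteType (SpecOver k (M.C ⧸ J)).hom),
    (inferInstance : QuasiCompact (SpecOver k (M.C ⧸ J)).hom)⟩
  let i : K ⟶ T := mkHomP (G := K) (H := T) j hj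
  have hui : und i = j := rfl
  have hmi : Mono (und i) := hm
  have hi : Mono i := mono_of_und i
  refine ⟨K, i, hi, K525.ModC.ord_eq_finrank K hfin (Iso.refl _), ?_⟩
  intro L _ _ φ hφ
  refine ⟨specMap k (Ideal.Quotient.liftₐ J φ hφ), ?_⟩
  rw [hui]
  show specMap k _ ≫ specMap k (Ideal.Quotient.mkₐ k J) ≫ M.e.inv = _
  rw [← Category.assoc, ← specMap_comp, HM.toPt_apply]
  congr 2

end K590.Sub
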