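import Groth.Agent.AbVar.K590.Desc

/-!
# Sums of abelian varieties

`exists_sum`: the sum of a finite family of abelian varieties, with its torsion.
-/

set_option autoImplicit false

universe w v u

open CategoryTheory Limits ZeroObject K525.AbsOrd K525.AbsD

namespace K590.Sum

open K590.OrdGI K590.OrdFrob

section Abs

variable {C : Type u} [Category.{v} C] [Abelian C] {ord : C → ℕ} (h : IsOrd ord)

attribute [local instance] Abelian.hasFiniteBiproducts

theorem nsmul_biprod_fst (X Y : C) (n : ℕ) : (n • 𝟙 (X ⊞ Y)) ≫ biprod.fst = biprod.fst ≫ (n • 𝟙 X) := by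
  rw [smul_id_comp, comp_smul_id]

theorem nsmul_biprod_snd (X Y : C) (n : ℕ) : (n • 𝟙 (X ⊞ Y)) ≫ biprod.snd = biprod.snd ≫ (n • 𝟙 Y) := by
  rw [smul_id_comp, comp_smul_id]

include h in
theorem div_biprod {X Y : C} {r s : ℕ} (hX : Div ord X r) (hY : Div ord Y s) : Div ord (X ⊞ Y) (r + s) where
  epi n hn := by
    have h1 := hX.epi n hn
    have h2 := hY.epi n hn
    rw [Preadditive.epi_iff_cancel_zero]
    intro Z g hg
    have e1 : biprod.inl ≫ g = 0 := by
      rw [← cancel_epi (n • 𝟙 X), comp_zero, ← Category.assoc]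
      have : (n • 𝟙 X) ≫ biprod.inl = biprod.inl ≫ (n • 𝟙 (X ⊞ Y)) := by rw [smul_id_comp, comp_smul_id]
      rw [this, Category.assoc, hg, comp_zero]
    have e2 : biprod.inr ≫ g = 0 := by
      rw [← cancel_epi (n • 𝟙 Y), comp_zero, ← Category.assoc]
      have : (n • 𝟙 Y) ≫ biprod.inr = biprod.inr ≫ (n • 𝟙 (X ⊞ Y)) := by rw [smul_id_comp, comp_smul_id]
      rw [this, Category.assoc, hg, comp_zero]
    apply biprod.hom_ext'
    · rw [e1, comp_zero]
    · rw [e2, comp_zero]
  card n hn := by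
    -- `X[n] → (X ⊞ Y)[n] → Y[n]`
    let T := kernel (n • 𝟙 (X ⊞ Y))
    let a : kernel (n • 𝟙 X) ⟶ T := kernel.lift _ (kernel.ι (n • 𝟙 X) ≫ biprod.inl) (by
      have : biprod.inl ≫ (n • 𝟙 (X ⊞ Y)) = (n • 𝟙 X) ≫ biprod.inl := by rw [smul_id_comp, comp_smul_id]
      rw [Category.assoc, this, ← Category.assoc, kernel.condition, zero_comp])
    let b : T ⟶ kernel (n • 𝟙 Y) := kernel.lift _ (kernel.ι (n • 𝟙 (X ⊞ Y)) ≫ biprod.snd) (by
      rw [Category.assoc, ← nsmul_biprod_snd, ← Category.assoc, kernel.condition, zero_comp])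
    let c : kernel (n • 𝟙 Y) ⟶ T := kernel.lift _ (kernel.ι (n • 𝟙 Y) ≫ biprod.inr) (by
      have : biprod.inr ≫ (n • 𝟙 (X ⊞ Y)) = (n • 𝟙 Y) ≫ biprod.inr := by rw [smul_id_comp, comp_smul_id]
      rw [Category.assoc, this, ← Category.assoc, kernel.condition, zero_comp])
    let d : T ⟶ kernel (n • 𝟙 X) := kernel.lift _ (kernel.ι (n • 𝟙 (X ⊞ Y)) ≫ biprod.fst) (by
      rw [Category.assoc, ← nsmul_biprod_fst, ← Category.assoc, kernel.condition, zero_comp])
    have ha : a ≫ kernel.ι (n • 𝟙 (X ⊞ Y)) = kernel.ι (n • 𝟙 X) ≫ biprod.inl := kernel.lift_ι _ _ _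
    have hb : b ≫ kernel.ι (n • 𝟙 Y) = kernel.ι (n • 𝟙 (X ⊞ Y)) ≫ biprod.snd := kernel.lift_ι _ _ _
    have hc : c ≫ kernel.ι (n • 𝟙 (X ⊞ Y)) = kernel.ι (n • 𝟙 Y) ≫ biprod.inr := kernel.lift_ι _ _ _
    have hd : d ≫ kernel.ι (n • 𝟙 X) = kernel.ι (n • 𝟙 (X ⊞ Y)) ≫ biprod.fst := kernel.lift_ι _ _ _
    have hab : a ≫ b = 0 := by
      rw [← cancel_mono (kernel.ι (n • 𝟙 Y)), Category.assoc, hb, ← Category.assoc, ha, Category.assoc, biprod.inl_snd,
        comp_zero, zero_comp]
    have hcb : c ≫ b = 𝟙 _ := by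
      rw [← cancel_mono (kernel.ι (n • 𝟙 Y)), Category.assoc, hb, ← Category.assoc, hc, Category.assoc, biprod.inr_snd,
        Category.comp_id, Category.id_comp]
    have had : a ≫ d = 𝟙 _ := by
      rw [← cancel_mono (kernel.ι (n • 𝟙 X)), Category.assoc, hd, ← Category.assoc, ha, Category.assoc, biprod.inl_fst,
        Category.comp_id, Category.id_comp]
    have htot : d ≫ a + b ≫ c = 𝟙 T := by
      rw [← cancel_mono (kernel.ι (n • 𝟙 (X ⊞ Y))), Preadditive.add_comp, Category.assoc, Category.assoc, ha, hc,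
        ← Category.assoc, ← Category.assoc, hd, hb, Category.assoc, Category.assoc, ← Preadditive.comp_add, biprod.total,
        Category.comp_id, Category.id_comp]
    have e1 : ord T = ord (kernel (n • 𝟙 X)) * ord (kernel (n • 𝟙 Y)) := by
      refine h.mul (ShortComplex.mk a b hab)
        { exact := ?_
          mono_f := ?_
          epi_g := ?_ }
      · rw [ShortComplex.exact_iff_exact_up_to_refinements]
        intro Z y hy
        have hy' : y ≫ b = 0 := hy
        refine ⟨Z, 𝟙 Z, inferInstance, y ≫ d, ?_⟩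
        rw [Category.id_comp]
        show y = (y ≫ d) ≫ a
        have : y = y ≫ (d ≫ a + b ≫ c) := by rw [htot, Category.comp_id]
        rw [Preadditive.comp_add, ← Category.assoc y b c, hy', zero_comp, add_zero] at this
        rw [Category.assoc]
        exact this
      · have : Mono (a ≫ d) := by rw [had]; infer_instance
        exact mono_of_mono a d
      · have : Epi (c ≫ b) := by rw [hcb]; infer_instance
        exact epi_of_epi c b
    show ord T = _
    rw [e1, hX.card n hn, hY.card n hn, pow_add]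

include h in
theorem div_zero {X : C} (hX : IsZero X) : Div ord X 0 where
  epi n hn := ⟨fun a b _ => hX.eq_of_src a b⟩
  card n hn := by
    rw [pow_zero]
    exact h.zero _ (IsZero.of_mono (kernel.ι (n • 𝟙 X)) hX)

end Abs

section AV

open K525.AlgC K525.OrdC K525.AVC

variable {k : Type u} [Field k]

attribute [local instance] Abelian.hasFiniteBiproducts

/-- **The sum of a finite family of abelian varieties.** -/
theorem exists_sum (hord : IsOrd (ord (k := k))) {J : Type w} (B : J → Alg k) (r : J → ℕ) (hB : ∀ j, IsAV (B j))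
    (hr : ∀ j, Div (ord (k := k)) (B j) (r j)) (s : Finset J) :
    ∃ (A : Alg k) (i : ∀ j, B j ⟶ A) (q : ∀ j, A ⟶ B j), IsAV A ∧ Div (ord (k := k)) A (∑ j ∈ s, r j) ∧
      (∀ j ∈ s, i j ≫ q j = 𝟙 (B j)) ∧ ∑ j ∈ s, q j ≫ i j = 𝟙 A := by
  classical
  induction s using Finset.induction_on with
  | empty =>
    refine ⟨0, fun j => 0, fun j => 0, isAV_of_isZero (isZero_zero _), ?_, fun j hj => absurd hj (Finset.notMem_empty j), ?_⟩
    · rw [Finset.sum_empty]; exact div_zero hord (isZero_zero _)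
    · exact (isZero_zero _).eq_of_src _ _
  | insert j s hj ih =>
    obtain ⟨A, i, q, hA, hd, hiq, htot⟩ := ih
    let i' : ∀ l, B l ⟶ A ⊞ B j := Function.update (fun l => i l ≫ biprod.inl) j biprod.inr
    let q' : ∀ l, A ⊞ B j ⟶ B l := Function.update (fun l => biprod.fst ≫ q l) j biprod.snd
    have hij : i' j = biprod.inr := Function.update_self ..
    have hqj : q' j = biprod.snd := Function.update_self ..
    have hil : ∀ l, l ≠ j → i' l = i l ≫ biprod.inl := fun l hl => Function.update_of_ne hl ..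
    have hql : ∀ l, l ≠ j → q' l = biprod.fst ≫ q l := fun l hl => Function.update_of_ne hl ..
    refine ⟨A ⊞ B j, i', q', isAV_biprod hA (hB j), ?_, ?_, ?_⟩
    · rw [Finset.sum_insert hj, add_comm]
      exact div_biprod hord hd (hr j)
    · intro l hl
      by_cases hlj : l = j
      · subst hlj
        rw [hij, hqj, biprod.inr_snd]
      · rw [hil l hlj, hql l hlj, Category.assoc, ← Category.assoc biprod.inl, biprod.inl_fst, Category.id_comp]
        exact hiq l ((Finset.mem_insert.1 hl).resolve_left hlj)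
    · rw [Finset.sum_insert hj, hij, hqj]
      have h1 : ∑ l ∈ s, q' l ≫ i' l = biprod.fst ≫ (∑ l ∈ s, q l ≫ i l) ≫ biprod.inl := by
        rw [Preadditive.sum_comp, Preadditive.comp_sum]
        refine Finset.sum_congr rfl fun l hl => ?_
        have hlj : l ≠ j := fun h => hj (h ▸ hl)
        rw [hil l hlj, hql l hlj]
        simp only [Category.assoc]
      rw [h1, htot, Category.id_comp, add_comm, biprod.total]

end AV

end K590.Sum
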